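import Mathlib

/-!
# Definitions for the 2-length theorems of Bryukhanova

`Form`: a nondegenerate alternating pairing on a finite abelian group of odd order (written
multiplicatively). `Heis`: an irreducible module for a group of class two, given by the images of
coset representatives of the scalars. `chain`: iterated commutators of a module with the derived
series of an acting group. `IsRoot`: the exceptional elements of Theorem B of Hall and Higman seen
on the symplectic space.
-/

set_option autoImplicit false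

namespace CfsgLib.TwoLength

open Module
open scoped commutatorElement

/-- The elements inverted by `f`. -/
def invG {W : Type*} [CommGroup W] (f : MulAut W) : Subgroup W where
  carrier := {w | f w = w⁻¹}
  one_mem' := by simp
  mul_mem' := by
    intro a b ha hb
    simp only [Set.mem_ofPred_eq] at ha hb ⊢
    rw [map_mul, ha, hb, mul_inv]
  inv_mem' := by
    intro a ha
    simp only [Set.mem_ofPred_eq] at ha ⊢
    rw [map_inv, ha]

/-- The elements fixed by `f`. -/
def fixG {W : Type*} [CommGroup W] (f : MulAut W) : Subgroup W where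
  carrier := {w | f w = w}
  one_mem' := by simp
  mul_mem' := by
    intro a b ha hb
    simp only [Set.mem_ofPred_eq] at ha hb ⊢
    rw [map_mul, ha, hb]
  inv_mem' := by
    intro a ha
    simp only [Set.mem_ofPred_eq] at ha ⊢
    rw [map_inv, ha]

theorem mem_invG {W : Type*} [CommGroup W] {f : MulAut W} {w : W} : w ∈ invG f ↔ f w = w⁻¹ :=
  Iff.rfl

theorem mem_fixG {W : Type*} [CommGroup W] {f : MulAut W} {w : W} : w ∈ fixG f ↔ f w = w := Iff.rfl

/-- A nondegenerate alternating pairing on a group of odd order. -/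
structure Form (W A : Type*) [CommGroup W] [CommGroup A] where
  B : W →* W →* A
  alt : ∀ w, B w w = 1
  nondeg : ∀ v, (∀ w, B v w = 1) → v = 1
  odd : Odd (Nat.card W)

/-- The isometries of a form. -/
def Form.isom {W A : Type*} [CommGroup W] [CommGroup A] (Φ : Form W A) : Subgroup (MulAut W) where
  carrier := {f | ∀ v w, Φ.B (f v) (f w) = Φ.B v w}
  one_mem' := by intro v w; rfl
  mul_mem' := by
    intro a b ha hb v w
    show Φ.B (a (b v)) (a (b w)) = _
    rw [ha, hb]
  inv_mem' := by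
    intro a ha v w
    rw [← ha (a⁻¹ v) (a⁻¹ w), MulAut.apply_inv_self, MulAut.apply_inv_self]

/-- `f` is a root of order `2 ^ m`: its involution `f ^ 2 ^ (m - 1)` inverts exactly a subgroup of
order `(2 ^ m - 1) ^ 2` and `f` centralises what this involution centralises. -/
structure IsRoot {W : Type*} [CommGroup W] (f : MulAut W) (m : ℕ) : Prop where
  two_le : 2 ≤ m
  prime : (2 ^ m - 1).Prime
  pow_eq : f ^ 2 ^ m = 1
  card_inv : Nat.card ↥(invG (f ^ 2 ^ (m - 1))) = (2 ^ m - 1) ^ 2
  fix : ∀ w ∈ fixG (f ^ 2 ^ (m - 1)), f w = w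

/-- `f` is a root of order `2 ^ m`, or its `2 ^ (m - 1)`-th power is trivial. -/
def IsRootLike {W : Type*} [CommGroup W] (f : MulAut W) (m : ℕ) : Prop :=
  f ^ 2 ^ (m - 1) = 1 ∨ IsRoot f m

/-- The norms `(t g) ^ M * (g ^ M)⁻¹`, `M = 2 ^ (m - 1)`, for `g ∈ Γ` and `t ∈ T`, both root-like. -/
def IsNorm {W : Type*} [CommGroup W] (Γ T : Subgroup (MulAut W)) (z : MulAut W) : Prop :=
  ∃ m g t, g ∈ Γ ∧ t ∈ T ∧ 1 ≤ m ∧ IsRootLike g m ∧ IsRootLike (t * g) m ∧
    z = (t * g) ^ 2 ^ (m - 1) * (g ^ 2 ^ (m - 1))⁻¹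

/-- An irreducible module for a group of class two, modulo scalars. -/
structure Heis (F U W : Type*) [Field F] [AddCommGroup U] [Module F U] [CommGroup W] where
  π : W → Module.End F U
  form : Form W Fˣ
  π_one : π 1 = 1
  π_mul : ∀ v w, ∃ c : F, c ≠ 0 ∧ π v * π w = c • π (v * w)
  π_comm : ∀ v w, π v * π w = (form.B v w : F) • (π w * π v)
  irred : ∀ X : Submodule F U, (∀ w, ∀ u ∈ X, π w u ∈ X) → X = ⊥ ∨ X = ⊤

/-- `ρ` acts on the module as `φ` acts on the group. -/
def Heis.IsCompat {F U W Γ : Type*} [Field F] [AddCommGroup U] [Module F U] [CommGroup W] [Group Γ]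
    (h : Heis F U W) (ρ : Representation F Γ U) (φ : Γ →* MulAut W) : Prop :=
  ∀ g w, ∃ c : F, c ≠ 0 ∧ ρ g * h.π w = c • (h.π (φ g w) * ρ g)

/-- The derived series of a subgroup, as subgroups. -/
def dS {Γ : Type*} [Group Γ] (P : Subgroup Γ) : ℕ → Subgroup Γ
  | 0 => P
  | k + 1 => ⁅dS P k, dS P k⁆

/-- `[X, D]` in a module. -/
def comm {k V Γ : Type*} [CommRing k] [AddCommGroup V] [Module k V] [Group Γ]
    (ρ : Representation k Γ V) (D : Subgroup Γ) (X : Submodule k V) : Submodule k V :=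
  ⨆ g ∈ D, X.map (ρ g - 1)

/-- `[X, D 0, D 1, …, D n]` in a module. -/
def chain {k V Γ : Type*} [CommRing k] [AddCommGroup V] [Module k V] [Group Γ]
    (ρ : Representation k Γ V) : (ℕ → Subgroup Γ) → ℕ → Submodule k V → Submodule k V
  | D, 0, X => comm ρ (D 0) X
  | D, n + 1, X => chain ρ (fun i => D (i + 1)) n (comm ρ (D 0) X)

section Chain

variable {k V Γ : Type*} [CommRing k] [AddCommGroup V] [Module k V] [Group Γ]
  (ρ : Representation k Γ V)

theorem mem_comm {D : Subgroup Γ} {X : Submodule k V} {g : Γ} (hg : g ∈ D) {v : V} (hv : v ∈ X) :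
    ρ g v - v ∈ comm ρ D X :=
  Submodule.mem_iSup_of_mem g (Submodule.mem_iSup_of_mem hg ⟨v, hv, rfl⟩)

theorem comm_le_iff {D : Subgroup Γ} {X Y : Submodule k V} :
    comm ρ D X ≤ Y ↔ ∀ g ∈ D, ∀ v ∈ X, ρ g v - v ∈ Y := by
  refine ⟨fun h g hg v hv => h (mem_comm ρ hg hv), fun h => ?_⟩
  refine iSup_le fun g => iSup_le fun hg => ?_
  rintro _ ⟨v, hv, rfl⟩
  exact h g hg v hv

theorem comm_mono {D : Subgroup Γ} {X Y : Submodule k V} (h : X ≤ Y) : comm ρ D X ≤ comm ρ D Y :=
  (comm_le_iff ρ).2 fun _ hg _ hv => mem_comm ρ hg (h hv)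

theorem comm_mono_left {D E : Subgroup Γ} {X : Submodule k V} (h : D ≤ E) :
    comm ρ D X ≤ comm ρ E X :=
  (comm_le_iff ρ).2 fun _ hg _ hv => mem_comm ρ (h hg) hv

theorem chain_mono (n : ℕ) : ∀ (D : ℕ → Subgroup Γ) {X Y : Submodule k V}, X ≤ Y →
    chain ρ D n X ≤ chain ρ D n Y := by
  induction n with
  | zero => intro D X Y h; exact comm_mono ρ h
  | succ n ih => intro D X Y h; exact ih _ (comm_mono ρ h)

theorem chain_succ_eq (n : ℕ) : ∀ (D : ℕ → Subgroup Γ) (X : Submodule k V),
    chain ρ D (n + 1) X = comm ρ (D (n + 1)) (chain ρ D n X) := by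
  induction n with
  | zero => intro D X; rfl
  | succ n ih =>
    intro D X
    rw [chain, ih, chain]

end Chain

theorem dS_le {Γ : Type*} [Group Γ] (P : Subgroup Γ) (n : ℕ) : dS P (n + 1) ≤ dS P n :=
  Subgroup.commutator_le_self _

theorem dS_antitone {Γ : Type*} [Group Γ] (P : Subgroup Γ) : Antitone (dS P) :=
  antitone_nat_of_succ_le (dS_le P)

theorem dS_add {Γ : Type*} [Group Γ] (P : Subgroup Γ) (i n : ℕ) :
    dS (dS P i) n = dS P (i + n) := by
  induction n with
  | zero => rfl
  | succ n ih => show ⁅dS (dS P i) n, dS (dS P i) n⁆ = _; rw [ih]; rfl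

end CfsgLib.TwoLength
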