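import Mathlib
import Cfsg.Agent.Lib.TwoLength.Defs

/-!
# Chains of commutators in imprimitive modules

A family of submodules `Vi` permuted by a `p`-group: when every member of the derived series of
`N` up to `k` moves `i`, the chain `[V, N, N', …]` of length `k` projects onto `Vi i`.
-/

set_option autoImplicit false

namespace CfsgLib.TwoLength

open scoped commutatorElement

universe uk uV uG uι

section General

variable {k : Type uk} {V : Type uV} {Γ : Type uG} [CommRing k] [AddCommGroup V] [Module k V]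
  [Group Γ] (ρ : Representation k Γ V)

theorem comm_sup_le {D : Subgroup Γ} {X Y : Submodule k V} (hY : ∀ g ∈ D, ∀ y ∈ Y, ρ g y ∈ Y) :
    comm ρ D (X ⊔ Y) ≤ comm ρ D X ⊔ Y := by
  refine (comm_le_iff ρ).2 fun g hg v hv => ?_
  obtain ⟨x, hx, y, hy, rfl⟩ := Submodule.mem_sup.1 hv
  rw [map_add, add_sub_add_comm]
  exact Submodule.add_mem_sup (mem_comm ρ hg hx) (Submodule.sub_mem _ (hY g hg y hy) hy)

theorem chain_sup_le (n : ℕ) : ∀ (D : ℕ → Subgroup Γ) {X Y : Submodule k V},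
    (∀ i, ∀ g ∈ D i, ∀ y ∈ Y, ρ g y ∈ Y) → chain ρ D n (X ⊔ Y) ≤ chain ρ D n X ⊔ Y := by
  induction n with
  | zero => intro D X Y hY; exact comm_sup_le ρ (hY 0)
  | succ n ih =>
    intro D X Y hY
    show chain ρ _ n (comm ρ (D 0) (X ⊔ Y)) ≤ chain ρ _ n (comm ρ (D 0) X) ⊔ Y
    exact (chain_mono ρ n _ (comm_sup_le ρ (hY 0))).trans (ih _ fun i => hY (i + 1))

theorem chain_add_eq (D : ℕ → Subgroup Γ) (a b : ℕ) (X : Submodule k V) :
    chain ρ D (a + b + 1) X = chain ρ (fun i => D (a + 1 + i)) b (chain ρ D a X) := by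
  induction b with
  | zero => rw [Nat.add_zero, chain_succ_eq]; rfl
  | succ b ih =>
    rw [chain_succ_eq, chain_succ_eq ρ b]
    show comm ρ (D (a + (b + 1) + 1)) (chain ρ D (a + b + 1) X) = _
    rw [ih, show a + (b + 1) + 1 = a + 1 + (b + 1) by omega]

theorem iSup_invariant {α : Type*} {Q : α → Prop} {Vi : α → Submodule k V} {g : Γ}
    (σ : α → α) (hmap : ∀ j, (Vi j).map (ρ g) = Vi (σ j)) (hσ : ∀ j, Q j → Q (σ j)) :
    ∀ y ∈ ⨆ j, ⨆ (_ : Q j), Vi j, ρ g y ∈ ⨆ j, ⨆ (_ : Q j), Vi j := by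
  intro y hy
  refine (show (⨆ j, ⨆ (_ : Q j), Vi j).map (ρ g) ≤ ⨆ j, ⨆ (_ : Q j), Vi j from ?_)
    (Submodule.mem_map_of_mem hy)
  rw [Submodule.map_iSup]
  refine iSup_le fun j => ?_
  rw [Submodule.map_iSup]
  refine iSup_le fun hj => ?_
  rw [hmap j]
  exact le_iSup₂_of_le (σ j) (hσ j hj) le_rfl

end General

/-- A proper subgroup of a finite `p`-group lies in a proper subgroup containing all commutators. -/
theorem exists_maximal_commutator {Γ : Type uG} [Group Γ] {p : ℕ} [Fact p.Prime] {P : Subgroup Γ}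
    [Finite P] (hP : IsPGroup p P) {S : Subgroup Γ} {x : Γ} (hxP : x ∈ P) (hxS : x ∉ S) :
    ∃ M : Subgroup Γ, M ≤ P ∧ S ⊓ P ≤ M ∧ Nat.card M < Nat.card P ∧
      ∀ a ∈ P, ∀ b ∈ P, ⁅a, b⁆ ∈ M := by
  have hne : S.subgroupOf P ≠ ⊤ := fun h => hxS (Subgroup.subgroupOf_eq_top.1 h hxP)
  obtain ⟨M, hM, hSM⟩ := (eq_top_or_exists_le_coatom (S.subgroupOf P)).resolve_left hne
  haveI : Group.IsNilpotent P := hP.isNilpotent
  haveI : M.Normal := Subgroup.NormalizerCondition.normal_of_coatom M normalizerCondition_of_isNilpotent hM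
  haveI : Nontrivial (P ⧸ M) := QuotientGroup.nontrivial_iff.2 hM.1
  haveI := (hP.to_quotient M).center_nontrivial
  have hc : (Subgroup.center (P ⧸ M)).comap (QuotientGroup.mk' M) = ⊤ := by
    refine hM.2 _ (lt_of_le_of_ne ?_ fun h => ?_)
    · intro a ha
      rw [Subgroup.mem_comap, QuotientGroup.mk'_apply, (QuotientGroup.eq_one_iff a).2 ha]
      exact one_mem _
    · obtain ⟨⟨q, hq⟩, hq1⟩ := exists_ne (1 : Subgroup.center (P ⧸ M))
      obtain ⟨a, rfl⟩ := QuotientGroup.mk'_surjective M q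
      have ha : a ∈ M := by rw [h]; exact hq
      exact hq1 (Subtype.ext ((QuotientGroup.eq_one_iff a).2 ha))
  refine ⟨M.map P.subtype, Subgroup.map_subtype_le M, ?_, ?_, fun a ha b hb => ?_⟩
  · intro s hs
    exact ⟨⟨s, hs.2⟩, hSM (Subgroup.mem_subgroupOf.2 hs.1), rfl⟩
  · rw [Subgroup.card_map_of_injective P.subtype_injective]
    exact lt_of_le_of_ne M.card_le_card_group fun h => hM.1 (Subgroup.eq_top_of_card_eq M h)
  · refine ⟨⁅(⟨a, ha⟩ : P), ⟨b, hb⟩⁆, (QuotientGroup.eq_one_iff _).1 ?_, rfl⟩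
    have hz : QuotientGroup.mk' M ⟨b, hb⟩ ∈ Subgroup.center (P ⧸ M) := by
      rw [← Subgroup.mem_comap, hc]; exact Subgroup.mem_top _
    show QuotientGroup.mk' M ⁅(⟨a, ha⟩ : P), ⟨b, hb⟩⁆ = 1
    rw [map_commutatorElement, commutatorElement_eq_one_iff_mul_comm]
    exact Subgroup.mem_center_iff.1 hz _

variable {k : Type uk} {V : Type uV} {Γ : Type uG} {ι : Type uι} [CommRing k] [AddCommGroup V]
  [Module k V] [Group Γ] [MulAction Γ ι] (ρ : Representation k Γ V) (Vi : ι → Submodule k V)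

theorem chain_full_orbit {p : ℕ} [Fact p.Prime] (m : ℕ) :
    ∀ (P : Subgroup Γ), Nat.card P = m → IsPGroup p P → Finite P →
      (∀ g ∈ P, ∀ j, (Vi j).map (ρ g) = Vi (g • j)) →
    ∀ (N : Subgroup Γ), N ≤ P → ∀ (l : ℕ) (i : ι), (∀ n ≤ l, ∃ g ∈ dS N n, g • i ≠ i) →
      Vi i ≤ chain ρ (dS N) l (⨆ g ∈ P, Vi (g • i)) ⊔ ⨆ j, ⨆ (_ : j ≠ i), Vi j := by
  induction m using Nat.strong_induction_on with
  | _ m ih =>
    intro P hPm hP hfin hVi N hNP l i hmove
    haveI := hfin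
    obtain ⟨g0, hg0, hg0i⟩ := hmove 0 (Nat.zero_le l)
    obtain ⟨M, hMP, hSM, hcard, hcomm⟩ :=
      exists_maximal_commutator hP (S := MulAction.stabilizer Γ i) (hNP hg0) hg0i
    haveI hMfin : Finite M := Finite.of_injective _ (Subgroup.inclusion_injective hMP)
    have hM : IsPGroup p M := hP.to_le hMP
    have hViM : ∀ g ∈ M, ∀ j, (Vi j).map (ρ g) = Vi (g • j) := fun g hg => hVi g (hMP hg)
    have hV1 : (⨆ g ∈ M, Vi (g • i)) ≤ ⨆ g ∈ P, Vi (g • i) :=
      iSup₂_le fun g hg => le_iSup₂_of_le g (hMP hg) le_rfl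
    by_cases hNM : N ≤ M
    · exact (ih _ (hPm ▸ hcard) M rfl hM hMfin hViM N hNM l i hmove).trans
        (sup_le_sup_right (chain_mono ρ l _ hV1) _)
    obtain ⟨g, hgN, hgM⟩ := SetLike.not_le_iff_exists.1 hNM
    set R1 : Submodule k V := ⨆ j, ⨆ (_ : ∀ h ∈ M, h • i ≠ j), Vi j with hR1
    have hR1le : R1 ≤ ⨆ j, ⨆ (_ : j ≠ i), Vi j :=
      iSup₂_le fun j hj => le_iSup₂_of_le j (fun h => hj 1 M.one_mem (by rw [one_smul, h])) le_rfl
    have hR1inv : ∀ h ∈ M, ∀ y ∈ R1, ρ h y ∈ R1 := fun h hh =>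
      iSup_invariant ρ (fun j => h • j) (hViM h hh) fun j hj h' hh' he =>
        hj (h⁻¹ * h') (M.mul_mem (M.inv_mem hh) hh') (by rw [mul_smul, he, inv_smul_smul])
    have hstep : (⨆ h ∈ M, Vi (h • i)) ≤ comm ρ N (⨆ h ∈ P, Vi (h • i)) ⊔ R1 := by
      refine iSup₂_le fun h hh v hv => ?_
      have h1 : v ∈ ⨆ h ∈ P, Vi (h • i) :=
        Submodule.mem_iSup_of_mem h (Submodule.mem_iSup_of_mem (hMP hh) hv)
      have h2 : ρ g v ∈ R1 := by
        refine Submodule.mem_iSup_of_mem (g • h • i) (Submodule.mem_iSup_of_mem ?_ ?_)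
        · intro h' hh' he
          have hs : h'⁻¹ * (g * h) ∈ MulAction.stabilizer Γ i ⊓ P := by
            refine Subgroup.mem_inf.2 ⟨?_,
              P.mul_mem (P.inv_mem (hMP hh')) (P.mul_mem (hNP hgN) (hMP hh))⟩
            rw [MulAction.mem_stabilizer_iff, mul_smul, mul_smul, ← he, inv_smul_smul]
          refine hgM ?_
          have := M.mul_mem (M.mul_mem hh' (hSM hs)) (M.inv_mem hh)
          rwa [mul_inv_cancel_left, mul_inv_cancel_right] at this
        · rw [← hVi g (hNP hgN)]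
          exact Submodule.mem_map_of_mem hv
      rw [show v = -(ρ g v - v) + ρ g v by abel]
      exact Submodule.add_mem_sup (Submodule.neg_mem _ (mem_comm ρ hgN h1)) h2
    cases l with
    | zero =>
      refine le_trans ?_ (sup_le_sup_left hR1le _)
      refine le_trans ?_ hstep
      exact le_iSup₂_of_le (1 : Γ) M.one_mem (by rw [one_smul])
    | succ l =>
      have hN1 : dS N 1 ≤ M :=
        Subgroup.commutator_le.2 fun a ha b hb => hcomm a (hNP ha) b (hNP hb)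
      have hshift : (fun n => dS N (n + 1)) = dS (dS N 1) := by
        funext n; rw [dS_add, Nat.add_comm n 1]
      have hrec := ih _ (hPm ▸ hcard) M rfl hM hMfin hViM (dS N 1) hN1 l i fun n hn => by
        rw [dS_add, Nat.add_comm 1 n]; exact hmove (n + 1) (Nat.succ_le_succ hn)
      refine hrec.trans (sup_le ?_ le_sup_right)
      rw [chain, hshift]
      refine (chain_mono ρ l _ hstep).trans ((chain_sup_le ρ l _ fun n h hh => ?_).trans
        (sup_le_sup_left hR1le _))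
      exact hR1inv h (hN1 (dS_antitone (dS N 1) (Nat.zero_le n) hh))

/-- The chain of length `l` projects onto `Vi i` if every `dS N n`, `n ≤ l`, moves `i`. -/
theorem chain_full {p : ℕ} [Fact p.Prime] {P : Subgroup Γ} [Finite P] (hP : IsPGroup p P)
    (hVi : ∀ g ∈ P, ∀ j, (Vi j).map (ρ g) = Vi (g • j)) {N : Subgroup Γ} (hNP : N ≤ P) (l : ℕ)
    (i : ι) (hmove : ∀ n ≤ l, ∃ g ∈ dS N n, g • i ≠ i) :
    Vi i ≤ chain ρ (dS N) l ⊤ ⊔ ⨆ j, ⨆ (_ : j ≠ i), Vi j :=
  (chain_full_orbit ρ Vi _ P rfl hP inferInstance hVi N hNP l i hmove).trans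
    (sup_le_sup_right (chain_mono ρ l _ le_top) _)

/-- The rest of a chain acts inside a block fixed by `dS N j`. -/
theorem chain_block {p : ℕ} [Fact p.Prime] {P : Subgroup Γ} [Finite P] (hP : IsPGroup p P)
    (hVi : ∀ g ∈ P, ∀ j, (Vi j).map (ρ g) = Vi (g • j)) {N : Subgroup Γ} (hNP : N ≤ P) (i : ι)
    {j l : ℕ} (hjl : j ≤ l) (hmove : ∀ n < j, ∃ g ∈ dS N n, g • i ≠ i)
    (hfix : ∀ g ∈ dS N j, g • i = i) :
    chain ρ (dS (dS N j)) (l - j) (Vi i) ≤ chain ρ (dS N) l ⊤ ⊔ ⨆ t, ⨆ (_ : t ≠ i), Vi t := by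
  cases j with
  | zero => exact (chain_mono ρ l _ le_top).trans le_sup_left
  | succ a =>
    obtain ⟨b, rfl⟩ : ∃ b, l = a + b + 1 := ⟨l - (a + 1), by omega⟩
    rw [show a + b + 1 - (a + 1) = b by omega, chain_add_eq,
      show (fun n => dS N (a + 1 + n)) = dS (dS N (a + 1)) from funext fun n => (dS_add N _ n).symm]
    refine (chain_mono ρ b _ (chain_full ρ Vi hP hVi hNP a i fun n hn =>
      hmove n (Nat.lt_succ_of_le hn))).trans (chain_sup_le ρ b _ fun n g hg => ?_)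
    have hgj : g ∈ dS N (a + 1) := dS_antitone (dS N (a + 1)) (Nat.zero_le n) hg
    refine iSup_invariant ρ (fun t => g • t) (hVi g (hNP (dS_antitone N (Nat.zero_le _) hgj)))
      fun t ht he => ht ?_
    rw [← hfix g hgj] at he
    exact smul_left_cancel g he

end CfsgLib.TwoLength
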