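import Cfsg.Agent.Lib.TwoLength.HeisBasis

/-!
# Invariant irreducible submodules

A module for a group of class two in which the commutators act as a nondegenerate pairing has an
irreducible submodule invariant under a given `2`-group of compatible operators.
-/

set_option autoImplicit false
set_option linter.style.haveILetI false

namespace CfsgLib.TwoLength

open Module

section Irred

variable {F U0 W Γ : Type*} [Field F] [AddCommGroup U0] [Module F U0] [CommGroup W] [Group Γ]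

/-- A minimal invariant submodule as an irreducible module. -/
def heisOfMinimal (π : W → End F U0) (form : Form W Fˣ) (h1 : π 1 = 1)
    (hmul : ∀ v w, ∃ c : F, c ≠ 0 ∧ π v * π w = c • π (v * w))
    (hcomm : ∀ v w, π v * π w = (form.B v w : F) • (π w * π v)) (X : Submodule F U0)
    (hX : ∀ w, ∀ u ∈ X, π w u ∈ X)
    (hmin : ∀ X' ≤ X, (∀ w, ∀ u ∈ X', π w u ∈ X') → X' = ⊥ ∨ X' = X) : Heis F X W where
  π w := (π w).restrict (hX w)
  form := form
  π_one := LinearMap.ext fun x => Subtype.ext (by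
    rw [LinearMap.coe_restrict_apply, h1]; rfl)
  π_mul v w := by
    obtain ⟨c, hc, e⟩ := hmul v w
    exact ⟨c, hc, LinearMap.ext fun x => Subtype.ext (LinearMap.congr_fun e (x : U0))⟩
  π_comm v w := LinearMap.ext fun x => Subtype.ext (LinearMap.congr_fun (hcomm v w) (x : U0))
  irred Z hZ := by
    rcases hmin (Z.map X.subtype) (Submodule.map_subtype_le X Z) (by
      rintro w _ ⟨z, hz, rfl⟩
      exact ⟨_, hZ w z hz, rfl⟩) with h | h
    · exact Or.inl (Submodule.map_injective_of_injective X.injective_subtype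
        (h.trans (Submodule.map_bot _).symm))
    · refine Or.inr (Submodule.map_injective_of_injective X.injective_subtype ?_)
      rw [h, Submodule.map_top, Submodule.range_subtype]

theorem heisOfMinimal_π (π : W → End F U0) (form : Form W Fˣ) (h1 : π 1 = 1)
    (hmul : ∀ v w, ∃ c : F, c ≠ 0 ∧ π v * π w = c • π (v * w))
    (hcomm : ∀ v w, π v * π w = (form.B v w : F) • (π w * π v)) (X : Submodule F U0)
    (hX : ∀ w, ∀ u ∈ X, π w u ∈ X)
    (hmin : ∀ X' ≤ X, (∀ w, ∀ u ∈ X', π w u ∈ X') → X' = ⊥ ∨ X' = X) (w : W) (x : X) :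
    ((heisOfMinimal π form h1 hmul hcomm X hX hmin).π w x : U0) = π w x := rfl

/-- Two irreducible modules with the same factor set are isomorphic. -/
theorem exists_intertwiner [IsAlgClosed F] [FiniteDimensional F U0] [Finite W] (π : W → End F U0)
    (form : Form W Fˣ) (h1 : π 1 = 1)
    (hmul : ∀ v w, ∃ c : F, c ≠ 0 ∧ π v * π w = c • π (v * w))
    (hcomm : ∀ v w, π v * π w = (form.B v w : F) • (π w * π v)) (X Y : Submodule F U0)
    [Nontrivial X] [Nontrivial Y]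
    (hX : ∀ w, ∀ u ∈ X, π w u ∈ X)
    (hXm : ∀ X' ≤ X, (∀ w, ∀ u ∈ X', π w u ∈ X') → X' = ⊥ ∨ X' = X)
    (hY : ∀ w, ∀ u ∈ Y, π w u ∈ Y)
    (hYm : ∀ X' ≤ Y, (∀ w, ∀ u ∈ X', π w u ∈ X') → X' = ⊥ ∨ X' = Y) :
    ∃ T : X ≃ₗ[F] Y, ∀ w (x : X), π w (T x : U0) = (T ⟨π w x, hX w x x.2⟩ : U0) := by
  set hA := heisOfMinimal π form h1 hmul hcomm X hX hXm with hAdef
  set hB := heisOfMinimal π form h1 hmul hcomm Y hY hYm with hBdef
  let Θ : End F X ≃ₗ[F] End F Y := hA.basis.equiv hB.basis (Equiv.refl W)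
  have hΘ : ∀ w, Θ (hA.π w) = hB.π w := fun w => by
    rw [← hA.basis_apply, ← hB.basis_apply]
    exact hA.basis.equiv_apply w hB.basis (Equiv.refl W)
  have hmulΘ : ∀ f g, Θ (f * g) = Θ f * Θ g := by
    have key : (LinearMap.mul F (End F X)).compr₂ Θ.toLinearMap
        = (LinearMap.mul F (End F Y)).compl₁₂ Θ.toLinearMap Θ.toLinearMap := by
      refine LinearMap.ext_basis hA.basis hA.basis fun v w => ?_
      rw [hA.basis_apply, hA.basis_apply, LinearMap.compr₂_apply, LinearMap.compl₁₂_apply,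
        LinearMap.mul_apply', LinearMap.mul_apply']
      show Θ (hA.π v * hA.π w) = Θ (hA.π v) * Θ (hA.π w)
      obtain ⟨c, -, e⟩ := hmul v w
      have eA : hA.π v * hA.π w = c • hA.π (v * w) :=
        LinearMap.ext fun x => Subtype.ext (LinearMap.congr_fun e (x : U0))
      have eB : hB.π v * hB.π w = c • hB.π (v * w) :=
        LinearMap.ext fun x => Subtype.ext (LinearMap.congr_fun e (x : U0))
      rw [eA, map_smul, hΘ, hΘ, hΘ, eB]
    exact fun f g => LinearMap.congr_fun (LinearMap.congr_fun key f) g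
  obtain ⟨T, hT⟩ := (AlgEquiv.ofLinearEquiv Θ (by rw [← hA.π_one, hΘ, hB.π_one])
    hmulΘ).eq_linearEquivConjAlgEquiv
  refine ⟨T, fun w x => ?_⟩
  have h2 := LinearMap.congr_fun (AlgEquiv.congr_fun hT (hA.π w)) (T x)
  rw [AlgEquiv.ofLinearEquiv_apply, hΘ, LinearEquiv.conjAlgEquiv_apply] at h2
  simp only [LinearMap.comp_apply, LinearEquiv.coe_coe, LinearEquiv.symm_apply_apply] at h2
  exact congrArg Subtype.val h2

variable (π : W → End F U0) (ρ : Representation F Γ U0) (φ : Γ →* MulAut W)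

/-- Moving the operators of `W` past `ρ a`. -/
theorem exists_conj (hc : ∀ g w, ∃ c : F, c ≠ 0 ∧ ρ g * π w = c • (π (φ g w) * ρ g)) (a : Γ)
    (w : W) : ∃ w' : W, ∃ c : F, (∀ y, ρ a (c • π w' y) = π w (ρ a y)) ∧
      ∀ y, ρ a⁻¹ (π w y) = c • π w' (ρ a⁻¹ y) := by
  obtain ⟨c, -, e⟩ := hc a⁻¹ w
  refine ⟨φ a⁻¹ w, c, fun y => ?_, fun y => LinearMap.congr_fun e y⟩
  have h1 := congrArg (ρ a) (LinearMap.congr_fun e (ρ a y))
  simp only [End.mul_apply, LinearMap.smul_apply, Representation.inv_self_apply,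
    Representation.self_inv_apply] at h1
  exact h1.symm

/-- An irreducible `W`-submodule invariant under a `2`-group. -/
theorem exists_irred [FiniteDimensional F U0] [Nontrivial U0] [IsAlgClosed F] [CharP F 2] [Finite W]
    [Finite Γ] (form : Form W Fˣ) (h1 : π 1 = 1)
    (hmul : ∀ v w, ∃ c : F, c ≠ 0 ∧ π v * π w = c • π (v * w))
    (hcomm : ∀ v w, π v * π w = (form.B v w : F) • (π w * π v))
    (hc : ∀ g w, ∃ c : F, c ≠ 0 ∧ ρ g * π w = c • (π (φ g w) * ρ g))
    (P : Subgroup Γ) (hP : IsPGroup 2 P) :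
    ∃ X : Submodule F U0, X ≠ ⊥ ∧ (∀ w, ∀ u ∈ X, π w u ∈ X) ∧ (∀ g ∈ P, ∀ u ∈ X, ρ g u ∈ X) ∧
      ∀ X' ≤ X, (∀ w, ∀ u ∈ X', π w u ∈ X') → X' = ⊥ ∨ X' = X := by
  haveI : Fact (Nat.Prime 2) := ⟨Nat.prime_two⟩
  suffices ∀ n, ∀ P : Subgroup Γ, IsPGroup 2 P → Nat.card P = 2 ^ n →
      ∃ X : Submodule F U0, X ≠ ⊥ ∧ (∀ w, ∀ u ∈ X, π w u ∈ X) ∧ (∀ g ∈ P, ∀ u ∈ X, ρ g u ∈ X) ∧
      ∀ X' ≤ X, (∀ w, ∀ u ∈ X', π w u ∈ X') → X' = ⊥ ∨ X' = X by
    obtain ⟨n, hn⟩ := IsPGroup.iff_card.1 hP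
    exact this n P hP hn
  intro n
  induction n with
  | zero =>
    intro P _ hn
    obtain ⟨X, ⟨hX0, hX⟩, hmin⟩ := wellFounded_lt.has_min
      {X : Submodule F U0 | X ≠ ⊥ ∧ ∀ w, ∀ u ∈ X, π w u ∈ X}
      ⟨⊤, top_ne_bot, fun _ _ _ => Submodule.mem_top⟩
    refine ⟨X, hX0, hX, fun g hg u hu => ?_, fun X' hle hinv => ?_⟩
    · have hPb : P = ⊥ := Subgroup.card_eq_one.1 (by simpa using hn)
      rw [hPb, Subgroup.mem_bot] at hg
      rw [hg, map_one]
      exact hu
    · by_contra hne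
      push Not at hne
      exact hmin X' ⟨hne.1, hinv⟩ (lt_of_le_of_ne hle hne.2)
  | succ n ih =>
    intro P hP hn
    obtain ⟨K, hK⟩ := Sylow.exists_subgroup_card_pow_prime (G := P) 2 (n := n)
      (hn.symm ▸ pow_dvd_pow 2 n.le_succ)
    have hidx : K.index = 2 := by
      have h2 := K.card_mul_index
      rw [hK, hn, pow_succ] at h2
      exact Nat.eq_of_mul_eq_mul_left (by positivity) h2
    haveI hKn : K.Normal := Subgroup.normal_of_index_eq_two hidx
    obtain ⟨g, hg⟩ : ∃ g : P, g ∉ K := by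
      by_contra hall
      push Not at hall
      rw [(eq_top_iff.2 fun x _ => hall x : K = ⊤), Subgroup.index_top] at hidx
      omega
    have hP1 : IsPGroup 2 (K.map P.subtype) :=
      hP.to_le (Subgroup.map_subtype_le K)
    obtain ⟨X, hX0, hX, hXK, hXm⟩ := ih (K.map P.subtype) hP1
      (by rw [Subgroup.card_map_of_injective P.subtype_injective, hK])
    have hXK' : ∀ k : P, k ∈ K → ∀ u ∈ X, ρ k u ∈ X := fun k hk => hXK _ ⟨k, hk, rfl⟩
    have hgg : g * g ∈ K := Subgroup.mul_self_mem_of_index_two hidx g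
    -- images
    have hmap : ∀ (a : Γ) (Z : Submodule F U0), (∀ w, ∀ u ∈ Z, π w u ∈ Z) →
        ∀ w, ∀ u ∈ Z.map (ρ a), π w u ∈ Z.map (ρ a) := by
      rintro a Z hZ w _ ⟨u, hu, rfl⟩
      obtain ⟨w', c, hw, -⟩ := exists_conj π ρ φ hc a w
      exact ⟨c • π w' u, Z.smul_mem c (hZ w' u hu), hw u⟩
    have hcancel : ∀ (a : Γ) (u : U0), ρ a (ρ a⁻¹ u) = u := fun a u => by
      rw [← End.mul_apply, ← map_mul, mul_inv_cancel, map_one, End.one_apply]
    have hmem : ∀ p : P, p ∈ K ∨ p * g⁻¹ ∈ K := by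
      intro p
      by_cases hp : p ∈ K
      · exact Or.inl hp
      · exact Or.inr ((Subgroup.mul_mem_iff_of_index_two hidx).2 (by simp [hp, hg]))
    set Y := X.map (ρ (g : Γ)) with hYdef
    have hY : ∀ w, ∀ u ∈ Y, π w u ∈ Y := hmap _ X hX
    have hgY : ∀ y ∈ Y, ρ (g : Γ) y ∈ X := by
      rintro _ ⟨x, hx, rfl⟩
      rw [← End.mul_apply, ← map_mul]
      exact hXK' _ hgg x hx
    have hgX : ∀ x ∈ X, ρ (g : Γ) x ∈ Y := fun x hx => ⟨x, hx, rfl⟩
    have hginvX : ∀ x ∈ X, ρ (g : Γ)⁻¹ x ∈ Y := fun x hx => by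
      refine ⟨ρ ((g * g)⁻¹ : P) x, hXK' _ (inv_mem hgg) x hx, ?_⟩
      rw [← End.mul_apply, ← map_mul]
      congr 2
      push_cast
      group
    have hKY : ∀ k : P, k ∈ K → ∀ y ∈ Y, ρ k y ∈ Y := by
      rintro k hk _ ⟨x, hx, rfl⟩
      refine ⟨ρ (g⁻¹ * k * g : P) x, hXK' _ (by simpa using hKn.conj_mem k hk g⁻¹) x hx, ?_⟩
      rw [← End.mul_apply, ← map_mul, ← End.mul_apply, ← map_mul]
      congr 2
      push_cast
      group
    by_cases hYX : Y = X
    · refine ⟨X, hX0, hX, fun p hp u hu => ?_, hXm⟩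
      rcases hmem ⟨p, hp⟩ with h | h
      · exact hXK' _ h u hu
      · have h2 : ρ ((⟨p, hp⟩ * g⁻¹ : P) : Γ) (ρ (g : Γ) u) ∈ X :=
          hXK' _ h _ (hYX.le (hgX u hu))
        rwa [← End.mul_apply, ← map_mul, Subgroup.coe_mul, Subgroup.coe_inv,
          inv_mul_cancel_right] at h2
    have hYm : ∀ X' ≤ Y, (∀ w, ∀ u ∈ X', π w u ∈ X') → X' = ⊥ ∨ X' = Y := by
      intro X' hle hinv
      have hback : (X'.map (ρ (g : Γ)⁻¹)).map (ρ (g : Γ)) = X' := by
        rw [← Submodule.map_comp]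
        convert Submodule.map_id X' using 2
        exact LinearMap.ext fun u => hcancel _ u
      rcases hXm (X'.map (ρ (g : Γ)⁻¹)) (by
          rintro _ ⟨u, hu, rfl⟩
          obtain ⟨x, hx, rfl⟩ := hle hu
          rwa [← End.mul_apply, ← map_mul, inv_mul_cancel, map_one, End.one_apply])
        (hmap _ X' hinv) with h | h
      · exact Or.inl (by rw [← hback, h, Submodule.map_bot])
      · exact Or.inr (by rw [← hback, h])
    have hY0 : Y ≠ ⊥ := by
      intro h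
      refine hX0 (Submodule.eq_bot_iff _ |>.2 fun x hx => ?_)
      have h2 : ρ (g : Γ) x = 0 := (Submodule.mem_bot F).1 (h.le (hgX x hx))
      rw [← hcancel (g : Γ)⁻¹ x, inv_inv, h2, map_zero]
    have hdisj : X ⊓ Y = ⊥ := by
      rcases hXm (X ⊓ Y) inf_le_left (fun w u hu => ⟨hX w u hu.1, hY w u hu.2⟩) with h | h
      · exact h
      · rcases hYm X (inf_eq_left.1 h) hX with h' | h'
        · exact absurd h' hX0
        · exact absurd h'.symm hYX
    haveI : Nontrivial X := Submodule.nontrivial_iff_ne_bot.2 hX0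
    haveI : Nontrivial Y := Submodule.nontrivial_iff_ne_bot.2 hY0
    obtain ⟨T, hT⟩ := exists_intertwiner π form h1 hmul hcomm X Y hX hXm hY hYm
    -- intertwiners are multiples of `T`
    have huniq : ∀ S : X →ₗ[F] Y, (∀ w (x : X), π w (S x : U0) = (S ⟨π w x, hX w x x.2⟩ : U0)) →
        ∃ c : F, ∀ x, S x = c • T x := by
      intro S hS
      obtain ⟨c, e⟩ := (heisOfMinimal π form h1 hmul hcomm X hX hXm).exists_scalar_of_commute
        (f := T.symm.toLinearMap ∘ₗ S) (fun w => LinearMap.ext fun x => T.injective (Subtype.ext (by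
          simp only [End.mul_apply, LinearMap.comp_apply, LinearEquiv.coe_coe,
            LinearEquiv.apply_symm_apply]
          refine (hT w _).symm.trans ?_
          rw [LinearEquiv.apply_symm_apply]
          exact hS w x)))
      refine ⟨c, fun x => ?_⟩
      have h2 := congrArg T (LinearMap.congr_fun e x)
      simpa using h2
    -- transport of an intertwiner by `ρ a`
    have htrans : ∀ (a : Γ) (A : Submodule F U0) (hA : ∀ w, ∀ u ∈ A, π w u ∈ A)
        (j : A →ₗ[F] U0), (∀ w (z : A), π w (j z) = j ⟨π w z, hA w z z.2⟩) →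
        ∀ hXA : ∀ x ∈ X, ρ a⁻¹ x ∈ A, (∀ z, ρ a (j z) ∈ Y) →
        ∃ c : F, ∀ x : X, ρ a (j ⟨ρ a⁻¹ x, hXA x x.2⟩) = c • (T x : U0) := by
      intro a A hA j hj hXA hjY
      let S : X →ₗ[F] Y := ((ρ a) ∘ₗ j ∘ₗ ((ρ a⁻¹).restrict hXA)).codRestrict Y fun x => hjY _
      obtain ⟨c, hcS⟩ := huniq S (fun w x => by
        obtain ⟨w', c, e1, e2⟩ := exists_conj π ρ φ hc a w
        show π w (ρ a (j ⟨ρ a⁻¹ x, _⟩)) = ρ a (j ⟨ρ a⁻¹ (π w x), _⟩)
        rw [← e1, hj]
        rw [← map_smul j]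
        congr 2
        exact Subtype.ext (e2 _).symm)
      exact ⟨c, fun x => congrArg Subtype.val (hcS x)⟩
    have hK1 : ∀ (k : P) (hk : k ∈ K) (x : X),
        ρ k (T x : U0) = T ⟨ρ k x, hXK' k hk x x.2⟩ := by
      intro k hk x
      obtain ⟨c, hck⟩ := htrans k X hX (Y.subtype ∘ₗ T.toLinearMap) (fun w z => hT w z)
        (fun u hu => by simpa using hXK' _ (inv_mem hk) u hu) (fun z => hKY k hk _ (T z).2)
      have hstep : ∀ z : X, ρ k (T z : U0) = c • (T ⟨ρ k z, hXK' k hk z z.2⟩ : U0) := by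
        intro z
        refine Eq.trans ?_ (hck ⟨ρ k z, hXK' k hk z z.2⟩)
        have he : (⟨ρ (k : Γ)⁻¹ (ρ k z), by simp⟩ : X) = z := Subtype.ext (by simp)
        exact congrArg (fun v : X => ρ k (T v : U0)) he.symm
      have hiter : ∀ i : ℕ, ∀ z : X, ∃ z' : X, (z' : U0) = ρ ((k : Γ) ^ i) z ∧
          ρ ((k : Γ) ^ i) (T z : U0) = c ^ i • (T z' : U0) := by
        intro i
        induction i with
        | zero => exact fun z => ⟨z, by simp, by simp⟩
        | succ i ih =>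
          intro z
          obtain ⟨z', e1, e2⟩ := ih z
          refine ⟨⟨ρ k z', hXK' k hk z' z'.2⟩, ?_, ?_⟩
          · rw [pow_succ', map_mul, End.mul_apply, ← e1]
          · rw [pow_succ', map_mul, End.mul_apply, e2, map_smul, hstep, smul_smul, ← pow_succ]
      obtain ⟨j, hj⟩ := hP k
      have hj' : (k : Γ) ^ 2 ^ j = 1 := congrArg Subtype.val hj
      obtain ⟨x₀, hx₀⟩ := exists_ne (0 : X)
      obtain ⟨z', e1, e2⟩ := hiter (2 ^ j) x₀
      rw [hj', map_one, End.one_apply] at e1 e2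
      obtain rfl : z' = x₀ := Subtype.ext e1
      have h2 : c ^ 2 ^ j = 1 := by
        have hne : (T z' : U0) ≠ 0 := fun h0 => hx₀ (T.map_eq_zero_iff.1 (Subtype.ext h0))
        refine (smul_left_injective F hne ?_).symm
        simpa using e2
      have h3 : (c - 1) ^ 2 ^ j = 0 := by
        rw [sub_pow_char_pow (R := F) (p := 2), h2, one_pow, sub_self]
      rw [hstep, sub_eq_zero.mp (pow_eq_zero_iff (by positivity) |>.mp h3), one_smul]
    obtain ⟨μ, hμ⟩ := htrans (g : Γ) Y hY (X.subtype ∘ₗ T.symm.toLinearMap) (fun w y => by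
        show π w (T.symm y : U0) = (T.symm ⟨π w y, _⟩ : U0)
        have h2 := hT w (T.symm y)
        simp only [LinearEquiv.apply_symm_apply] at h2
        refine congrArg Subtype.val (T.injective ?_ : (⟨π w (T.symm y : U0), hX w _ (T.symm y).2⟩ : X) = _)
        rw [LinearEquiv.apply_symm_apply]
        exact Subtype.ext h2.symm)
      hginvX (fun z => hgX _ (T.symm z).2)
    have hswap : ∀ z : X, ρ (g : Γ) z = μ • (T ⟨ρ (g : Γ) (T z), hgY _ (T z).2⟩ : U0) := by
      intro z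
      refine Eq.trans ?_ (hμ ⟨ρ (g : Γ) (T z), hgY _ (T z).2⟩)
      have he : (⟨ρ (g : Γ)⁻¹ (ρ (g : Γ) (T z)), by simp⟩ : Y) = T z := Subtype.ext (by simp)
      refine congrArg (ρ (g : Γ)) ?_
      show (z : U0) = (T.symm _ : U0)
      rw [he, LinearEquiv.symm_apply_apply]
    obtain ⟨c, hcμ⟩ := IsAlgClosed.exists_pow_nat_eq μ (n := 2) two_pos
    let J : X →ₗ[F] U0 := X.subtype + c • (Y.subtype ∘ₗ T.toLinearMap)
    have hJ : ∀ z : X, J z = (z : U0) + c • (T z : U0) := fun z => rfl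
    have hJinj : Function.Injective J := by
      rw [injective_iff_map_eq_zero]
      intro z hz
      rw [hJ, add_eq_zero_iff_eq_neg] at hz
      have : (z : U0) ∈ X ⊓ Y := ⟨z.2, hz ▸ Y.neg_mem (Y.smul_mem c (T z).2)⟩
      rw [hdisj, Submodule.mem_bot] at this
      exact Subtype.ext this
    have hJπ : ∀ w z, π w (J z) = J ⟨π w z, hX w z z.2⟩ := fun w z => by
      rw [hJ, hJ, map_add, map_smul, hT]
    refine ⟨LinearMap.range J, ?_, ?_, ?_, ?_⟩
    · intro h
      obtain ⟨z, hz⟩ := exists_ne (0 : X)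
      exact hz (hJinj (by
        rw [map_zero]
        exact (Submodule.mem_bot F).1 (h.le ⟨z, rfl⟩)))
    · rintro w _ ⟨z, rfl⟩
      exact ⟨_, (hJπ w z).symm⟩
    · have hK2 : ∀ k : P, k ∈ K → ∀ u ∈ LinearMap.range J, ρ k u ∈ LinearMap.range J := by
        rintro k hk _ ⟨z, rfl⟩
        exact ⟨⟨ρ k z, hXK' k hk z z.2⟩, by rw [hJ, hJ, map_add, map_smul, hK1 k hk]⟩
      have hg2 : ∀ u ∈ LinearMap.range J, ρ (g : Γ) u ∈ LinearMap.range J := by
        rintro _ ⟨z, rfl⟩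
        refine ⟨c • ⟨ρ (g : Γ) (T z), hgY _ (T z).2⟩, ?_⟩
        rw [map_smul, hJ, hJ, map_add, map_smul, hswap, ← hcμ, smul_add, smul_smul, ← sq, add_comm]
      intro p hp u hu
      rcases hmem ⟨p, hp⟩ with h | h
      · exact hK2 _ h u hu
      · have h2 := hK2 _ h _ (hg2 u hu)
        rwa [← End.mul_apply, ← map_mul, Subgroup.coe_mul, Subgroup.coe_inv,
          inv_mul_cancel_right] at h2
    · intro X' hle hinv
      rcases hXm ((X'.comap J).map X.subtype) (Submodule.map_subtype_le _ _) (by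
          rintro w _ ⟨z, hz, rfl⟩
          refine ⟨⟨π w z, hX w z z.2⟩, ?_, rfl⟩
          show J _ ∈ X'
          rw [← hJπ]
          exact hinv w _ hz) with h | h
      · left
        replace h : X'.comap J = ⊥ := Submodule.map_injective_of_injective X.injective_subtype
          (h.trans (Submodule.map_bot _).symm)
        refine (Submodule.eq_bot_iff _).2 fun u hu => ?_
        obtain ⟨z, rfl⟩ := hle hu
        have : z ∈ X'.comap J := hu
        rw [h, Submodule.mem_bot] at this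
        rw [this, map_zero]
      · right
        refine le_antisymm hle ?_
        rintro _ ⟨z, rfl⟩
        obtain ⟨z', hz', e⟩ := h.ge z.2
        obtain rfl : z' = z := Subtype.ext e
        exact hz'

end Irred

section Sub

variable {F U W Γ A : Type*} [Field F] [AddCommGroup U] [Module F U] [CommGroup W] [Group Γ]
  [CommGroup A]

/-- The form on a nondegenerate subgroup. -/
def Form.sub (Φ : Form W A) (W' : Subgroup W)
    (hW' : ∀ v ∈ W', (∀ w ∈ W', Φ.B v w = 1) → v = 1) : Form W' A where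
  B := MonoidHom.mk' (fun v => (Φ.B v).comp W'.subtype) fun v w => MonoidHom.ext fun u => by simp
  alt w := Φ.alt w
  nondeg v hv := Subtype.ext (hW' v v.2 fun w hw => hv ⟨w, hw⟩)
  odd := Odd.of_dvd_nat Φ.odd W'.card_subgroup_dvd_card

/-- The action on an invariant subgroup. -/
def autOn (φ : Γ →* MulAut W) (W' : Subgroup W) (P : Subgroup Γ)
    (hPW : ∀ g ∈ P, ∀ w ∈ W', φ g w ∈ W') : P →* MulAut W' :=
  MonoidHom.mk' (fun g : P =>
    { toFun := fun w : W' => ⟨φ (g : Γ) w, hPW _ g.2 w w.2⟩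
      invFun := fun w : W' => ⟨φ (g : Γ)⁻¹ w, hPW _ (inv_mem g.2) w w.2⟩
      left_inv := fun w => Subtype.ext (by simp)
      right_inv := fun w => Subtype.ext (by simp)
      map_mul' := fun v w => Subtype.ext (map_mul (φ (g : Γ)) (v : W) w) })
    fun _ _ => MulEquiv.ext fun w => Subtype.ext (by simp)

theorem autOn_apply (φ : Γ →* MulAut W) (W' : Subgroup W) (P : Subgroup Γ)
    (hPW : ∀ g ∈ P, ∀ w ∈ W', φ g w ∈ W') (g : P) (w : W') :
    (autOn φ W' P hPW g w : W) = φ g w := rfl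

/-- The representation on an invariant submodule. -/
def repOn (ρ : Representation F Γ U) (P : Subgroup Γ) (X : Submodule F U)
    (hXP : ∀ g ∈ P, ∀ u ∈ X, ρ g u ∈ X) : Representation F P X :=
  { toFun := fun g : P => (ρ (g : Γ)).restrict (hXP _ g.2)
    map_one' := LinearMap.ext fun u => Subtype.ext (by simp)
    map_mul' := fun _ _ => LinearMap.ext fun u => Subtype.ext (by simp) }

theorem repOn_apply (ρ : Representation F Γ U) (P : Subgroup Γ) (X : Submodule F U)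
    (hXP : ∀ g ∈ P, ∀ u ∈ X, ρ g u ∈ X) (g : P) (u : X) :
    (repOn ρ P X hXP g u : U) = ρ g u := rfl

namespace Heis

variable (h : Heis F U W) {ρ : Representation F Γ U} {φ : Γ →* MulAut W}

/-- The module of a nondegenerate subgroup on one of its irreducible submodules. -/
def sub (W' : Subgroup W) (hW' : ∀ v ∈ W', (∀ w ∈ W', h.form.B v w = 1) → v = 1)
    (X : Submodule F U) (hX : ∀ w ∈ W', ∀ u ∈ X, h.π w u ∈ X)
    (hXm : ∀ X' ≤ X, (∀ w ∈ W', ∀ u ∈ X', h.π w u ∈ X') → X' = ⊥ ∨ X' = X) :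
    Heis F X W' :=
  heisOfMinimal (fun w : W' => h.π w) (h.form.sub W' hW') h.π_one (fun v w => h.π_mul v w)
    (fun v w => h.π_comm v w) X (fun w => hX w w.2)
    (fun X' hle hinv => hXm X' hle fun w hw => hinv ⟨w, hw⟩)

theorem sub_π (W' : Subgroup W) (hW' : ∀ v ∈ W', (∀ w ∈ W', h.form.B v w = 1) → v = 1)
    (X : Submodule F U) (hX : ∀ w ∈ W', ∀ u ∈ X, h.π w u ∈ X)
    (hXm : ∀ X' ≤ X, (∀ w ∈ W', ∀ u ∈ X', h.π w u ∈ X') → X' = ⊥ ∨ X' = X) (w : W') (x : X) :
    ((h.sub W' hW' X hX hXm).π w x : U) = h.π w x := rfl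

theorem sub_compat {h : Heis F U W} (hc : h.IsCompat ρ φ) (W' : Subgroup W)
    (hW' : ∀ v ∈ W', (∀ w ∈ W', h.form.B v w = 1) → v = 1)
    (X : Submodule F U) (hX : ∀ w ∈ W', ∀ u ∈ X, h.π w u ∈ X)
    (hXm : ∀ X' ≤ X, (∀ w ∈ W', ∀ u ∈ X', h.π w u ∈ X') → X' = ⊥ ∨ X' = X)
    (P : Subgroup Γ) (hPW : ∀ g ∈ P, ∀ w ∈ W', φ g w ∈ W')
    (hXP : ∀ g ∈ P, ∀ u ∈ X, ρ g u ∈ X) :
    (h.sub W' hW' X hX hXm).IsCompat (repOn ρ P X hXP) (autOn φ W' P hPW) := fun g w => by
  obtain ⟨c, hc0, e⟩ := hc g w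
  exact ⟨c, hc0, LinearMap.ext fun u => Subtype.ext (LinearMap.congr_fun e (u : U))⟩

/-- An irreducible submodule of a nondegenerate subgroup, invariant under a `2`-group. -/
theorem exists_sub [IsAlgClosed F] [FiniteDimensional F U] [CharP F 2] [Finite W] [Finite Γ]
    {h : Heis F U W} (hc : h.IsCompat ρ φ) (W' : Subgroup W)
    (hW' : ∀ v ∈ W', (∀ w ∈ W', h.form.B v w = 1) → v = 1)
    (P : Subgroup Γ) (hP : IsPGroup 2 P) (hPW : ∀ g ∈ P, ∀ w ∈ W', φ g w ∈ W')
    (Y : Submodule F U) (hY0 : Y ≠ ⊥) (hYW : ∀ w ∈ W', ∀ u ∈ Y, h.π w u ∈ Y)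
    (hYP : ∀ g ∈ P, ∀ u ∈ Y, ρ g u ∈ Y) :
    ∃ X ≤ Y, X ≠ ⊥ ∧ (∀ w ∈ W', ∀ u ∈ X, h.π w u ∈ X) ∧ (∀ g ∈ P, ∀ u ∈ X, ρ g u ∈ X) ∧
      ∀ X' ≤ X, (∀ w ∈ W', ∀ u ∈ X', h.π w u ∈ X') → X' = ⊥ ∨ X' = X := by
  haveI : Nontrivial Y := Submodule.nontrivial_iff_ne_bot.2 hY0
  obtain ⟨X, hX0, hX, hXP, hXm⟩ := exists_irred (fun w : W' => (h.π w).restrict (hYW w w.2))
    (repOn ρ P Y hYP) (autOn φ W' P hPW) (h.form.sub W' hW')
    (LinearMap.ext fun u => Subtype.ext (LinearMap.congr_fun h.π_one (u : U)))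
    (fun v w => by
      obtain ⟨c, hc0, e⟩ := h.π_mul v w
      exact ⟨c, hc0, LinearMap.ext fun u => Subtype.ext (LinearMap.congr_fun e (u : U))⟩)
    (fun v w => LinearMap.ext fun u => Subtype.ext (LinearMap.congr_fun (h.π_comm v w) (u : U)))
    (fun g w => by
      obtain ⟨c, hc0, e⟩ := hc g w
      exact ⟨c, hc0, LinearMap.ext fun u => Subtype.ext (LinearMap.congr_fun e (u : U))⟩)
    ⊤ (hP.to_subgroup ⊤)
  have hinj := Submodule.map_injective_of_injective Y.injective_subtype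
  refine ⟨X.map Y.subtype, Submodule.map_subtype_le Y X, fun h0 => hX0 (hinj (h0.trans
    (Submodule.map_bot _).symm)), ?_, ?_, ?_⟩
  · rintro w hw _ ⟨u, hu, rfl⟩
    exact ⟨_, hX ⟨w, hw⟩ u hu, rfl⟩
  · rintro g hg _ ⟨u, hu, rfl⟩
    exact ⟨_, hXP ⟨g, hg⟩ (Subgroup.mem_top _) u hu, rfl⟩
  · intro X' hle hinv
    have e : (X'.comap Y.subtype).map Y.subtype = X' := by
      rw [Submodule.map_comap_eq, Submodule.range_subtype, inf_eq_right]
      exact hle.trans (Submodule.map_subtype_le Y X)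
    rcases hXm (X'.comap Y.subtype) (fun u hu => by
        obtain ⟨v, hv, hvu⟩ := hle hu
        obtain rfl : v = u := Subtype.ext hvu
        exact hv) (fun w u hu => hinv w w.2 _ hu) with h' | h'
    · exact Or.inl (by rw [← e, h', Submodule.map_bot])
    · exact Or.inr (by rw [← e, h'])

end Heis

end Sub

end CfsgLib.TwoLength
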