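import Cfsg.Agent.Lib.TwoLength.Defs

/-!
# Functoriality of commutator chains, extension of scalars, sections
-/

set_option autoImplicit false
set_option linter.style.haveILetI false

namespace CfsgLib.TwoLength

open Module
open scoped TensorProduct commutatorElement

theorem map_dS {Γ Γ' : Type*} [Group Γ] [Group Γ'] (φ : Γ →* Γ') (P : Subgroup Γ) (n : ℕ) :
    (dS P n).map φ = dS (P.map φ) n := by
  induction n with
  | zero => rfl
  | succ n ih =>
    show (⁅dS P n, dS P n⁆).map φ = ⁅dS (P.map φ) n, dS (P.map φ) n⁆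
    rw [Subgroup.map_commutator, ih]

theorem dS_mono {Γ : Type*} [Group Γ] {P Q : Subgroup Γ} (h : P ≤ Q) (n : ℕ) :
    dS P n ≤ dS Q n := by
  induction n with
  | zero => exact h
  | succ n ih => exact Subgroup.commutator_mono ih ih

theorem le_normalizer_dS {Γ : Type*} [Group Γ] (P : Subgroup Γ) (n : ℕ) :
    P ≤ Subgroup.normalizer (dS P n : Set Γ) := by
  intro g hg
  rw [Subgroup.mem_normalizer_iff_map_conj_eq, map_dS]
  congr 1
  exact Subgroup.mem_normalizer_iff_map_conj_eq.1 (Subgroup.le_normalizer hg)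

section Map

variable {k V V' Γ Γ' : Type*} [CommRing k] [AddCommGroup V] [Module k V] [AddCommGroup V']
  [Module k V'] [Group Γ] [Group Γ'] {ρ : Representation k Γ V} {τ : Representation k Γ' V'}

theorem map_comm (f : V →ₗ[k] V') (φ : Γ →* Γ') (h : ∀ g v, f (ρ g v) = τ (φ g) (f v))
    (D : Subgroup Γ) (X : Submodule k V) :
    (comm ρ D X).map f = comm τ (D.map φ) (X.map f) := by
  refine le_antisymm ?_ ((comm_le_iff τ).2 ?_)
  · rw [Submodule.map_le_iff_le_comap, comm_le_iff]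
    intro g hg v hv
    rw [Submodule.mem_comap, map_sub, h]
    exact mem_comm τ (Subgroup.mem_map_of_mem φ hg) (Submodule.mem_map_of_mem hv)
  · rintro _ ⟨g, hg, rfl⟩ _ ⟨v, hv, rfl⟩
    exact ⟨ρ g v - v, mem_comm ρ hg hv, by rw [map_sub, h]⟩

theorem map_chain (f : V →ₗ[k] V') (φ : Γ →* Γ') (h : ∀ g v, f (ρ g v) = τ (φ g) (f v)) (n : ℕ) :
    ∀ (D : ℕ → Subgroup Γ) (X : Submodule k V),
      (chain ρ D n X).map f = chain τ (fun i => (D i).map φ) n (X.map f) := by
  induction n with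
  | zero => intro D X; exact map_comm f φ h _ _
  | succ n ih => intro D X; rw [chain, ih, map_comm f φ h]; rfl

theorem map_chain_dS (f : V →ₗ[k] V') (φ : Γ →* Γ') (h : ∀ g v, f (ρ g v) = τ (φ g) (f v))
    (P : Subgroup Γ) (n : ℕ) (X : Submodule k V) :
    (chain ρ (dS P) n X).map f = chain τ (dS (P.map φ)) n (X.map f) := by
  rw [map_chain f φ h]
  congr 1
  exact funext fun i => map_dS φ P i

end Map

section BaseChange

variable {k V Γ : Type*} [Field k] [AddCommGroup V] [Module k V] [Group Γ]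
  (ρ : Representation k Γ V) (K : Type*) [Field K] [Algebra k K]

/-- Extension of scalars of a representation. -/
noncomputable def extend : Representation K Γ (K ⊗[k] V) :=
  (Module.End.baseChangeHom k K V).toMonoidHom.comp ρ

theorem extend_tmul (g : Γ) (c : K) (v : V) : extend ρ K g (c ⊗ₜ v) = c ⊗ₜ ρ g v := rfl

theorem extend_injective (h : Function.Injective ρ) : Function.Injective (extend ρ K) :=
  (LinearMap.baseChangeHom_injective k V K).comp h

theorem comm_extend_le (D : Subgroup Γ) (X : Submodule k V) :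
    comm (extend ρ K) D (X.baseChange K) ≤ (comm ρ D X).baseChange K := by
  rw [comm_le_iff]
  intro g hg
  have key : X.baseChange K ≤ ((comm ρ D X).baseChange K).comap (extend ρ K g - 1) := by
    rw [Submodule.baseChange_eq_span, Submodule.span_le]
    rintro _ ⟨v, hv, rfl⟩
    show extend ρ K g ((TensorProduct.mk k K V) 1 v) - (TensorProduct.mk k K V) 1 v ∈ (comm ρ D X).baseChange K
    rw [TensorProduct.mk_apply, extend_tmul, ← TensorProduct.tmul_sub]
    exact Submodule.tmul_mem_baseChange_of_mem _ (mem_comm ρ hg hv)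
  exact fun v hv => key hv

theorem chain_extend_eq_bot (D : ℕ → Subgroup Γ) (n : ℕ) (h : chain ρ D n ⊤ = ⊥) :
    chain (extend ρ K) D n ⊤ = ⊥ := by
  have key : ∀ (n : ℕ) (D : ℕ → Subgroup Γ) (X : Submodule k V),
      chain (extend ρ K) D n (X.baseChange K) ≤ (chain ρ D n X).baseChange K := by
    intro n
    induction n with
    | zero => intro D X; exact comm_extend_le ρ K _ _
    | succ n ih =>
      intro D X
      exact (chain_mono _ n _ (comm_extend_le ρ K _ _)).trans (ih _ _)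
  have h1 := key n D ⊤
  rw [h, Submodule.baseChange_top, Submodule.baseChange_bot] at h1
  exact le_bot_iff.1 h1

theorem pow_extend_eq_zero {g : Γ} {n : ℕ} (h : (ρ g - 1) ^ n = 0) :
    (extend ρ K g - 1) ^ n = 0 := by
  have h1 := congrArg (Module.End.baseChangeHom k K V) h
  rw [map_pow, map_sub, map_one, map_zero] at h1
  exact h1

end BaseChange

/-- An irreducible section of a representation as a faithful representation of a quotient group
without normal `p`-subgroups. -/
theorem exists_section {p : ℕ} [Fact p.Prime] {Γ : Type*} [Group Γ] [Finite Γ] {V : Type*}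
    [AddCommGroup V] [Module (ZMod p) V] [Finite V] (ρ : Representation (ZMod p) Γ V)
    {U₁ U₂ : Submodule (ZMod p) V} (hlt : U₁ < U₂) (h1 : ∀ g, ∀ v ∈ U₁, ρ g v ∈ U₁)
    (h2 : ∀ g, ∀ v ∈ U₂, ρ g v ∈ U₂)
    (hmin : ∀ U : Submodule (ZMod p) V, (∀ g, ∀ v ∈ U, ρ g v ∈ U) → U₁ ≤ U → U ≤ U₂ →
      U = U₁ ∨ U = U₂) :
    ∃ (K : Subgroup Γ) (_ : K.Normal)
      (τ : Representation (ZMod p) (Γ ⧸ K) (U₂ ⧸ U₁.submoduleOf U₂)),
      Function.Injective τ ∧ (∀ g ∈ K, ∀ v ∈ U₂, ρ g v - v ∈ U₁) ∧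
      (∀ g (v : V) (hv : v ∈ U₂), τ (QuotientGroup.mk g) (Submodule.Quotient.mk ⟨v, hv⟩) =
        Submodule.Quotient.mk ⟨ρ g v, h2 g v hv⟩) ∧
      ∀ N : Subgroup (Γ ⧸ K), N.Normal → IsPGroup p N → N = ⊥ := by
  classical
  let r : Representation (ZMod p) Γ (U₂ ⧸ U₁.submoduleOf U₂) :=
    { toFun := fun g => Submodule.mapQ _ _ ((ρ g).restrict (h2 g)) fun v hv => h1 g (v : V) hv
      map_one' := Submodule.linearMap_qext _ (LinearMap.ext fun v => by
        show Submodule.Quotient.mk (⟨ρ 1 (v : V), _⟩ : U₂) = Submodule.Quotient.mk v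
        congr 1; exact Subtype.ext (by simp))
      map_mul' := fun a b => Submodule.linearMap_qext _ (LinearMap.ext fun v => by
        show Submodule.Quotient.mk (⟨ρ (a * b) (v : V), _⟩ : U₂) =
          Submodule.Quotient.mk (⟨ρ a (ρ b (v : V)), _⟩ : U₂)
        congr 1; exact Subtype.ext (by simp)) }
  set K : Subgroup Γ := r.ker with hK
  haveI : K.Normal := by rw [hK]; infer_instance
  let τ : Representation (ZMod p) (Γ ⧸ K) (U₂ ⧸ U₁.submoduleOf U₂) := QuotientGroup.lift K r le_rfl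
  refine ⟨K, inferInstance, τ, ?_, ?_, fun g v hv => rfl, ?_⟩
  · rw [← MonoidHom.ker_eq_bot_iff, eq_bot_iff]
    intro a ha
    obtain ⟨g, rfl⟩ := QuotientGroup.mk_surjective a
    exact (QuotientGroup.eq_one_iff g).2 ha
  · intro g hg v hv
    have h3 : r g (Submodule.Quotient.mk ⟨v, hv⟩) = Submodule.Quotient.mk ⟨v, hv⟩ := by
      rw [MonoidHom.mem_ker.1 hg]; rfl
    exact (Submodule.Quotient.eq (U₁.submoduleOf U₂) (x := ⟨ρ g v, h2 g v hv⟩) (y := ⟨v, hv⟩)).1 h3
  · intro N hN hNp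
    by_contra hne
    haveI : Finite (U₂ ⧸ U₁.submoduleOf U₂) :=
      Finite.of_surjective _ (Submodule.Quotient.mk_surjective _)
    let U : Submodule (ZMod p) V :=
      { carrier := {v | ∃ hv : v ∈ U₂, ∀ n ∈ N,
          τ n (Submodule.Quotient.mk ⟨v, hv⟩) = Submodule.Quotient.mk ⟨v, hv⟩}
        add_mem' := by
          rintro a b ⟨ha, ha'⟩ ⟨hb, hb'⟩
          refine ⟨U₂.add_mem ha hb, fun n hn => ?_⟩
          rw [show (⟨a + b, U₂.add_mem ha hb⟩ : U₂) = ⟨a, ha⟩ + ⟨b, hb⟩ from rfl,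
            Submodule.Quotient.mk_add, map_add, ha' n hn, hb' n hn]
        zero_mem' := ⟨U₂.zero_mem, fun n _ => by
          rw [show (⟨0, U₂.zero_mem⟩ : U₂) = 0 from rfl, Submodule.Quotient.mk_zero, map_zero]⟩
        smul_mem' := by
          rintro c a ⟨ha, ha'⟩
          refine ⟨U₂.smul_mem c ha, fun n hn => ?_⟩
          rw [show (⟨c • a, U₂.smul_mem c ha⟩ : U₂) = c • ⟨a, ha⟩ from rfl,
            Submodule.Quotient.mk_smul, map_smul, ha' n hn] }
    have hUinv : ∀ g, ∀ v ∈ U, ρ g v ∈ U := by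
      rintro g v ⟨hv, hv'⟩
      refine ⟨h2 g v hv, fun n hn => ?_⟩
      show τ n (τ (QuotientGroup.mk g) (Submodule.Quotient.mk ⟨v, hv⟩)) =
        τ (QuotientGroup.mk g) (Submodule.Quotient.mk ⟨v, hv⟩)
      conv_lhs => rw [← Module.End.mul_apply, ← map_mul,
        show n * (QuotientGroup.mk g : Γ ⧸ K) =
          QuotientGroup.mk g * ((QuotientGroup.mk g)⁻¹ * n * QuotientGroup.mk g) by group,
        map_mul, Module.End.mul_apply]
      rw [hv' _ (by simpa using hN.conj_mem n hn (QuotientGroup.mk g : Γ ⧸ K)⁻¹)]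
    have hU1 : U₁ ≤ U := fun v hv => ⟨hlt.le hv, fun n _ => by
      rw [(Submodule.Quotient.mk_eq_zero _).2 (show (⟨v, hlt.le hv⟩ : U₂) ∈ U₁.submoduleOf U₂
        from hv), map_zero]⟩
    rcases hmin U hUinv hU1 (fun v hv => hv.1) with hU | hU
    · -- a fixed point outside `U₁`
      letI : MulAction N (U₂ ⧸ U₁.submoduleOf U₂) :=
        { smul := fun n v => τ (n : Γ ⧸ K) v
          one_smul := fun v => by show τ ((1 : N) : Γ ⧸ K) v = v; simp
          mul_smul := fun a b v => by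
            show τ ((a * b : N) : Γ ⧸ K) v = τ _ (τ _ v)
            simp }
      have hp0 : p ∣ Nat.card (U₂ ⧸ U₁.submoduleOf U₂) := by
        haveI : Nontrivial (U₂ ⧸ U₁.submoduleOf U₂) := by
          obtain ⟨v, hv, hv'⟩ := SetLike.exists_of_lt hlt
          exact ⟨⟨Submodule.Quotient.mk ⟨v, hv⟩, 0, fun h =>
            hv' ((Submodule.Quotient.mk_eq_zero (U₁.submoduleOf U₂) (x := ⟨v, hv⟩)).1 h)⟩⟩
        have hpp : IsPGroup p (Multiplicative (U₂ ⧸ U₁.submoduleOf U₂)) := fun x => ⟨1, by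
          have h6 : (p : ℕ) • Multiplicative.toAdd x = 0 := by
            rw [← Nat.cast_smul_eq_nsmul (ZMod p), ZMod.natCast_self, zero_smul]
          rw [pow_one]; exact h6⟩
        obtain ⟨j, hj⟩ := IsPGroup.iff_card.1 hpp
        rcases j with _ | j
        · exact absurd hj (Finite.one_lt_card (α := U₂ ⧸ U₁.submoduleOf U₂)).ne'
        · exact ⟨p ^ j, by rw [← pow_succ']; exact hj⟩
      obtain ⟨b, hb, hb0⟩ := hNp.exists_fixed_point_of_prime_dvd_card_of_fixed_point
        (U₂ ⧸ U₁.submoduleOf U₂) hp0 (a := 0) (fun n => map_zero (τ (n : Γ ⧸ K)))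
      obtain ⟨v, rfl⟩ := Submodule.Quotient.mk_surjective _ b
      have hvU : (v : V) ∈ U := ⟨v.2, fun n hn => hb ⟨n, hn⟩⟩
      rw [hU] at hvU
      exact hb0 ((Submodule.Quotient.mk_eq_zero _).2 (show v ∈ U₁.submoduleOf U₂ from hvU)).symm
    · obtain ⟨n, hn, hn1⟩ := (N.bot_or_exists_ne_one).resolve_left hne
      obtain ⟨g, rfl⟩ := QuotientGroup.mk_surjective n
      refine hn1 ((QuotientGroup.eq_one_iff g).2 (MonoidHom.mem_ker.2 ?_))
      refine Submodule.linearMap_qext _ (LinearMap.ext fun v => ?_)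
      obtain ⟨_, hv'⟩ : (v : V) ∈ U := by rw [hU]; exact v.2
      exact hv' _ hn

end CfsgLib.TwoLength
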