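import Cfsg.Agent.Lib.TwoLength.Defs

/-!
# Involutive isometries of a pairing of odd order

An involutive isometry splits the group into the inverted and the fixed part, orthogonal and
nondegenerate; on a plane of prime exponent it is `1` or inversion.
-/

set_option autoImplicit false

namespace CfsgLib.TwoLength

variable {W A : Type*} [CommGroup W] [CommGroup A]

/-- The pairing restricted to `P` is nondegenerate. -/
def Form.NondegOn (Φ : Form W A) (P : Subgroup W) : Prop :=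
  ∀ v ∈ P, (∀ w ∈ P, Φ.B v w = 1) → v = 1

/-- `P` and `Q` are orthogonal. -/
def Form.Orth (Φ : Form W A) (P Q : Subgroup W) : Prop :=
  ∀ v ∈ P, ∀ w ∈ Q, Φ.B v w = 1

theorem Form.finite (Φ : Form W A) : Finite W := by
  apply Nat.finite_of_card_ne_zero
  obtain ⟨k, hk⟩ := Φ.odd
  omega

theorem Form.eq_one_of_mul_self (Φ : Form W A) {w : W} (h : w * w = 1) : w = 1 := by
  obtain ⟨k, hk⟩ := Φ.odd
  have h1 : w ^ Nat.card W = 1 := pow_card_eq_one'
  rwa [hk, pow_succ, pow_mul, pow_two, h, one_pow, one_mul] at h1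

theorem Form.eq_one_of_inv_eq (Φ : Form W A) {w : W} (h : w⁻¹ = w) : w = 1 := by
  refine Φ.eq_one_of_mul_self ?_
  nth_rw 1 [← h]
  rw [inv_mul_cancel]

theorem Form.B_mul_left (Φ : Form W A) (u v w : W) : Φ.B (u * v) w = Φ.B u w * Φ.B v w := by
  rw [map_mul, MonoidHom.mul_apply]

theorem Form.B_inv_left (Φ : Form W A) (v w : W) : Φ.B v⁻¹ w = (Φ.B v w)⁻¹ := by
  rw [map_inv, MonoidHom.inv_apply]

theorem Form.B_one_left (Φ : Form W A) (w : W) : Φ.B 1 w = 1 := by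
  rw [map_one, MonoidHom.one_apply]

theorem Form.B_swap (Φ : Form W A) (v w : W) : Φ.B w v = (Φ.B v w)⁻¹ := by
  have h := Φ.alt (v * w)
  rw [Φ.B_mul_left, map_mul (Φ.B v), map_mul (Φ.B w), Φ.alt, Φ.alt, one_mul, mul_one] at h
  exact eq_inv_of_mul_eq_one_right h

theorem Form.B_comm_one (Φ : Form W A) {v w : W} (h : Φ.B v w = 1) : Φ.B w v = 1 := by
  rw [Φ.B_swap v w, h, inv_one]

theorem Form.Orth.symm {Φ : Form W A} {P Q : Subgroup W} (h : Φ.Orth P Q) : Φ.Orth Q P :=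
  fun v hv w hw => Φ.B_comm_one (h w hw v hv)

theorem Form.val_eq_one (Φ : Form W A) {v w : W} (h : Φ.B v w * Φ.B v w = 1) : Φ.B v w = 1 := by
  obtain ⟨k, hk⟩ := Φ.odd
  have h1 : Φ.B v w ^ Nat.card W = 1 := by rw [← map_pow, pow_card_eq_one', map_one]
  rwa [hk, pow_succ, pow_mul, pow_two, h, one_pow, one_mul] at h1

theorem Form.exists_sqrt (Φ : Form W A) (P : Subgroup W) {w : W} (hw : w ∈ P) :
    ∃ u ∈ P, u * u = w := by
  obtain ⟨k, hk⟩ := Φ.odd
  refine ⟨w ^ (k + 1), P.pow_mem hw _, ?_⟩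
  have h1 : w ^ Nat.card W = 1 := pow_card_eq_one'
  rw [← pow_add, show k + 1 + (k + 1) = Nat.card W + 1 by omega, pow_succ, h1, one_mul]

theorem Form.isom_apply {Φ : Form W A} {f : MulAut W} (hf : f ∈ Φ.isom) (v w : W) :
    Φ.B (f v) (f w) = Φ.B v w :=
  hf v w

/-- The inverted and the fixed elements of an isometry are orthogonal. -/
theorem Form.invG_orth_fixG (Φ : Form W A) {f : MulAut W} (hf : f ∈ Φ.isom) :
    Φ.Orth (invG f) (fixG f) := by
  intro v hv w hw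
  refine Φ.val_eq_one ?_
  have h := Form.isom_apply hf v w
  rw [mem_invG.1 hv, mem_fixG.1 hw, Φ.B_inv_left] at h
  conv_lhs => arg 1; rw [← h]
  rw [inv_mul_cancel]

/-- A subgroup kept by an involutive map is its inverted part times its fixed part. -/
theorem Form.exists_decomp (Φ : Form W A) {f : MulAut W} {P : Subgroup W}
    (hP : ∀ w ∈ P, f w ∈ P) (hff : ∀ w ∈ P, f (f w) = w) {w : W} (hw : w ∈ P) :
    ∃ a ∈ P ⊓ invG f, ∃ b ∈ P ⊓ fixG f, a * b = w := by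
  obtain ⟨u, hu, rfl⟩ := Φ.exists_sqrt P hw
  refine ⟨u * (f u)⁻¹, ⟨P.mul_mem hu (P.inv_mem (hP u hu)), ?_⟩,
    u * f u, ⟨P.mul_mem hu (hP u hu), ?_⟩, ?_⟩
  · exact mem_invG.2 (by rw [map_mul, map_inv, hff u hu, mul_inv, inv_inv, mul_comm])
  · exact mem_fixG.2 (by rw [map_mul, hff u hu, mul_comm])
  · rw [mul_comm u (f u), mul_assoc, inv_mul_cancel_left]

theorem Form.nondegOn_inf_invG (Φ : Form W A) {f : MulAut W} (hf : f ∈ Φ.isom) {P : Subgroup W}
    (hP : ∀ w ∈ P, f w ∈ P) (hff : ∀ w ∈ P, f (f w) = w) (hnd : Φ.NondegOn P) :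
    Φ.NondegOn (P ⊓ invG f) := by
  intro v hv h
  refine hnd v hv.1 fun w hw => ?_
  obtain ⟨a, ha, b, hb, rfl⟩ := Φ.exists_decomp hP hff hw
  rw [map_mul, h a ha, Φ.invG_orth_fixG hf v hv.2 b hb.2, one_mul]

theorem Form.nondegOn_inf_fixG (Φ : Form W A) {f : MulAut W} (hf : f ∈ Φ.isom) {P : Subgroup W}
    (hP : ∀ w ∈ P, f w ∈ P) (hff : ∀ w ∈ P, f (f w) = w) (hnd : Φ.NondegOn P) :
    Φ.NondegOn (P ⊓ fixG f) := by
  intro v hv h
  refine hnd v hv.1 fun w hw => ?_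
  obtain ⟨a, ha, b, hb, rfl⟩ := Φ.exists_decomp hP hff hw
  rw [map_mul, h b hb, (Φ.invG_orth_fixG hf).symm v hv.2 a ha.2, one_mul]

theorem Form.nondegOn_top (Φ : Form W A) : Φ.NondegOn ⊤ :=
  fun v _ h => Φ.nondeg v fun w => h w (Subgroup.mem_top w)

theorem mulAut_apply_apply_of_sq {f : MulAut W} (h2 : f ^ 2 = 1) (w : W) : f (f w) = w := by
  rw [← MulAut.mul_apply, ← pow_two, h2, MulAut.one_apply]

theorem Form.nondegOn_invG (Φ : Form W A) {f : MulAut W} (hf : f ∈ Φ.isom) (h2 : f ^ 2 = 1) :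
    Φ.NondegOn (invG f) := by
  have h := Φ.nondegOn_inf_invG hf (P := ⊤) (fun _ _ => Subgroup.mem_top _)
    (fun w _ => mulAut_apply_apply_of_sq h2 w) Φ.nondegOn_top
  rwa [top_inf_eq] at h

theorem Form.nondegOn_fixG (Φ : Form W A) {f : MulAut W} (hf : f ∈ Φ.isom) (h2 : f ^ 2 = 1) :
    Φ.NondegOn (fixG f) := by
  have h := Φ.nondegOn_inf_fixG hf (P := ⊤) (fun _ _ => Subgroup.mem_top _)
    (fun w _ => mulAut_apply_apply_of_sq h2 w) Φ.nondegOn_top
  rwa [top_inf_eq] at h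

theorem Form.exists_decomp_top (Φ : Form W A) {f : MulAut W} (h2 : f ^ 2 = 1) (w : W) :
    ∃ a ∈ invG f, ∃ b ∈ fixG f, a * b = w := by
  obtain ⟨a, ha, b, hb, h⟩ := Φ.exists_decomp (P := ⊤) (f := f) (fun _ _ => Subgroup.mem_top _)
    (fun w _ => mulAut_apply_apply_of_sq h2 w) (Subgroup.mem_top w)
  exact ⟨a, ha.2, b, hb.2, h⟩

theorem Form.invG_inf_fixG (Φ : Form W A) (f : MulAut W) : invG f ⊓ fixG f = ⊥ := by
  refine (Subgroup.eq_bot_iff_forall _).2 fun w hw => Φ.eq_one_of_inv_eq ?_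
  rw [← mem_invG.1 hw.1, mem_fixG.1 hw.2]

/-- The splitting of the group by an involutive isometry. -/
theorem Form.inv_fix (Φ : Form W A) {f : MulAut W} (hf : f ∈ Φ.isom) (h2 : f ^ 2 = 1) :
    Φ.Orth (invG f) (fixG f) ∧ invG f ⊓ fixG f = ⊥ ∧
      (∀ w, ∃ a ∈ invG f, ∃ b ∈ fixG f, a * b = w) ∧
      Φ.NondegOn (invG f) ∧ Φ.NondegOn (fixG f) :=
  ⟨Φ.invG_orth_fixG hf, Φ.invG_inf_fixG f, Φ.exists_decomp_top h2, Φ.nondegOn_invG hf h2,
    Φ.nondegOn_fixG hf h2⟩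

/-- The fixed elements are those orthogonal to the inverted ones. -/
theorem Form.mem_fixG_of_orth (Φ : Form W A) {f : MulAut W} (hf : f ∈ Φ.isom) (h2 : f ^ 2 = 1)
    {w : W} (h : ∀ a ∈ invG f, Φ.B a w = 1) : w ∈ fixG f := by
  obtain ⟨a, ha, b, hb, rfl⟩ := Φ.exists_decomp_top h2 w
  have h1 : a = 1 := by
    refine Φ.nondegOn_invG hf h2 a ha fun c hc => Φ.B_comm_one ?_
    have h' := h c hc
    rwa [map_mul, Φ.invG_orth_fixG hf c hc b hb, mul_one] at h'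
  rwa [h1, one_mul]

theorem Form.le_fixG_of_orth (Φ : Form W A) {f : MulAut W} (hf : f ∈ Φ.isom) (h2 : f ^ 2 = 1)
    {P : Subgroup W} (h : Φ.Orth (invG f) P) : P ≤ fixG f :=
  fun w hw => Φ.mem_fixG_of_orth hf h2 fun a ha => h a ha w hw

/-- An involutive isometry is determined by what it inverts. -/
theorem Form.eq_of_invG_eq (Φ : Form W A) {f g : MulAut W} (hf : f ∈ Φ.isom) (hg : g ∈ Φ.isom)
    (hf2 : f ^ 2 = 1) (hg2 : g ^ 2 = 1) (h : invG f = invG g) : f = g := by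
  refine MulEquiv.ext fun w => ?_
  obtain ⟨a, ha, b, hb, rfl⟩ := Φ.exists_decomp_top hf2 w
  have hb' : b ∈ fixG g :=
    Φ.mem_fixG_of_orth hg hg2 fun c hc => Φ.invG_orth_fixG hf c (h ▸ hc) b hb
  rw [map_mul, map_mul, mem_invG.1 ha, mem_fixG.1 hb, mem_invG.1 (h ▸ ha : a ∈ invG g),
    mem_fixG.1 hb']

theorem Form.orth_self_of_isCyclic (Φ : Form W A) (R : Subgroup W) [IsCyclic R] :
    Φ.Orth R R := by
  obtain ⟨g, hg⟩ := IsCyclic.exists_generator (α := R)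
  intro v hv w hw
  obtain ⟨i, hi⟩ := Subgroup.mem_zpowers_iff.1 (hg ⟨v, hv⟩)
  obtain ⟨j, hj⟩ := Subgroup.mem_zpowers_iff.1 (hg ⟨w, hw⟩)
  have hi' : (g : W) ^ i = v := by simpa using congrArg Subtype.val hi
  have hj' : (g : W) ^ j = w := by simpa using congrArg Subtype.val hj
  rw [← hi', ← hj', map_zpow, map_zpow, MonoidHom.zpow_apply, Φ.alt, one_zpow, one_zpow]

/-- An isometry whose square fixes a plane fixes or inverts the plane. -/
theorem Form.sq_fix_on_plane (Φ : Form W A) {q : ℕ} (hq : q.Prime) {P : Subgroup W}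
    (hnd : Φ.NondegOn P) (hcard : Nat.card P = q ^ 2) {f : MulAut W} (hf : f ∈ Φ.isom)
    (hP : ∀ w ∈ P, f w ∈ P) (hff : ∀ w ∈ P, f (f w) = w) :
    (∀ w ∈ P, f w = w) ∨ (∀ w ∈ P, f w = w⁻¹) := by
  have := Φ.finite
  have hdvd := Subgroup.card_dvd_of_le (inf_le_left : P ⊓ invG f ≤ P)
  rw [hcard] at hdvd
  obtain ⟨i, hi, hic⟩ := (Nat.dvd_prime_pow hq).1 hdvd
  rcases Nat.eq_zero_or_pos i with h0 | hpos
  · left
    rw [h0, pow_zero] at hic
    intro w hw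
    obtain ⟨a, ha, b, hb, rfl⟩ := Φ.exists_decomp hP hff hw
    have : a = 1 := by
      have h1 := (Subgroup.eq_bot_of_card_eq _ hic)
      rw [h1] at ha
      exact ha
    subst this
    rw [one_mul]
    exact mem_fixG.1 hb.2
  rcases (show i = 1 ∨ i = 2 by omega) with h1 | h2
  · exfalso
    rw [h1, pow_one] at hic
    have : Fact q.Prime := ⟨hq⟩
    have : IsCyclic ↥(P ⊓ invG f) := isCyclic_of_prime_card hic
    have hbot : P ⊓ invG f = ⊥ := (Subgroup.eq_bot_iff_forall _).2 fun v hv =>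
      Φ.nondegOn_inf_invG hf hP hff hnd v hv fun w hw => Φ.orth_self_of_isCyclic _ v hv w hw
    rw [hbot, Subgroup.card_bot] at hic
    exact hq.one_lt.ne hic
  · right
    have h := Subgroup.eq_of_le_of_card_ge (inf_le_left : P ⊓ invG f ≤ P)
      (by rw [hic, hcard, h2])
    exact fun w hw => mem_invG.1 (h.symm ▸ hw : w ∈ P ⊓ invG f).2

/-- An involutive isometry of a plane is `1` or inversion there. -/
theorem Form.involution_on_plane (Φ : Form W A) {q : ℕ} (hq : q.Prime) {P : Subgroup W}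
    (hnd : Φ.NondegOn P) (hcard : Nat.card P = q ^ 2) {f : MulAut W} (hf : f ∈ Φ.isom)
    (h2 : f ^ 2 = 1) (hP : ∀ w ∈ P, f w ∈ P) :
    (∀ w ∈ P, f w = w) ∨ (∀ w ∈ P, f w = w⁻¹) :=
  Φ.sq_fix_on_plane hq hnd hcard hf hP fun w _ => mulAut_apply_apply_of_sq h2 w

end CfsgLib.TwoLength
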