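import Mathlib
import Cfsg.Agent.Lib.TwoLength.Sympl
import Cfsg.Agent.Lib.TwoLength.HeisSub
import Cfsg.Agent.Lib.TwoLength.ModChain
import Cfsg.Agent.Lib.PGroups.MaxAbelian
import Cfsg.Agent.Lib.PGroups.Basic
import Cfsg.Agent.Lib.PGroups.UniqueOrderP

/-!
# Tools for the local derived-length statement

Compatible projective modules for a group of class two and their restrictions, sections and chains;
isometries of 2-power order of a symplectic group of order nine; a small lemma on 2-groups.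
-/

set_option autoImplicit false
set_option linter.unusedSectionVars false

namespace CfsgLib.TwoLength

open Module

universe uF uU uW uG

/-! ### Forms -/

theorem Form.skew {W A : Type*} [CommGroup W] [CommGroup A] (Φ : Form W A) (v w : W) :
    Φ.B v w * Φ.B w v = 1 := by
  rw [Φ.B_swap v w, mul_inv_cancel]

/-! ### Modules -/

section Modules

variable {F : Type uF} [Field F] {U : Type uU} [AddCommGroup U] [Module F U]
  {W : Type uW} [CommGroup W] {Γ : Type uG} [Group Γ]

/-- A projective module for `W` with a compatible action of `Γ`. -/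
structure Mod (Φ : Form W Fˣ) (π : W → Module.End F U) (ρ : Representation F Γ U)
    (φ : Γ →* MulAut W) : Prop where
  one : π 1 = 1
  mul : ∀ v w, ∃ c : F, c ≠ 0 ∧ π v * π w = c • π (v * w)
  comm : ∀ v w, π v * π w = (Φ.B v w : F) • (π w * π v)
  compat : ∀ g w, ∃ c : F, c ≠ 0 ∧ ρ g * π w = c • (π (φ g w) * ρ g)

theorem Mod.of_heis {h : Heis F U W} {ρ : Representation F Γ U} {φ : Γ →* MulAut W}
    (hc : h.IsCompat ρ φ) : Mod h.form h.π ρ φ :=
  ⟨h.π_one, h.π_mul, h.π_comm, hc⟩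

variable {Φ : Form W Fˣ} {π : W → Module.End F U} {ρ : Representation F Γ U}
  {φ : Γ →* MulAut W}

theorem Mod.restrict [Finite W] (hM : Mod Φ π ρ φ) (W' : Subgroup W) (H : Subgroup Γ)
    (hn : ∀ v ∈ W', (∀ w ∈ W', Φ.B v w = 1) → v = 1) (hs : ∀ g ∈ H, ∀ w ∈ W', φ g w ∈ W') :
    Mod (Φ.sub W' hn) (fun w => π (w : W)) (ρ.comp H.subtype) (autOn φ W' H hs) where
  one := hM.one
  mul v w := hM.mul (v : W) w
  comm v w := hM.comm (v : W) w
  compat g w := hM.compat (g : Γ) w

/-- The operators on an invariant submodule. -/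
def piSub (π : W → Module.End F U) (Z : Submodule F U) (hπ : ∀ w, ∀ u ∈ Z, π w u ∈ Z) :
    W → Module.End F Z :=
  fun w => (π w).restrict (hπ w)

/-- The representation on an invariant submodule. -/
def repSub (ρ : Representation F Γ U) (Z : Submodule F U) (hρ : ∀ g, ∀ u ∈ Z, ρ g u ∈ Z) :
    Representation F Γ Z where
  toFun g := (ρ g).restrict (hρ g)
  map_one' := by
    refine LinearMap.ext fun u => Subtype.ext ?_
    show ρ 1 (u : U) = u
    rw [map_one]; rfl
  map_mul' g g' := by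
    refine LinearMap.ext fun u => Subtype.ext ?_
    show ρ (g * g') (u : U) = ρ g (ρ g' u)
    rw [map_mul]; rfl

theorem piSub_apply (π : W → Module.End F U) (Z : Submodule F U)
    (hπ : ∀ w, ∀ u ∈ Z, π w u ∈ Z) (w : W) (u : Z) : (piSub π Z hπ w u : U) = π w u := rfl

theorem repSub_apply (ρ : Representation F Γ U) (Z : Submodule F U)
    (hρ : ∀ g, ∀ u ∈ Z, ρ g u ∈ Z) (g : Γ) (u : Z) : (repSub ρ Z hρ g u : U) = ρ g u := rfl

theorem Mod.sub (hM : Mod Φ π ρ φ) (Z : Submodule F U) (hπ : ∀ w, ∀ u ∈ Z, π w u ∈ Z)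
    (hρ : ∀ g, ∀ u ∈ Z, ρ g u ∈ Z) : Mod Φ (piSub π Z hπ) (repSub ρ Z hρ) φ where
  one := by
    refine LinearMap.ext fun u => Subtype.ext ?_
    show π 1 (u : U) = u
    rw [hM.one]; rfl
  mul v w := by
    obtain ⟨c, hc, e⟩ := hM.mul v w
    exact ⟨c, hc, LinearMap.ext fun u => Subtype.ext (LinearMap.congr_fun e (u : U))⟩
  comm v w := LinearMap.ext fun u => Subtype.ext (LinearMap.congr_fun (hM.comm v w) (u : U))
  compat g w := by
    obtain ⟨c, hc, e⟩ := hM.compat g w
    exact ⟨c, hc, LinearMap.ext fun u => Subtype.ext (LinearMap.congr_fun e (u : U))⟩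

/-- The operators on the quotient by an invariant submodule. -/
def piQuot (π : W → Module.End F U) (Z : Submodule F U) (hπ : ∀ w, ∀ u ∈ Z, π w u ∈ Z) :
    W → Module.End F (U ⧸ Z) :=
  fun w => Z.mapQ Z (π w) (hπ w)

/-- The representation on the quotient by an invariant submodule. -/
def repQuot (ρ : Representation F Γ U) (Z : Submodule F U) (hρ : ∀ g, ∀ u ∈ Z, ρ g u ∈ Z) :
    Representation F Γ (U ⧸ Z) where
  toFun g := Z.mapQ Z (ρ g) (hρ g)
  map_one' := by
    refine Submodule.linearMap_qext _ (LinearMap.ext fun u => ?_)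
    show Submodule.Quotient.mk (ρ 1 u) = _
    rw [map_one]; rfl
  map_mul' g g' := by
    refine Submodule.linearMap_qext _ (LinearMap.ext fun u => ?_)
    show Submodule.Quotient.mk (ρ (g * g') u) = _
    rw [map_mul]; rfl

theorem piQuot_mk (π : W → Module.End F U) (Z : Submodule F U)
    (hπ : ∀ w, ∀ u ∈ Z, π w u ∈ Z) (w : W) (u : U) :
    piQuot π Z hπ w (Z.mkQ u) = Z.mkQ (π w u) := rfl

theorem repQuot_mk (ρ : Representation F Γ U) (Z : Submodule F U)
    (hρ : ∀ g, ∀ u ∈ Z, ρ g u ∈ Z) (g : Γ) (u : U) :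
    repQuot ρ Z hρ g (Z.mkQ u) = Z.mkQ (ρ g u) := rfl

theorem Mod.quot (hM : Mod Φ π ρ φ) (Z : Submodule F U) (hπ : ∀ w, ∀ u ∈ Z, π w u ∈ Z)
    (hρ : ∀ g, ∀ u ∈ Z, ρ g u ∈ Z) : Mod Φ (piQuot π Z hπ) (repQuot ρ Z hρ) φ where
  one := by
    refine Submodule.linearMap_qext _ (LinearMap.ext fun u => ?_)
    show Submodule.Quotient.mk (π 1 u) = _
    rw [hM.one]; rfl
  mul v w := by
    obtain ⟨c, hc, e⟩ := hM.mul v w
    refine ⟨c, hc, Submodule.linearMap_qext _ (LinearMap.ext fun u => ?_)⟩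
    exact congrArg Z.mkQ (LinearMap.congr_fun e u)
  comm v w := Submodule.linearMap_qext _ (LinearMap.ext fun u =>
    congrArg Z.mkQ (LinearMap.congr_fun (hM.comm v w) u))
  compat g w := by
    obtain ⟨c, hc, e⟩ := hM.compat g w
    refine ⟨c, hc, Submodule.linearMap_qext _ (LinearMap.ext fun u => ?_)⟩
    exact congrArg Z.mkQ (LinearMap.congr_fun e u)

/-- An irreducible module gives a `Heis`. -/
def Mod.toHeis (hM : Mod Φ π ρ φ)
    (hirr : ∀ X : Submodule F U, (∀ w, ∀ u ∈ X, π w u ∈ X) → X = ⊥ ∨ X = ⊤) : Heis F U W :=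
  ⟨π, Φ, hM.one, hM.mul, hM.comm, hirr⟩

theorem Mod.isCompat (hM : Mod Φ π ρ φ)
    (hirr : ∀ X : Submodule F U, (∀ w, ∀ u ∈ X, π w u ∈ X) → X = ⊥ ∨ X = ⊤) :
    (hM.toHeis hirr).IsCompat ρ φ :=
  hM.compat

/-- A minimal invariant submodule is irreducible. -/
theorem piSub_irred {Z : Submodule F U} {hπ : ∀ w, ∀ u ∈ Z, π w u ∈ Z}
    (hmin : ∀ X' ≤ Z, (∀ w, ∀ u ∈ X', π w u ∈ X') → X' = ⊥ ∨ X' = Z) :
    ∀ X : Submodule F Z, (∀ w, ∀ u ∈ X, piSub π Z hπ w u ∈ X) → X = ⊥ ∨ X = ⊤ := by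
  intro X hX
  rcases hmin (X.map Z.subtype) (Submodule.map_subtype_le Z X) (by
    rintro w _ ⟨u, hu, rfl⟩
    exact ⟨_, hX w u hu, rfl⟩) with h | h
  · exact Or.inl (Submodule.map_injective_of_injective Z.subtype_injective (h.trans (Submodule.map_bot _).symm))
  · refine Or.inr (eq_top_iff.2 fun u _ => ?_)
    obtain ⟨u', hu', e⟩ : (u : U) ∈ X.map Z.subtype := h.symm ▸ u.2
    rwa [← Subtype.ext (e : (u' : U) = u)]

end Modules

/-! ### Chains -/

section ChainLemmas

variable {k V V' Γ Γ' : Type*} [CommRing k] [AddCommGroup V] [Module k V] [AddCommGroup V']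
  [Module k V'] [Group Γ] [Group Γ']

/-- Chains are natural in the module and in the operators. -/
theorem chain_map (ρ : Representation k Γ V) (ρ' : Representation k Γ' V') (ι : Γ' →* Γ)
    (f : V →ₗ[k] V') (hf : ∀ g' v, f (ρ (ι g') v) = ρ' g' (f v)) (n : ℕ) :
    ∀ (D : ℕ → Subgroup Γ') (X : Submodule k V),
      (chain ρ (fun i => (D i).map ι) n X).map f = chain ρ' D n (X.map f) := by
  have hcomm : ∀ (D : Subgroup Γ') (X : Submodule k V),
      (comm ρ (D.map ι) X).map f = comm ρ' D (X.map f) := by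
    intro D X
    refine le_antisymm (Submodule.map_le_iff_le_comap.2 ((comm_le_iff ρ).2 ?_))
      ((comm_le_iff ρ').2 ?_)
    · rintro _ ⟨g', hg', rfl⟩ v hv
      show f (ρ (ι g') v - v) ∈ comm ρ' D (X.map f)
      rw [map_sub, hf]
      exact mem_comm ρ' hg' (Submodule.mem_map_of_mem hv)
    · rintro g' hg' _ ⟨v, hv, rfl⟩
      refine ⟨ρ (ι g') v - v, mem_comm ρ (D := D.map ι) ⟨g', hg', rfl⟩ hv, ?_⟩
      rw [map_sub, hf]
  induction n with
  | zero => intro D X; exact hcomm _ _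
  | succ n ih =>
    intro D X
    show (chain ρ (fun i => (D (i + 1)).map ι) n _).map f = chain ρ' (fun i => D (i + 1)) n _
    rw [ih (fun i => D (i + 1)), hcomm]

theorem dS_normal (n : ℕ) : (dS (⊤ : Subgroup Γ) n).Normal := by
  induction n with
  | zero => exact inferInstanceAs (⊤ : Subgroup Γ).Normal
  | succ n ih =>
    haveI := ih
    exact Subgroup.commutator_normal _ _

end ChainLemmas

/-! ### Groups of two-power order -/

section TwoGroups

/-- A 2-group of order at most eight has a derived subgroup of order at most two. -/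
theorem commutator_le_two {G : Type*} [Group G] [Finite G] (hG : IsPGroup 2 G)
    (h8 : Nat.card G ≤ 8) : Nat.card (commutator G) ≤ 2 := by
  classical
  by_cases hab : ∀ a b : G, a * b = b * a
  · have h : commutator G = ⊥ := by
      rw [commutator_def, Subgroup.commutator_eq_bot_iff_le_centralizer]
      exact fun a _ => Subgroup.mem_centralizer_iff.2 fun b _ => hab b a
    rw [h, Subgroup.card_bot]; norm_num
  haveI : Fact (Nat.Prime 2) := ⟨Nat.prime_two⟩
  push Not at hab
  obtain ⟨n, hn⟩ := IsPGroup.iff_card.1 hG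
  obtain ⟨a, b, hab⟩ := hab
  haveI : Nontrivial G := ⟨⟨a * b, b * a, hab⟩⟩
  haveI := hG.center_nontrivial
  obtain ⟨c, hc⟩ := IsPGroup.iff_card.1 (hG.to_subgroup (Subgroup.center G))
  have hc1 : 1 ≤ c := by
    by_contra h
    have := Finite.one_lt_card (α := Subgroup.center G)
    rw [hc, show c = 0 by omega] at this
    simp at this
  obtain ⟨q, hq⟩ := IsPGroup.iff_card.1 (hG.to_quotient (Subgroup.center G))
  have hcard := Subgroup.card_eq_card_quotient_mul_card_subgroup (Subgroup.center G)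
  rw [hn, hq, hc, ← pow_add] at hcard
  have hn3 : n ≤ 3 := by
    by_contra h
    have := Nat.pow_le_pow_right (show 0 < 2 by norm_num) (show 4 ≤ n by omega)
    omega
  have hq2 : 2 ≤ q := by
    by_contra h
    haveI : IsCyclic (G ⧸ Subgroup.center G) := by
      rcases Nat.eq_zero_or_pos q with rfl | hq0
      · haveI : Subsingleton (G ⧸ Subgroup.center G) :=
          (Nat.card_eq_one_iff_unique.1 (by rw [hq, pow_zero])).1
        infer_instance
      · exact isCyclic_of_prime_card (p := 2) (by rw [hq, show q = 1 by omega, pow_one])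
    exact hab (commutative_of_cyclic_center_quotient (QuotientGroup.mk' (Subgroup.center G))
      (by rw [QuotientGroup.ker_mk']) a b)
  have he : n = q + c := Nat.pow_right_injective (le_refl 2) hcard
  have hle : commutator G ≤ Subgroup.center G := by
    have hq4 : Nat.card (G ⧸ Subgroup.center G) = 2 ^ 2 := by rw [hq, show q = 2 by omega]
    rw [commutator_def, Subgroup.commutator_le]
    intro x _ y _
    rw [← QuotientGroup.eq_one_iff, ← QuotientGroup.mk'_apply, map_commutatorElement,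
      commutatorElement_eq_one_iff_mul_comm]
    exact IsPGroup.commutative_of_card_eq_prime_sq hq4 _ _
  calc Nat.card (commutator G) ≤ Nat.card (Subgroup.center G) := Subgroup.card_le_of_le hle
    _ = 2 := by rw [hc, show c = 1 by omega, pow_one]

/-- A 2-group with non-trivial second derived subgroup and a central involution `x` has an
involution outside `⟨x⟩` whose conjugates lie in `{t, t x}`. -/
theorem exists_moved_involution {G : Type*} [Group G] [Finite G] (hG : IsPGroup 2 G)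
    (hder : ⁅commutator G, commutator G⁆ ≠ ⊥) {x : G} (hx : x ∈ Subgroup.center G)
    (hx2 : x * x = 1) :
    ∃ t : G, t * t = 1 ∧ t ≠ 1 ∧ t ≠ x ∧ ∀ g : G, g * t * g⁻¹ = t ∨ g * t * g⁻¹ = t * x := by
  classical
  haveI : Fact (Nat.Prime 2) := ⟨Nat.prime_two⟩
  obtain ⟨A, hAn, hAab, -, hCA⟩ := CfsgLib.PGroups.exists_selfCentralizing_normal hG
    (⊥ : Subgroup G) ⟨⟨fun a b => Subsingleton.elim _ _⟩⟩
  haveI := hAn
  have hAc : ∀ a ∈ A, ∀ b ∈ A, a * b = b * a := fun a ha b hb =>
    congrArg Subtype.val (hAab.1.1 (⟨a, ha⟩ : A) ⟨b, hb⟩)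
  have hxA : x ∈ A := by
    rw [← hCA]
    exact Subgroup.mem_centralizer_iff.2 fun a _ => Subgroup.mem_center_iff.1 hx a
  -- `A` is not cyclic
  have hncyc : ¬ IsCyclic A := by
    intro hcyc
    refine hder ?_
    let f : G →* MulAut A := MulAut.conjNormal
    have hker : ∀ g, f g = 1 → g ∈ A := by
      intro g hg
      rw [← hCA]
      refine Subgroup.mem_centralizer_iff.2 fun a ha => ?_
      have h1 := congrArg Subtype.val (DFunLike.congr_fun hg (⟨a, ha⟩ : A))
      rw [MulAut.conjNormal_apply, MulAut.one_apply, mul_inv_eq_iff_eq_mul] at h1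
      exact h1.symm
    have hle : commutator G ≤ A := by
      rw [commutator_def, Subgroup.commutator_le]
      intro a _ b _
      refine hker _ ?_
      rw [map_commutatorElement, commutatorElement_eq_one_iff_mul_comm]
      obtain ⟨z, hz⟩ := hcyc.exists_generator
      refine MulEquiv.ext fun v => ?_
      obtain ⟨i, rfl⟩ := Subgroup.mem_zpowers_iff.1 (hz v)
      rw [map_zpow, map_zpow]
      refine congrArg (· ^ i) ?_
      obtain ⟨j, hj⟩ := Subgroup.mem_zpowers_iff.1 (hz (f a z))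
      obtain ⟨l, hl⟩ := Subgroup.mem_zpowers_iff.1 (hz (f b z))
      rw [MulAut.mul_apply, MulAut.mul_apply, ← hl, ← hj, map_zpow, map_zpow, ← hl, ← hj,
        ← zpow_mul, ← zpow_mul, mul_comm]
    rw [Subgroup.commutator_eq_bot_iff_le_centralizer]
    intro a ha
    exact Subgroup.mem_centralizer_iff.2 fun b hb => hAc b (hle hb) a (hle ha)
  -- hence it has an involution other than `x`
  obtain ⟨u, huA, hu2, hu1, hux⟩ : ∃ u ∈ A, u * u = 1 ∧ u ≠ 1 ∧ u ≠ x := by
    by_contra h
    push Not at h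
    refine hncyc ?_
    haveI : IsMulCommutative A := hAab
    refine CfsgLib.PGroups.isCyclic_of_abelian_of_unique (hG.to_subgroup A) (z := ⟨x, hxA⟩)
      (fun y hy => ?_) (Subtype.ext (by rw [pow_two]; exact hx2))
    rcases eq_or_ne y 1 with rfl | hy1
    · exact one_mem _
    · have h1 : (y : G) * y = 1 := by
        have := congrArg Subtype.val hy
        rwa [pow_two] at this
      rw [show y = ⟨x, hxA⟩ from Subtype.ext (h y.1 y.2 h1 fun e => hy1 (Subtype.ext e))]
      exact Subgroup.mem_zpowers _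
  let Ω : Subgroup G :=
    { carrier := {a | a ∈ A ∧ a * a = 1}
      one_mem' := ⟨one_mem _, one_mul 1⟩
      mul_mem' := fun {a b} ha hb => ⟨mul_mem ha.1 hb.1, by
        calc a * b * (a * b) = a * (b * a) * b := by group
          _ = a * (a * b) * b := by rw [hAc b hb.1 a ha.1]
          _ = (a * a) * (b * b) := by group
          _ = 1 := by rw [ha.2, hb.2, one_mul]⟩
      inv_mem' := fun {a} ha => ⟨inv_mem ha.1, by rw [← mul_inv_rev, ha.2, inv_one]⟩ }
  haveI : Ω.Normal := ⟨fun a ha g => ⟨hAn.conj_mem a ha.1 g, by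
    rw [show g * a * g⁻¹ * (g * a * g⁻¹) = g * (a * a) * g⁻¹ by group, ha.2]; group⟩⟩
  haveI : (Subgroup.zpowers x).Normal := ⟨fun a ha g => by
    obtain ⟨i, rfl⟩ := Subgroup.mem_zpowers_iff.1 ha
    rw [Subgroup.mem_center_iff.1 (zpow_mem hx i) g, mul_inv_cancel_right]
    exact zpow_mem (Subgroup.mem_zpowers x) i⟩
  have hmem : ∀ {a : G}, a ∈ Subgroup.zpowers x → a = 1 ∨ a = x := by
    rintro a ⟨i, rfl⟩
    rcases Int.even_or_odd i with ⟨j, rfl⟩ | ⟨j, rfl⟩
    · left; show x ^ (j + j) = 1; rw [← two_mul, zpow_mul, zpow_two, hx2, one_zpow]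
    · right; show x ^ (2 * j + 1) = x; rw [zpow_add_one, zpow_mul, zpow_two, hx2, one_zpow, one_mul]
  set π := QuotientGroup.mk' (Subgroup.zpowers x) with hπ
  haveI : (Ω.map π).Normal :=
    Subgroup.Normal.map inferInstance π (QuotientGroup.mk'_surjective _)
  have hne : Ω.map π ≠ ⊥ := by
    rw [Ne, Subgroup.map_eq_bot_iff, hπ, QuotientGroup.ker_mk']
    intro hle
    rcases hmem (hle (show u ∈ Ω from ⟨huA, hu2⟩)) with e | e
    exacts [hu1 e, hux e]
  obtain ⟨tb, htb, htb1⟩ := (Subgroup.ne_bot_iff_exists_ne_one.1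
    (CfsgLib.PGroups.inf_center_ne_bot (hG.to_quotient (Subgroup.zpowers x)) hne)) |>
      fun ⟨z, hz⟩ => (⟨z.1, z.2, fun e => hz (Subtype.ext e)⟩ :
        ∃ z, z ∈ Ω.map π ⊓ Subgroup.center (G ⧸ Subgroup.zpowers x) ∧ z ≠ 1)
  obtain ⟨⟨t, ht, rfl⟩, htc⟩ := htb
  have ht1 : t ∉ Subgroup.zpowers x := fun h => htb1 ((QuotientGroup.eq_one_iff _).2 h)
  refine ⟨t, ht.2, fun e => ht1 (e ▸ one_mem _), fun e => ht1 (e ▸ Subgroup.mem_zpowers x),
    fun g => ?_⟩
  have h1 : t⁻¹ * (g * t * g⁻¹) ∈ Subgroup.zpowers x := by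
    refine QuotientGroup.eq.1 ?_
    show π t = π (g * t * g⁻¹)
    rw [map_mul, map_mul, map_inv, Subgroup.mem_center_iff.1 htc (π g), mul_inv_cancel_right]
  rcases hmem h1 with e | e
  · left; exact (inv_mul_eq_one.1 e).symm
  · right; rw [← e, mul_inv_cancel_left]

end TwoGroups

/-! ### Isometries of two-power order of a group of order nine -/

section Nine

variable {W A : Type*} [CommGroup W] [CommGroup A] [Finite W]

theorem exponent_three_of_card_nine (Φ : Form W A) (hW : Nat.card W = 9) (w : W) : w ^ 3 = 1 := by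
  obtain ⟨i, hi, he⟩ := (Nat.dvd_prime_pow Nat.prime_three).1
    (show orderOf w ∣ 3 ^ 2 by rw [show (3 : ℕ) ^ 2 = Nat.card W by rw [hW]; rfl]
                               exact orderOf_dvd_natCard w)
  rcases (show i = 0 ∨ i = 1 ∨ i = 2 by omega) with rfl | rfl | rfl
  · rw [orderOf_eq_one_iff.1 (he.trans (pow_zero 3)), one_pow]
  · exact he.trans (pow_one 3) ▸ pow_orderOf_eq_one w
  · have htop : Subgroup.zpowers w = ⊤ :=
      Subgroup.eq_top_of_card_eq _ (by rw [Nat.card_zpowers, he, hW]; rfl)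
    have h1 : w = 1 := Φ.nondeg w fun v => by
      obtain ⟨k, rfl⟩ := Subgroup.mem_zpowers_iff.1 (htop ▸ Subgroup.mem_top v : v ∈ _)
      rw [map_zpow, Φ.alt, one_zpow]
    rw [h1, one_pow]

theorem orderOf_eq_three (Φ : Form W A) (hW : Nat.card W = 9) {v : W} (hv : v ≠ 1) :
    orderOf v = 3 :=
  orderOf_eq_prime (hp := ⟨Nat.prime_three⟩) (exponent_three_of_card_nine Φ hW v) hv

theorem eq_zpowers_or_top (Φ : Form W A) (hW : Nat.card W = 9) {v : W} (hv : v ≠ 1)
    (K : Subgroup W) (hvK : v ∈ K) : K = Subgroup.zpowers v ∨ K = ⊤ := by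
  have hle : Subgroup.zpowers v ≤ K := Subgroup.zpowers_le.2 hvK
  have h3 : Nat.card (Subgroup.zpowers v) = 3 := by
    rw [Nat.card_zpowers, orderOf_eq_three Φ hW hv]
  obtain ⟨i, hi, he⟩ := (Nat.dvd_prime_pow Nat.prime_three).1
    (show Nat.card K ∣ 3 ^ 2 by rw [show (3 : ℕ) ^ 2 = Nat.card W by rw [hW]; rfl]
                                exact K.card_subgroup_dvd_card)
  have h1 := Subgroup.card_le_of_le hle
  rw [h3, he] at h1
  rcases (show i = 0 ∨ i = 1 ∨ i = 2 by omega) with rfl | rfl | rfl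
  · simp at h1
  · exact Or.inl (Subgroup.eq_of_le_of_card_ge hle (by rw [h3, he, pow_one])).symm
  · exact Or.inr (Subgroup.eq_top_of_card_eq _ (by rw [he, hW]; rfl))

theorem mem_zpowers_of_orth (Φ : Form W A) (hW : Nat.card W = 9) {v w : W} (hv : v ≠ 1)
    (h : Φ.B v w = 1) : w ∈ Subgroup.zpowers v := by
  rcases eq_zpowers_or_top Φ hW hv (Φ.B v).ker (Φ.alt v) with e | e
  · exact e ▸ (h : w ∈ (Φ.B v).ker)
  · exact absurd (Φ.nondeg v fun u => (e.symm ▸ Subgroup.mem_top u : u ∈ (Φ.B v).ker)) hv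

theorem eq_one_or_of_zpowers (Φ : Form W A) (hW : Nat.card W = 9) {v w : W}
    (h : w ∈ Subgroup.zpowers v) : w = 1 ∨ w = v ∨ w = v⁻¹ := by
  obtain ⟨i, rfl⟩ := Subgroup.mem_zpowers_iff.1 h
  have h3 : v ^ (3 : ℤ) = 1 := by exact_mod_cast exponent_three_of_card_nine Φ hW v
  have h2 : v ^ (2 : ℤ) = v⁻¹ := by
    rw [eq_inv_iff_mul_eq_one, ← zpow_add_one]; exact h3
  rw [← Int.emod_add_mul_ediv i 3, zpow_add, zpow_mul, h3, one_zpow, mul_one]
  rcases (show i % 3 = 0 ∨ i % 3 = 1 ∨ i % 3 = 2 by omega) with e | e | e <;> rw [e]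
  · exact Or.inl (zpow_zero v)
  · exact Or.inr (Or.inl (zpow_one v))
  · exact Or.inr (Or.inr h2)

theorem eq_one_of_fixed_nine (Φ : Form W A) (hW : Nat.card W = 9) {f : MulAut W}
    (hf : f ∈ Φ.isom) {n : ℕ} (hn : f ^ 2 ^ n = 1) {v : W} (hv : v ≠ 1) (hfv : f v = v) :
    f = 1 := by
  have h3 : f ^ 3 = 1 := by
    refine MulEquiv.ext fun w => ?_
    have hw : f w * w⁻¹ ∈ Subgroup.zpowers v := by
      refine mem_zpowers_of_orth Φ hW hv ?_
      have := hf v w
      rw [hfv] at this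
      rw [map_mul, this, map_inv, mul_inv_cancel]
    obtain ⟨i, hi⟩ := Subgroup.mem_zpowers_iff.1 hw
    have hi' : f w = v ^ i * w := by rw [hi, inv_mul_cancel_right]
    have h3 : (v ^ i) ^ 3 = 1 := exponent_three_of_card_nine Φ hW _
    show f (f (f w)) = w
    rw [hi', map_mul, map_zpow, hfv, hi', map_mul, map_zpow, hfv, map_mul, map_zpow, hfv, hi',
      ← mul_assoc, ← mul_assoc, ← pow_three', h3, one_mul]
  have := pow_gcd_eq_one.mpr ⟨h3, hn⟩
  rwa [Nat.Coprime.pow_right n (by norm_num : Nat.Coprime 3 2), pow_one] at this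

theorem sq_eq_pm_of_card_nine (Φ : Form W A) (hW : Nat.card W = 9) {f : MulAut W}
    (hf : f ∈ Φ.isom) {n : ℕ} (hn : f ^ 2 ^ n = 1) :
    f * f = 1 ∨ ∀ w, f (f w) = w⁻¹ := by
  haveI : Nontrivial W := Finite.one_lt_card_iff_nontrivial.1 (by rw [hW]; norm_num)
  obtain ⟨v, hv⟩ := exists_ne (1 : W)
  by_cases hu : f v ∈ Subgroup.zpowers v
  · left
    rcases eq_one_or_of_zpowers Φ hW hu with e | e | e
    · exact absurd (f.map_eq_one_iff.1 e) hv
    · rw [eq_one_of_fixed_nine Φ hW hf hn hv e, one_mul]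
    · refine eq_one_of_fixed_nine Φ hW (mul_mem hf hf) (n := n) ?_ hv ?_
      · rw [← pow_two, ← pow_mul, mul_comm, pow_mul, hn, one_pow]
      · show f (f v) = v
        rw [e, map_inv, e, inv_inv]
  set u := f v with hudef
  have hu1 : u ≠ 1 := fun e => hu (e ▸ one_mem _)
  have hgen : ∀ K : Subgroup W, v ∈ K → u ∈ K → K = ⊤ := fun K h1 h2 =>
    (eq_zpowers_or_top Φ hW hv K h1).resolve_left fun e => hu (e ▸ h2)
  have hw : f u * v ∈ Subgroup.zpowers u := by
    refine mem_zpowers_of_orth Φ hW hu1 ?_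
    have h1 := hf v u
    rw [← hudef] at h1
    rw [map_mul, h1, Φ.skew]
  have hsix : ∀ g : MulAut W, g = f ^ 3 → g v = v ∨ g v = v⁻¹ → f * f = 1 := by
    intro g hg hgv
    have hgg : g * g = 1 := by
      refine MulEquiv.ext fun w => ?_
      have hcomm : g u = f (g v) := by
        rw [hudef, ← MulAut.mul_apply, ← MulAut.mul_apply, hg, ← pow_succ, ← pow_succ']
      have hv2 : g (g v) = v := by
        rcases hgv with e | e
        · rw [e, e]
        · rw [e, map_inv, e, inv_inv]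
      have hu2 : g (g u) = u := by
        rcases hgv with e | e
        · rw [hcomm, e, ← hudef, hcomm, e]
        · rw [hcomm, e, map_inv, ← hudef, map_inv, hcomm, e, map_inv, inv_inv]
      exact mem_fixG.1 (show w ∈ fixG (g * g) by rw [hgen (fixG (g * g)) hv2 hu2]; exact Subgroup.mem_top w)
    have h1 : (f * f) ^ 3 = 1 := by rw [← pow_two, ← pow_mul, mul_comm, pow_mul, ← hg, pow_two, hgg]
    have h2 : (f * f) ^ 2 ^ n = 1 := by rw [← pow_two, ← pow_mul, mul_comm, pow_mul, hn, one_pow]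
    have := pow_gcd_eq_one.mpr ⟨h1, h2⟩
    rwa [Nat.Coprime.pow_right n (by norm_num : Nat.Coprime 3 2), pow_one] at this
  rcases eq_one_or_of_zpowers Φ hW hw with e | e | e
  · right
    have hfv : f (f v) = v⁻¹ := mul_eq_one_iff_eq_inv.1 e
    have hfu : f (f u) = u⁻¹ := by rw [hudef, hfv, map_inv]
    intro w
    exact mem_invG.1 (show w ∈ invG (f * f) by rw [hgen (invG (f * f)) hfv hfu]; exact Subgroup.mem_top w)
  · refine Or.inl (hsix _ rfl (Or.inr ?_))
    show f (f (f v)) = v⁻¹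
    have hfu : f u = u * v⁻¹ := eq_mul_inv_of_mul_eq e
    rw [← hudef, hfu, map_mul, map_inv, hfu, ← hudef, mul_right_comm, mul_inv_cancel, one_mul]
  · refine Or.inl (hsix _ rfl (Or.inl ?_))
    show f (f (f v)) = v
    have hfu : f u = u⁻¹ * v⁻¹ := eq_mul_inv_of_mul_eq e
    rw [← hudef, hfu, map_mul, map_inv, hfu, map_inv, ← hudef, mul_inv, inv_inv, inv_inv,
      mul_right_comm, mul_inv_cancel, one_mul]

end Nine

end CfsgLib.TwoLength
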