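import Mathlib
import Cfsg.Agent.Lib.TwoLength.Defs
import Cfsg.Agent.Lib.PLocal.PLength
import Cfsg.Agent.Lib.PLocal.PLengthExtension

/-!
# Bounds on the `p`-length from sections of a faithful module in characteristic two
-/

set_option autoImplicit false

namespace CfsgLib.TwoLength

open Cfsg Subgroup CfsgLib.Base CfsgLib.PLocal

universe uH uV uX

variable {H : Type uH} [Group H]

theorem pLengthLE_congr [Finite H] {X : Type uX} [Group X] [Finite X] {p k : ℕ} [Fact p.Prime]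
    (e : H ≃* X) (h : PLengthLE p k H) : PLengthLE p k X := by
  have h' : (upperPSeries p H (2 * k + 1)).1 = ⊤ := h
  let M : ℕ → Subgroup X := fun j => (upperPSeries p H j).1.comap e.symm.toMonoidHom
  have hsur : Function.Surjective e.symm.toMonoidHom := e.symm.surjective
  have hrel : ∀ A B : Subgroup H, (A.comap e.symm.toMonoidHom).relIndex (B.comap e.symm.toMonoidHom)
      = A.relIndex B := fun A B => by
    rw [Subgroup.relIndex_comap, Subgroup.map_comap_eq_self_of_surjective hsur]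
  have hbot : M 0 ≤ (upperPSeries p X (2 * 0)).1 := fun x hx => by
    have h1 : e.symm x = 1 := Subgroup.mem_bot.1 hx
    exact Subgroup.mem_bot.2 (e.symm.map_eq_one_iff.1 h1)
  have h2 := le_upperPSeries_of_series (p := p) 0 M (fun j _ => inferInstance) hbot
    (fun i => by rw [hrel]; exact coprime_relIndex_upperPSeries i le_rfl)
    (fun i => by rw [hrel]; exact isPGroup_relIndex_upperPSeries i le_rfl) (2 * k + 1)
  rw [show M (2 * k + 1) = ⊤ by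
    show (upperPSeries p H (2 * k + 1)).1.comap e.symm.toMonoidHom = ⊤
    rw [h', Subgroup.comap_top], Nat.mul_zero, Nat.zero_add] at h2
  exact top_le_iff.1 h2

theorem pLengthLE_succ_of_quotient [Finite H] {p k : ℕ} [Fact p.Prime]
    (h : PLengthLE p k (H ⧸ (upperPSeries p H 2).1)) : PLengthLE p (k + 1) H := by
  have h1 := comap_upperPSeries p H (2 * k + 1)
  rw [show (upperPSeries p (H ⧸ (upperPSeries p H 2).1) (2 * k + 1)).1 = ⊤ from h,
    Subgroup.comap_top] at h1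
  show (upperPSeries p H (2 * (k + 1) + 1)).1 = ⊤
  rw [show 2 * (k + 1) + 1 = 2 * k + 1 + 2 by omega]
  exact h1.symm

theorem pLengthLE_of_quotient_pPrimeCore [Finite H] {p k : ℕ} [Fact p.Prime]
    (h : PLengthLE p k (H ⧸ pPrimeCore p H)) : PLengthLE p k H := by
  have hN : pPrimeCore p H ≤ (upperPSeries p H (2 * 0 + 1)).1 := by
    rw [upperPSeries_odd, ← map_le_iff_le_comap]
    exact map_pPrimeCore_le _ (QuotientGroup.mk'_surjective _)
  have h1 := comap_upperPSeries_le (p := p) hN (j := 2 * k + 1) (by omega)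
  rw [show (upperPSeries p (H ⧸ pPrimeCore p H) (2 * k + 1)).1 = ⊤ from h, Subgroup.comap_top,
    Nat.mul_zero, Nat.zero_add] at h1
  exact top_le_iff.1 h1

theorem relIndex_inf_dvd_mul {A₁ A₂ B₁ B₂ : Subgroup H} [A₁.Normal] [A₂.Normal] :
    (A₁ ⊓ A₂).relIndex (B₁ ⊓ B₂) ∣ A₁.relIndex B₁ * A₂.relIndex B₂ := by
  have e1 : (A₁ ⊓ A₂).relIndex (B₁ ⊓ B₂) = (A₁ ⊓ A₂ ⊓ (B₁ ⊓ B₂)).relIndex (B₁ ⊓ B₂) :=
    (inf_relIndex_right _ _).symm
  have e2 : (A₁ ⊓ A₂ ⊓ (B₁ ⊓ B₂)).relIndex (A₁ ⊓ (B₁ ⊓ B₂)) = A₂.relIndex (A₁ ⊓ (B₁ ⊓ B₂)) := by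
    rw [show A₁ ⊓ A₂ ⊓ (B₁ ⊓ B₂) = A₂ ⊓ (A₁ ⊓ (B₁ ⊓ B₂)) by ac_rfl, inf_relIndex_right]
  have e3 := relIndex_mul_relIndex (A₁ ⊓ A₂ ⊓ (B₁ ⊓ B₂)) (A₁ ⊓ (B₁ ⊓ B₂)) (B₁ ⊓ B₂)
    (inf_le_inf_right _ inf_le_left) inf_le_right
  rw [e2, inf_relIndex_right] at e3
  rw [e1, ← e3, mul_comm]
  exact mul_dvd_mul (relIndex_dvd_relIndex_of_normal A₁ inf_le_left)
    (relIndex_dvd_relIndex_of_normal A₂ (inf_le_right.trans inf_le_right))

theorem pLengthLE_quotient_inf [Finite H] {p k : ℕ} [Fact p.Prime] (K₁ K₂ : Subgroup H) [K₁.Normal]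
    [K₂.Normal] (h₁ : PLengthLE p k (H ⧸ K₁)) (h₂ : PLengthLE p k (H ⧸ K₂)) :
    PLengthLE p k (H ⧸ (K₁ ⊓ K₂)) := by
  let f₁ : H ⧸ (K₁ ⊓ K₂) →* H ⧸ K₁ := QuotientGroup.map _ _ (MonoidHom.id H) inf_le_left
  let f₂ : H ⧸ (K₁ ⊓ K₂) →* H ⧸ K₂ := QuotientGroup.map _ _ (MonoidHom.id H) inf_le_right
  have hf₁ : Function.Surjective f₁ := fun q => by
    obtain ⟨a, rfl⟩ := QuotientGroup.mk'_surjective K₁ q
    exact ⟨QuotientGroup.mk' _ a, rfl⟩
  have hf₂ : Function.Surjective f₂ := fun q => by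
    obtain ⟨a, rfl⟩ := QuotientGroup.mk'_surjective K₂ q
    exact ⟨QuotientGroup.mk' _ a, rfl⟩
  let M : ℕ → Subgroup (H ⧸ (K₁ ⊓ K₂)) := fun j =>
    (upperPSeries p (H ⧸ K₁) j).1.comap f₁ ⊓ (upperPSeries p (H ⧸ K₂) j).1.comap f₂
  have hrel : ∀ {X : Type uH} [Group X] (f : H ⧸ (K₁ ⊓ K₂) →* X), Function.Surjective f →
      ∀ A B : Subgroup X, (A.comap f).relIndex (B.comap f) = A.relIndex B := fun {X} _ f hf A B => by
    rw [Subgroup.relIndex_comap, Subgroup.map_comap_eq_self_of_surjective hf]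
  have hbot : M 0 ≤ (upperPSeries p (H ⧸ (K₁ ⊓ K₂)) (2 * 0)).1 := by
    intro q hq
    obtain ⟨a, rfl⟩ := QuotientGroup.mk'_surjective (K₁ ⊓ K₂) q
    have ha1 : (QuotientGroup.mk' K₁ a) = 1 := Subgroup.mem_bot.1 hq.1
    have ha2 : (QuotientGroup.mk' K₂ a) = 1 := Subgroup.mem_bot.1 hq.2
    refine Subgroup.mem_bot.2 ((QuotientGroup.eq_one_iff a).2 ⟨?_, ?_⟩)
    · exact (QuotientGroup.eq_one_iff a).1 ha1
    · exact (QuotientGroup.eq_one_iff a).1 ha2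
  have h := le_upperPSeries_of_series (p := p) 0 M (fun j _ => inferInstance) hbot ?_ ?_ (2 * k + 1)
  · have htop : M (2 * k + 1) = ⊤ := by
      show (upperPSeries p (H ⧸ K₁) _).1.comap f₁ ⊓ (upperPSeries p (H ⧸ K₂) _).1.comap f₂ = ⊤
      rw [show (upperPSeries p (H ⧸ K₁) (2 * k + 1)).1 = ⊤ from h₁,
        show (upperPSeries p (H ⧸ K₂) (2 * k + 1)).1 = ⊤ from h₂, Subgroup.comap_top,
        Subgroup.comap_top, inf_idem]
    rw [htop, Nat.mul_zero, Nat.zero_add] at h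
    exact top_le_iff.1 h
  · intro i
    refine Nat.Coprime.coprime_dvd_left relIndex_inf_dvd_mul ?_
    rw [hrel f₁ hf₁, hrel f₂ hf₂]
    exact (coprime_relIndex_upperPSeries i le_rfl).mul_left (coprime_relIndex_upperPSeries i le_rfl)
  · intro i
    obtain ⟨m₁, hm₁⟩ := isPGroup_relIndex_upperPSeries (p := p) i
      (le_refl (upperPSeries p (H ⧸ K₁) (2 * i + 2)).1)
    obtain ⟨m₂, hm₂⟩ := isPGroup_relIndex_upperPSeries (p := p) i
      (le_refl (upperPSeries p (H ⧸ K₂) (2 * i + 2)).1)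
    have hd : (M (2 * i + 1)).relIndex (M (2 * i + 2)) ∣ p ^ (m₁ + m₂) := by
      rw [pow_add, ← hm₁, ← hm₂, ← hrel f₁ hf₁, ← hrel f₂ hf₂]
      exact relIndex_inf_dvd_mul
    obtain ⟨m, -, hm⟩ := (Nat.dvd_prime_pow Fact.out).1 hd
    exact ⟨m, hm⟩

theorem pLengthLE_quotient_top (p k : ℕ) : PLengthLE p k (H ⧸ (⊤ : Subgroup H)) :=
  haveI : Subsingleton (H ⧸ (⊤ : Subgroup H)) := QuotientGroup.subsingleton_quotient_top
  Subsingleton.elim _ _

section Module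

variable {V : Type uV} [AddCommGroup V] [Module (ZMod 2) V] (ρ : Representation (ZMod 2) H V)

theorem rho_pow_two_pow (g : H) (m : ℕ) : ρ (g ^ 2 ^ m) - 1 = (ρ g - 1) ^ 2 ^ m := by
  induction m with
  | zero => simp
  | succ m ih =>
    have h2 : (2 : Module.End (ZMod 2) V) = 0 := by
      rw [← map_ofNat (algebraMap (ZMod 2) (Module.End (ZMod 2) V)) 2,
        show (OfNat.ofNat 2 : ZMod 2) = 0 from by decide, map_zero]
    have hx : ∀ a : Module.End (ZMod 2) V, (a - 1) ^ 2 = a * a - 1 := fun a => by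
      calc (a - 1) ^ 2 = a * a - 1 - 2 * (a - 1) := by noncomm_ring
        _ = a * a - 1 := by rw [h2, zero_mul, sub_zero]
    rw [pow_succ 2 m, pow_mul, pow_mul, ← ih, hx, pow_two (g ^ 2 ^ m), map_mul]

theorem le_pCore_of_unipotent [Finite H] (hfaith : Function.Injective ρ) {N : Subgroup H} [N.Normal]
    (h : ∀ g ∈ N, ∃ n : ℕ, ∀ v, ((ρ g - 1) ^ n) v = 0) : N ≤ pCore 2 H := by
  refine le_pCore fun g => ?_
  obtain ⟨n, hn⟩ := h g g.2
  refine ⟨n, Subtype.ext (hfaith ?_)⟩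
  have h0 : (ρ (g : H) - 1) ^ 2 ^ n = 0 := by
    obtain ⟨d, hd⟩ := Nat.exists_eq_add_of_le (Nat.lt_two_pow_self (n := n)).le
    rw [hd, pow_add, show (ρ (g : H) - 1) ^ n = 0 from LinearMap.ext hn, zero_mul]
  rw [← rho_pow_two_pow, sub_eq_zero] at h0
  rw [SubgroupClass.coe_pow, h0, OneMemClass.coe_one, map_one]

theorem pLengthLE_of_sections [Finite H] (_hsol : IsPSolvable 2 H) (hO : pCore 2 H = ⊥) [Finite V]
    (hfaith : Function.Injective ρ) (k : ℕ) (𝒞 : Set (Submodule (ZMod 2) V))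
    (hinv : ∀ C ∈ 𝒞, ∀ g, ∀ v ∈ C, ρ g v ∈ C) (hchain : ∀ C ∈ 𝒞, ∀ D ∈ 𝒞, C ≤ D ∨ D ≤ C)
    (hsec : ∀ U₁ U₂ : Submodule (ZMod 2) V, U₁ < U₂ → (∀ g, ∀ v ∈ U₁, ρ g v ∈ U₁) →
      (∀ g, ∀ v ∈ U₂, ρ g v ∈ U₂) →
      (∀ U : Submodule (ZMod 2) V, (∀ g, ∀ v ∈ U, ρ g v ∈ U) → U₁ ≤ U → U ≤ U₂ →
        U = U₁ ∨ U = U₂) →
      (∀ C ∈ 𝒞, U₂ ≤ C ∨ C ≤ U₁) →
      ∃ K : Subgroup H, ∃ _ : K.Normal,
        PLengthLE 2 k (H ⧸ K) ∧ ∀ g ∈ K, ∀ v ∈ U₂, ρ g v - v ∈ U₁) :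
    PLengthLE 2 k H := by
  haveI : Fact (Nat.Prime 2) := ⟨Nat.prime_two⟩
  let S : Set (Subgroup H) := {K | ∃ _ : K.Normal, PLengthLE 2 k (H ⧸ K)}
  obtain ⟨J, hJS, hJmin⟩ := (Set.toFinite S).exists_minimal
    ⟨⊤, inferInstance, pLengthLE_quotient_top 2 k⟩
  obtain ⟨hJn, hJk⟩ := hJS
  haveI := hJn
  have hJle : ∀ K ∈ S, J ≤ K := fun K hK => by
    obtain ⟨hKn, hKk⟩ := hK
    haveI := hKn
    exact (hJmin (y := J ⊓ K) ⟨inferInstance, pLengthLE_quotient_inf J K hJk hKk⟩ inf_le_left).trans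
      inf_le_right
  have key : ∀ U : Submodule (ZMod 2) V, (∀ g, ∀ v ∈ U, ρ g v ∈ U) →
      (∀ C ∈ 𝒞, U ≤ C ∨ C ≤ U) → ∀ g ∈ J, ∃ n : ℕ, ∀ v ∈ U, ((ρ g - 1) ^ n) v = 0 := by
    intro U
    induction U using WellFoundedLT.induction with
    | ind U ih =>
      intro hU hcomp g hg
      by_cases hbot : U = ⊥
      · exact ⟨0, fun v hv => by rw [hbot, Submodule.mem_bot] at hv; simp [hv]⟩
      let T : Set (Submodule (ZMod 2) V) :=
        {W | W < U ∧ (∀ g, ∀ v ∈ W, ρ g v ∈ W) ∧ ∀ C ∈ 𝒞, W ≤ C ∨ C ≤ W}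
      haveI : Finite (Submodule (ZMod 2) V) := Finite.of_injective _ SetLike.coe_injective
      obtain ⟨U₁, ⟨hlt, hU₁, hc₁⟩, hmax⟩ := (Set.toFinite T).exists_maximal
        ⟨⊥, bot_lt_iff_ne_bot.2 hbot,
          fun g v hv => by rw [Submodule.mem_bot] at hv; simp [hv], fun C _ => Or.inl bot_le⟩
      have hnone : ∀ W : Submodule (ZMod 2) V, (∀ g, ∀ v ∈ W, ρ g v ∈ W) → U₁ ≤ W → W ≤ U →
          (∀ C ∈ 𝒞, W ≤ C ∨ C ≤ W) → W = U₁ ∨ W = U := fun W hW h1 h2 h3 => by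
        rcases eq_or_lt_of_le h2 with h | h
        · exact Or.inr h
        · exact Or.inl (le_antisymm (hmax (y := W) ⟨h, hW, h3⟩ h1) h1)
      have hside : ∀ C ∈ 𝒞, U ≤ C ∨ C ≤ U₁ := fun C hC => by
        rcases hcomp C hC with h | h
        · exact Or.inl h
        rcases hc₁ C hC with h' | h'
        · rcases hnone C (hinv C hC) h' h (hchain C hC) with h'' | h''
          · exact Or.inr h''.le
          · exact Or.inl h''.ge
        · exact Or.inr h'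
      obtain ⟨K, hKn, hKk, hK⟩ := hsec U₁ U hlt hU₁ hU (fun W hW h1 h2 => hnone W hW h1 h2
        fun C hC => (hside C hC).imp (fun h => h2.trans h) fun h => h.trans h1) hside
      obtain ⟨n, hn⟩ := ih U₁ hlt hU₁ hc₁ g hg
      refine ⟨n + 1, fun v hv => ?_⟩
      rw [pow_succ, Module.End.mul_apply]
      exact hn _ (hK g (hJle K ⟨hKn, hKk⟩ hg) v hv)
  have hJ : J = ⊥ := le_bot_iff.1 (hO ▸ le_pCore_of_unipotent ρ hfaith fun g hg => by
    obtain ⟨n, hn⟩ := key ⊤ (fun _ _ _ => Submodule.mem_top) (fun C _ => Or.inr le_top) g hg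
    exact ⟨n, fun v => hn v Submodule.mem_top⟩)
  exact pLengthLE_congr ((QuotientGroup.quotientMulEquivOfEq hJ).trans QuotientGroup.quotientBot) hJk

/-- The form with a single invariant submodule. -/
theorem pLengthLE_of_sections_one [Finite H] (hsol : IsPSolvable 2 H) (hO : pCore 2 H = ⊥)
    [Finite V] (hfaith : Function.Injective ρ) (k : ℕ) (U₀ : Submodule (ZMod 2) V)
    (hU₀ : ∀ g, ∀ v ∈ U₀, ρ g v ∈ U₀)
    (hsec : ∀ U₁ U₂ : Submodule (ZMod 2) V, U₁ < U₂ → (∀ g, ∀ v ∈ U₁, ρ g v ∈ U₁) →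
      (∀ g, ∀ v ∈ U₂, ρ g v ∈ U₂) →
      (∀ U : Submodule (ZMod 2) V, (∀ g, ∀ v ∈ U, ρ g v ∈ U) → U₁ ≤ U → U ≤ U₂ →
        U = U₁ ∨ U = U₂) →
      (U₂ ≤ U₀ ∨ U₀ ≤ U₁) →
      ∃ K : Subgroup H, ∃ _ : K.Normal,
        PLengthLE 2 k (H ⧸ K) ∧ ∀ g ∈ K, ∀ v ∈ U₂, ρ g v - v ∈ U₁) :
    PLengthLE 2 k H :=
  pLengthLE_of_sections ρ hsol hO hfaith k {U₀} (fun C hC => by rw [Set.mem_singleton_iff] at hC; exact hC ▸ hU₀)
    (fun C hC D hD => Or.inl (le_of_eq (hC.trans hD.symm)))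
    fun U₁ U₂ h1 h2 h3 h4 h5 => hsec U₁ U₂ h1 h2 h3 h4 (h5 U₀ rfl)

/-- A faithful irreducible module in characteristic two: there is no normal two-subgroup. -/
theorem pCore_eq_bot_of_irreducible [Finite H] [Finite V] [Nontrivial V]
    (hfaith : Function.Injective ρ)
    (hirr : ∀ U : Submodule (ZMod 2) V, (∀ g, ∀ v ∈ U, ρ g v ∈ U) → U = ⊥ ∨ U = ⊤) :
    pCore 2 H = ⊥ := by
  haveI : Fact (Nat.Prime 2) := ⟨Nat.prime_two⟩
  letI : MulAction (pCore 2 H) V :=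
    { smul := fun g v => ρ (g : H) v
      one_smul := fun v => by show ρ ((1 : pCore 2 H) : H) v = v; simp
      mul_smul := fun a b v => by show ρ ((a * b : pCore 2 H) : H) v = ρ (a : H) (ρ (b : H) v); simp }
  obtain ⟨w, hw⟩ := exists_ne (0 : V)
  have hdvd : 2 ∣ Nat.card V := by
    have hww : w + w = 0 := by
      rw [← two_smul (ZMod 2) w, show (2 : ZMod 2) = 0 from CharTwo.two_eq_zero, zero_smul]
    have ho : addOrderOf w = 2 :=
      addOrderOf_eq_prime (by rw [two_nsmul]; exact hww) hw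
    exact ho ▸ addOrderOf_dvd_natCard w
  obtain ⟨b, hb, hb0⟩ := (isPGroup_pCore 2 H).exists_fixed_point_of_prime_dvd_card_of_fixed_point V
    hdvd (a := (0 : V)) (fun g => map_zero (ρ (g : H)))
  let U : Submodule (ZMod 2) V :=
    { carrier := {v | ∀ g ∈ pCore 2 H, ρ g v = v}
      zero_mem' := fun g _ => map_zero (ρ g)
      add_mem' := fun {a b} ha hb g hg => by rw [map_add, ha g hg, hb g hg]
      smul_mem' := fun c {a} ha g hg => by rw [map_smul, ha g hg] }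
  have hU : ∀ g, ∀ v ∈ U, ρ g v ∈ U := fun g v hv h hh => by
    have hc := hv (g⁻¹ * h * g) (by simpa using (pCore_normal 2 H).conj_mem h hh g⁻¹)
    have e : h * g = g * (g⁻¹ * h * g) := by group
    rw [← Module.End.mul_apply, ← map_mul, e, map_mul, Module.End.mul_apply, hc]
  have hbU : b ∈ U := fun g hg => hb ⟨g, hg⟩
  have htop : U = ⊤ := (hirr U hU).resolve_left fun h => hb0 ((Submodule.eq_bot_iff U).1 h b hbU).symm
  refine (Subgroup.eq_bot_iff_forall _).2 fun g hg => hfaith (LinearMap.ext fun v => ?_)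
  rw [map_one]
  exact (htop ▸ Submodule.mem_top : v ∈ U) g hg

/-- No normal two-subgroup modulo the kernel of an irreducible section. -/
theorem pCore_quotient_eq_bot_of_section [Finite H] [Finite V] {U₁ U₂ : Submodule (ZMod 2) V}
    (hlt : U₁ < U₂) (hU₁ : ∀ g, ∀ v ∈ U₁, ρ g v ∈ U₁) (hU₂ : ∀ g, ∀ v ∈ U₂, ρ g v ∈ U₂)
    (hirr : ∀ U : Submodule (ZMod 2) V, (∀ g, ∀ v ∈ U, ρ g v ∈ U) → U₁ ≤ U → U ≤ U₂ →
      U = U₁ ∨ U = U₂)
    (K : Subgroup H) [K.Normal] (hK : ∀ g, g ∈ K ↔ ∀ v ∈ U₂, ρ g v - v ∈ U₁) :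
    pCore 2 (H ⧸ K) = ⊥ := by
  let W : Submodule (ZMod 2) U₂ := U₁.comap U₂.subtype
  let σ : Representation (ZMod 2) H (U₂ ⧸ W) :=
    { toFun := fun g => W.mapQ W ((ρ g).restrict (hU₂ g)) (fun v hv => hU₁ g v hv)
      map_one' := by
        refine LinearMap.ext fun q => ?_
        obtain ⟨v, rfl⟩ := W.mkQ_surjective q
        show W.mkQ ((ρ 1).restrict (hU₂ 1) v) = W.mkQ v
        congr 1
        exact Subtype.ext (by show ρ 1 (v : V) = (v : V); rw [map_one]; rfl)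
      map_mul' := fun a b => by
        refine LinearMap.ext fun q => ?_
        obtain ⟨v, rfl⟩ := W.mkQ_surjective q
        show W.mkQ ((ρ (a * b)).restrict (hU₂ (a * b)) v) =
          W.mkQ ((ρ a).restrict (hU₂ a) ((ρ b).restrict (hU₂ b) v))
        congr 1
        exact Subtype.ext (by show ρ (a * b) (v : V) = ρ a (ρ b (v : V)); rw [map_mul]; rfl) }
  have hker : ∀ g, σ g = 1 ↔ g ∈ K := fun g => by
    rw [hK g]
    constructor
    · intro h v hv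
      have h1 : W.mkQ ((ρ g).restrict (hU₂ g) ⟨v, hv⟩) = W.mkQ ⟨v, hv⟩ :=
        LinearMap.congr_fun h (W.mkQ ⟨v, hv⟩)
      exact (Submodule.Quotient.eq W).1 h1
    · intro h
      refine LinearMap.ext fun q => ?_
      obtain ⟨v, rfl⟩ := W.mkQ_surjective q
      exact (Submodule.Quotient.eq W).2 (h v v.2)
  let τ : Representation (ZMod 2) (H ⧸ K) (U₂ ⧸ W) :=
    QuotientGroup.lift K σ fun g hg => (hker g).2 hg
  haveI : Nontrivial (U₂ ⧸ W) := by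
    obtain ⟨v, hv, hv1⟩ := SetLike.exists_of_lt hlt
    exact ⟨W.mkQ ⟨v, hv⟩, 0, fun h => hv1 ((Submodule.Quotient.mk_eq_zero W).1 h)⟩
  haveI : Finite (U₂ ⧸ W) := Finite.of_surjective _ W.mkQ_surjective
  refine pCore_eq_bot_of_irreducible τ ?_ fun Y hY => ?_
  · intro a b hab
    obtain ⟨a, rfl⟩ := QuotientGroup.mk'_surjective K a
    obtain ⟨b, rfl⟩ := QuotientGroup.mk'_surjective K b
    refine QuotientGroup.eq.2 ((hker _).1 ?_)
    have hab' : σ a = σ b := hab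
    rw [map_mul, ← hab', ← map_mul, inv_mul_cancel, map_one]
  · let U : Submodule (ZMod 2) V := (Y.comap W.mkQ).map U₂.subtype
    have hUinv : ∀ g, ∀ v ∈ U, ρ g v ∈ U := by
      rintro g _ ⟨v, hv, rfl⟩
      exact ⟨(ρ g).restrict (hU₂ g) v, hY (QuotientGroup.mk' K g) _ hv, rfl⟩
    have h1 : U₁ ≤ U := fun v hv => ⟨⟨v, hlt.le hv⟩, by
      show W.mkQ _ ∈ Y
      rw [Submodule.mkQ_apply, (Submodule.Quotient.mk_eq_zero W).2 (show (⟨v, hlt.le hv⟩ : U₂) ∈ W from hv)]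
      exact Y.zero_mem, rfl⟩
    have h2 : U ≤ U₂ := Submodule.map_subtype_le _ _
    rcases hirr U hUinv h1 h2 with h | h
    · left
      refine (Submodule.eq_bot_iff Y).2 fun q hq => ?_
      obtain ⟨v, rfl⟩ := W.mkQ_surjective q
      exact (Submodule.Quotient.mk_eq_zero W).2 (h ▸ ⟨v, hq, rfl⟩ : (v : V) ∈ U₁)
    · right
      refine Submodule.eq_top_iff'.2 fun q => ?_
      obtain ⟨v, rfl⟩ := W.mkQ_surjective q
      have hv : (v : V) ∈ U := h.symm ▸ v.2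
      obtain ⟨w, hw, he⟩ := hv
      rwa [Subtype.ext he] at hw

end Module

end CfsgLib.TwoLength
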