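import Cfsg.Agent.Lib.TwoLength.WeightDer
import Cfsg.Agent.Lib.TwoLength.Chain
import Cfsg.Agent.Lib.TwoLength.Subdirect

/-!
# The last derived subgroup on the weights

`S` is a Sylow 2-subgroup with `chain ρ (dS S) (d + 1) = 0`: its derived subgroup `X = dS S (d + 1)`
fixes all weights, acts on each symplectic space through a group of order at most two inverting
nine elements, and `dS S d` fixes the weights on which `X` is nontrivial.
-/

set_option autoImplicit false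
set_option linter.style.haveILetI false
set_option linter.unusedSectionVars false

namespace CfsgLib.TwoLength

open Module Cfsg CfsgLib.FgsC.HallHigman
open scoped commutatorElement

section Act

variable {H : Type*} [Group H] [Finite H] {K : Type*} [Field K] {V : Type*} [AddCommGroup V]
  [Module K V] {ρ : Representation K H V} {R : Subgroup H} [hR : Fact (IsOddClassTwo R)]

/-- The action on the symplectic space, `1` outside the stabiliser. -/
noncomputable def wMap (ψ : Wt ρ R) (g : H) : MulAut (WSpace ψ) :=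
  haveI := Classical.propDecidable (g • ψ = ψ)
  if h : g • ψ = ψ then wAct ψ ⟨g, h⟩ else 1

theorem wMap_eq (ψ : Wt ρ R) {g : H} (h : g • ψ = ψ) : wMap ψ g = wAct ψ ⟨g, h⟩ := by
  rw [wMap, dif_pos h]

theorem wMap_mul (ψ : Wt ρ R) {a b : H} (ha : a • ψ = ψ) (hb : b • ψ = ψ) :
    wMap ψ (a * b) = wMap ψ a * wMap ψ b := by
  rw [wMap_eq ψ (show (a * b) • ψ = ψ by rw [mul_smul, hb, ha]), wMap_eq ψ ha, wMap_eq ψ hb,
    ← map_mul]
  rfl

theorem wMap_one (ψ : Wt ρ R) : wMap ψ (1 : H) = 1 := by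
  rw [wMap_eq ψ (one_smul H ψ)]
  exact map_one (wAct ψ)

theorem wMap_inv (ψ : Wt ρ R) {a : H} (ha : a • ψ = ψ) : wMap ψ a⁻¹ = (wMap ψ a)⁻¹ := by
  rw [wMap_eq ψ (show a⁻¹ • ψ = ψ by rw [inv_smul_eq_iff, ha]), wMap_eq ψ ha, ← map_inv]
  rfl

theorem wMap_isom (ψ : Wt ρ R) (a : H) : wMap ψ a ∈ (wForm ψ).isom := by
  rw [wMap]
  split
  · exact wAct_isom ψ _
  · exact one_mem _

theorem wMap_conj (ψ : Wt ρ R) {a b : H} (ha : a • ψ = ψ) (hb : b • ψ = ψ) :
    wMap ψ (a * b * a⁻¹) = wMap ψ a * wMap ψ b * (wMap ψ a)⁻¹ := by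
  have hai : a⁻¹ • ψ = ψ := by rw [inv_smul_eq_iff, ha]
  rw [wMap_mul ψ (show (a * b) • ψ = ψ by rw [mul_smul, hb, ha]) hai, wMap_mul ψ ha hb,
    wMap_inv ψ ha]

end Act

universe u

variable {H : Type u} [Group H] [Finite H] {K : Type*} [Field K] [IsAlgClosed K] [CharP K 2]
  {V : Type*} [AddCommGroup V] [Module K V] [FiniteDimensional K V] {ρ : Representation K H V}
  (S : Sylow 2 H) {d : ℕ} (hch : chain ρ (dS (S : Subgroup H)) (d + 1) ⊤ = ⊥)

include hch

theorem smul_of_mem_dS {x : H} (hx : x ∈ dS (S : Subgroup H) (d + 1)) : FixesWts ρ x := by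
  intro R hR ψ
  by_contra hne
  haveI := finite_wt (ρ := ρ) hR.out
  have h := chain_full ρ (fun ψ : Wt ρ R => wtSpace ρ R ψ.1) S.2 (fun g _ ψ => Wt.map_space g ψ)
    (N := (S : Subgroup H)) le_rfl (d + 1) ψ fun m hm => ⟨x, dS_antitone _ hm hx, hne⟩
  rw [hch, bot_sup_eq] at h
  exact ψ.2.ne_bot (((iSupIndep_wtSpace hR.out) ψ).eq_bot_of_le h)

variable {R : Subgroup H} [hR : Fact (IsOddClassTwo R)]

theorem smul_of_mem_dS_of_ne_one {ψ : Wt ρ R} {x : H} (hx : x ∈ dS (S : Subgroup H) (d + 1))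
    (hx1 : wMap ψ x ≠ 1) {s : H} (hs : s ∈ dS (S : Subgroup H) d) : s • ψ = ψ := by
  by_contra hne
  haveI := finite_wt (ρ := ρ) hR.out
  have hxs := smul_of_mem_dS S hch hx R hR
  have h := chain_full ρ (fun ψ : Wt ρ R => wtSpace ρ R ψ.1) S.2 (fun g _ ψ => Wt.map_space g ψ)
    (N := (S : Subgroup H)) le_rfl d ψ fun m hm => ⟨s, dS_antitone _ hm hs, hne⟩
  refine hx1 ((wMap_eq ψ (hxs ψ)).trans (wAct_eq_one_of_trivial ψ ⟨x, hxs ψ⟩ fun v hv => ?_))
  obtain ⟨c, hc, r, hr, rfl⟩ := Submodule.mem_sup.1 (h hv)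
  have hc0 : ρ x c - c = 0 := by
    have h1 := mem_comm ρ hx hc
    rw [← chain_succ_eq, hch, Submodule.mem_bot] at h1
    exact h1
  have hrest : ρ x r - r ∈ ⨆ (l : Wt ρ R) (_ : l ≠ ψ), wtSpace ρ R l.1 := by
    refine sub_mem ?_ hr
    have h2 := Submodule.mem_map_of_mem (f := ρ x) hr
    rw [Submodule.map_iSup] at h2
    refine SetLike.le_def.1 (iSup_le fun l => ?_) h2
    rw [Submodule.map_iSup]
    exact iSup_le fun hl => by
      rw [Wt.map_space, hxs l]
      exact le_iSup₂_of_le l hl le_rfl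
  have h3 : ρ x (c + r) - (c + r) ∈ wtSpace ρ R ψ.1 :=
    sub_mem (rho_mem_of_stab (MulAction.mem_stabilizer_iff.2 (hxs ψ)) hv) hv
  have h4 : ρ x (c + r) - (c + r) = ρ x r - r := by
    rw [map_add, sub_eq_zero.1 hc0]; abel
  exact sub_eq_zero.1 (Submodule.disjoint_def.1 (iSupIndep_wtSpace hR.out ψ) _ h3 (h4 ▸ hrest))

/-- The image of `dS S (d + 1)` on a symplectic space. -/
theorem wMap_dS_shape {ψ : Wt ρ R} {x : H} (hx : x ∈ dS (S : Subgroup H) (d + 1))
    (hx1 : wMap ψ x ≠ 1) : wMap ψ x ^ 2 = 1 ∧ Nat.card ↥(invG (wMap ψ x)) = 9 ∧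
      ∀ y ∈ dS (S : Subgroup H) (d + 1), wMap ψ y = 1 ∨ wMap ψ y = wMap ψ x := by
  classical
  haveI := finite_wt (ρ := ρ) hR.out
  have hex : ∃ j, ∀ g ∈ dS (S : Subgroup H) j, g • ψ = ψ :=
    ⟨d, fun g hg => smul_of_mem_dS_of_ne_one S hch hx hx1 hg⟩
  set j := Nat.find hex with hj
  have hjd : j ≤ d := Nat.find_le fun g hg => smul_of_mem_dS_of_ne_one S hch hx hx1 hg
  have hblock := chain_block ρ (fun ψ : Wt ρ R => wtSpace ρ R ψ.1) S.2 (fun g _ ψ => Wt.map_space g ψ)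
    (N := (S : Subgroup H)) le_rfl ψ (j := j) (l := d + 1) (by omega)
    (fun m hm => by
      by_contra hall
      push Not at hall
      exact Nat.find_min hex hm hall)
    (Nat.find_spec hex)
  rw [hch, bot_sup_eq] at hblock
  have hPs : dS (S : Subgroup H) j ≤ MulAction.stabilizer H ψ := fun g hg =>
    MulAction.mem_stabilizer_iff.2 (Nat.find_spec hex g hg)
  have hle : chain ρ (dS (dS (S : Subgroup H) j)) (d + 1 - j) (wtSpace ρ R ψ.1) ≤
      wtSpace ρ R ψ.1 := by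
    have key : ∀ (n : ℕ) (D : ℕ → Subgroup H), (∀ i, D i ≤ MulAction.stabilizer H ψ) →
        chain ρ D n (wtSpace ρ R ψ.1) ≤ wtSpace ρ R ψ.1 := by
      intro n
      induction n with
      | zero =>
        intro D hD
        exact (comm_le_iff ρ).2 fun g hg v hv => sub_mem (rho_mem_of_stab (hD 0 hg) hv) hv
      | succ n ih =>
        intro D hD
        refine (chain_mono ρ n _ ((comm_le_iff ρ).2 fun g hg v hv =>
          sub_mem (rho_mem_of_stab (hD 0 hg) hv) hv)).trans (ih _ fun i => hD (i + 1))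
    exact key _ _ fun i => (dS_antitone _ (Nat.zero_le i)).trans hPs
  have hann : chain ρ (dS (dS (S : Subgroup H) j)) (d + 1 - j) (wtSpace ρ R ψ.1) = ⊥ :=
    le_bot_iff.1 ((le_inf hle hblock).trans (disjoint_iff.1 (iSupIndep_wtSpace hR.out ψ)).le)
  have hxs := smul_of_mem_dS S hch hx R hR ψ
  have hdS : dS (dS (S : Subgroup H) j) (d + 1 - j) = dS (S : Subgroup H) (d + 1) := by
    rw [dS_add, show j + (d + 1 - j) = d + 1 by omega]
  rw [wMap_eq ψ hxs] at hx1 ⊢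
  obtain ⟨h2, h9, hy⟩ := wt_der ψ (dS (S : Subgroup H) j)
    (S.2.to_le (dS_antitone _ (Nat.zero_le j))) hPs (d + 1 - j) (by omega) hann
    (x := x) (hdS ▸ hx) hxs hx1
  refine ⟨h2, h9, fun y hy' => ?_⟩
  have hys := smul_of_mem_dS S hch hy' R hR ψ
  rw [wMap_eq ψ hys]
  exact hy y (hdS ▸ hy') hys

/-- `dS S (d + 1)` is central in the image of the stabiliser in `S`. -/
theorem wMap_commute {ψ : Wt ρ R} {x : H} (hx : x ∈ dS (S : Subgroup H) (d + 1)) {s : H}
    (hs : s ∈ (S : Subgroup H)) (hsψ : s • ψ = ψ) : Commute (wMap ψ s) (wMap ψ x) := by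
  by_cases hx1 : wMap ψ x = 1
  · rw [hx1]; exact Commute.one_right _
  have hxs := smul_of_mem_dS S hch hx R hR ψ
  have hmem : s * x * s⁻¹ ∈ dS (S : Subgroup H) (d + 1) :=
    (Subgroup.mem_normalizer_iff.1 (le_normalizer_dS _ _ hs) x).1 hx
  rcases (wMap_dS_shape S hch hx hx1).2.2 _ hmem with h | h <;>
    rw [wMap_conj ψ hsψ hxs] at h
  · exact absurd (by rwa [mul_inv_eq_one, mul_eq_left] at h) hx1
  · exact mul_inv_eq_iff_eq_mul.1 h

end CfsgLib.TwoLength
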