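import Cfsg.Agent.Lib.TwoLength.HeisSub
import Cfsg.Agent.Lib.Rec.TransVec

/-!
# The exceptional elements of Theorem B on a module for a group of class two

If `(ρ s - 1) ^ (2 ^ m - 1) = 0` then on the symplectic space `s` is root-like: either
`s ^ 2 ^ (m - 1)` is trivial or it inverts a nondegenerate space of order `(2 ^ m - 1) ^ 2`,
`2 ^ m - 1` a prime, and `s` centralises its complement.
-/

set_option autoImplicit false
set_option linter.style.haveILetI false

namespace CfsgLib.TwoLength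

open Module
open CfsgLib.FgsC

variable {F U W Γ : Type*} [Field F] [AddCommGroup U] [Module F U] [CommGroup W] [Group Γ]
  {ρ : Representation F Γ U} {φ : Γ →* MulAut W}

/-- A power fixing an element, the involution inverting it. -/
theorem eq_one_of_pow_fix (hodd : Odd (Nat.card W)) [Finite W] {f : MulAut W} {m : ℕ} (hm : 1 ≤ m)
    (hf : f ^ 2 ^ m = 1) {w : W} (hinv : (f ^ 2 ^ (m - 1)) w = w⁻¹) {i : ℕ} (hi0 : 0 < i)
    (hi : i < 2 ^ m) (hw : (f ^ i) w = w) : w = 1 := by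
  have hstab : f ^ i ∈ MulAction.stabilizer (MulAut W) w := hw
  obtain ⟨j, hjm, hj⟩ := (Nat.dvd_prime_pow Nat.prime_two).1 (Nat.gcd_dvd_right i (2 ^ m))
  have hjm' : j ≤ m - 1 := by
    by_contra hcon
    have h1 : j = m := by omega
    have h2 := Nat.le_of_dvd hi0 (Nat.gcd_dvd_left i (2 ^ m))
    rw [hj, h1] at h2
    omega
  have hg : f ^ 2 ^ j ∈ MulAction.stabilizer (MulAut W) w := by
    have h1 : f ^ ((Nat.gcd i (2 ^ m) : ℤ)) ∈ MulAction.stabilizer (MulAut W) w := by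
      rw [Nat.gcd_eq_gcd_ab, zpow_add, zpow_mul, zpow_mul, zpow_natCast, zpow_natCast, hf,
        one_zpow, mul_one]
      exact zpow_mem hstab _
    rwa [zpow_natCast, hj] at h1
  have hx : f ^ 2 ^ (m - 1) ∈ MulAction.stabilizer (MulAut W) w := by
    rw [show 2 ^ (m - 1) = 2 ^ j * 2 ^ (m - 1 - j) by rw [← pow_add]; congr 1; omega, pow_mul]
    exact pow_mem hg _
  have h2 : w ^ 2 = 1 := by
    have hx' : (f ^ 2 ^ (m - 1)) w = w := hx
    rw [hinv] at hx'
    rw [sq]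
    nth_rewrite 1 [← hx']
    rw [inv_mul_cancel]
  have h3 : orderOf w = 1 := Nat.eq_one_of_dvd_coprimes
    (Nat.coprime_two_left.2 hodd) (orderOf_dvd_of_pow_eq_one h2) (orderOf_dvd_natCard w)
  exact orderOf_eq_one_iff.1 h3

theorem rho_pow_eq_one [CharP F 2] [Nontrivial U] {s : Γ} {m : ℕ}
    (hs : (ρ s - 1) ^ (2 ^ m - 1) = 0) : ρ (s ^ 2 ^ m) = 1 := by
  haveI : CharP (End F U) 2 :=
    charP_of_injective_algebraMap (algebraMap F (End F U)).injective 2
  have h := pow_eq_zero_of_le (Nat.sub_le (2 ^ m) 1) hs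
  rw [sub_pow_char_pow_of_commute (R := End F U) 2 m (Commute.one_right (ρ s)), one_pow,
    ← map_pow, sub_eq_zero] at h
  exact h

set_option maxHeartbeats 1000000 in
/-- Everything inverted: the dimension and the nilpotency degree. -/
theorem exp_core [IsAlgClosed F] [CharP F 2] [FiniteDimensional F U] [Nontrivial U] [Finite W]
    [Nontrivial W] (h : Heis F U W) (hc : h.IsCompat ρ φ) (s : Γ) (m : ℕ) (hm : 1 ≤ m)
    (hs : (ρ s - 1) ^ (2 ^ m - 1) = 0) (hinv : ∀ w, (φ s ^ 2 ^ (m - 1)) w = w⁻¹) :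
    finrank F U = 2 ^ m - 1 ∧ ∀ j, (ρ s - 1) ^ j = 0 → 2 ^ m - 1 ≤ j := by
  classical
  haveI : CharP (End F U) 2 :=
    charP_of_injective_algebraMap (algebraMap F (End F U)).injective 2
  letI := Fintype.ofFinite W
  have hρn : ρ (s ^ 2 ^ m) = 1 := rho_pow_eq_one hs
  have hfn : φ s ^ 2 ^ m = 1 := by
    rw [← map_pow]
    exact Heis.eq_one_of_rho hc ⟨1, by rw [hρn, one_smul]⟩
  let T : End F (End F U) := (LinearMap.mulRight F (ρ s⁻¹)).comp (LinearMap.mulLeft F (ρ s))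
  have hTpow : ∀ i f, (T ^ i) f = ρ (s ^ i) * f * ρ (s ^ i)⁻¹ := by
    intro i
    induction i with
    | zero => intro f; simp
    | succ i ih =>
      intro f
      rw [pow_succ', End.mul_apply, ih]
      show ρ s * (ρ (s ^ i) * f * ρ (s ^ i)⁻¹) * ρ s⁻¹ = _
      rw [pow_succ', mul_inv_rev, map_mul, map_mul]
      simp only [mul_assoc]
  let σ : Equiv.Perm W := (φ s).toEquiv
  have hσpow : ∀ i w, (σ ^ i) w = (φ s ^ i) w := by
    intro i
    induction i with
    | zero => intro w; rfl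
    | succ i ih =>
      intro w
      rw [pow_succ', pow_succ', Equiv.Perm.mul_apply, ih]
      rfl
  set N := finrank F U with hN
  have hcard : Fintype.card W = N * N := by rw [← Nat.card_eq_fintype_card]; exact h.card_eq
  have hN1 : 2 ≤ N := by
    have h1 : 1 < Fintype.card W := Fintype.one_lt_card
    rw [hcard] at h1
    by_contra hcon
    push Not at hcon
    interval_cases N <;> omega
  have hcomm : ∀ e i, i = 2 ^ e → e < m → ∃ r, N * N = 1 + r * 2 ^ (m - e) ∧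
      finrank F (Commutant.commutant (ρ (s ^ i) - 1)) = 1 + r := by
    intro e i hi he
    have hiP : i * 2 ^ (m - e) = 2 ^ m := by rw [hi, ← pow_add]; congr 1; omega
    have hi0 : 0 < i := by rw [hi]; positivity
    obtain ⟨r, hr1, hr2⟩ := Commutant.card_orbits_fixed h.π h.linearIndependent h.span_eq_top.ge
      (T ^ i) (P := 2 ^ (m - e)) (by positivity) (LinearMap.ext fun f => by
        have hρn' : ρ (s ^ 2 ^ m)⁻¹ = 1 := by
          calc ρ (s ^ 2 ^ m)⁻¹ = ρ (s ^ 2 ^ m)⁻¹ * ρ (s ^ 2 ^ m) := by rw [hρn, mul_one]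
            _ = 1 := by rw [← map_mul, inv_mul_cancel, map_one]
        rw [← pow_mul, hiP, hTpow, hρn, hρn', one_mul, mul_one, End.one_apply])
      (σ ^ i) (Equiv.ext fun w => by
        rw [← pow_mul, hiP, hσpow, hfn]; rfl)
      1 (by rw [hσpow]; exact map_one _)
      (by rw [hTpow, h.π_one, mul_one, ← map_mul, mul_inv_cancel, map_one])
      (by
        intro k hk0 hk w hw
        rw [← pow_mul, hσpow] at hw
        exact eq_one_of_pow_fix h.form.odd hm hfn (hinv w) (Nat.mul_pos hi0 hk0)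
          (hiP ▸ Nat.mul_lt_mul_of_pos_left hk hi0) hw)
      (by
        intro w
        obtain ⟨c, hc0, e⟩ := hc (s ^ i) w
        refine ⟨c, hc0, ?_⟩
        rw [hTpow, e, smul_mul_assoc, mul_assoc, ← map_mul, mul_inv_cancel, map_one, mul_one,
          hσpow, map_pow])
    refine ⟨r, by rw [← hcard, hr1], (LinearEquiv.ofEq _ _ ?_).finrank_eq.trans hr2⟩
    ext f
    rw [Commutant.mem_commutant, mul_sub, sub_mul, mul_one, one_mul, sub_left_inj,
      LinearMap.mem_ker, LinearMap.sub_apply, End.one_apply, sub_eq_zero, hTpow]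
    constructor
    · intro h'
      rw [← h', mul_assoc, ← map_mul, mul_inv_cancel, map_one, mul_one]
    · intro h'
      conv_lhs => rw [← h']
      rw [mul_assoc, ← map_mul, inv_mul_cancel, map_one, mul_one]
  obtain ⟨r, hr, hC⟩ := hcomm 0 1 rfl (by omega)
  rw [pow_one] at hC
  rw [Nat.sub_zero] at hr
  have hle : ∀ j, (ρ s - 1) ^ j = 0 → N * N ≤ j * (1 + r) := by
    intro j hj
    have h1 := Commutant.sq_finrank_le hj
    rwa [hC, sq] at h1
  obtain ⟨r', hr', hC'⟩ := hcomm (m - 1) (2 ^ (m - 1)) rfl (by omega)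
  rw [show m - (m - 1) = 1 by omega, pow_one] at hr'
  rw [map_pow, show ρ s ^ 2 ^ (m - 1) - 1 = (ρ s - 1) ^ 2 ^ (m - 1) by
    rw [sub_pow_char_pow_of_commute (R := End F U) 2 (m - 1) (Commute.one_right (ρ s)), one_pow]]
    at hC'
  have hPh : 2 ^ m = 2 * 2 ^ (m - 1) := by rw [← pow_succ']; congr 1; omega
  have hhpos : 0 < 2 ^ (m - 1) := by positivity
  have hsq : ((ρ s - 1) ^ 2 ^ (m - 1)) ^ 2 = 0 := by
    rw [← pow_mul]
    exact pow_eq_zero_of_le (by omega) hs
  rw [Commutant.finrank_commutant_of_sq_eq_zero hsq] at hC'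
  have hrk := LinearMap.finrank_range_add_finrank_ker ((ρ s - 1) ^ 2 ^ (m - 1))
  have hrle := Commutant.finrank_range_pow_le ⟨2 ^ m - 1, hs⟩ (2 ^ (m - 1))
  have hab' : finrank F (LinearMap.range ((ρ s - 1) ^ 2 ^ (m - 1))) ≤
      finrank F (LinearMap.ker ((ρ s - 1) ^ 2 ^ (m - 1))) := by
    apply Submodule.finrank_mono
    rintro _ ⟨v, rfl⟩
    rw [LinearMap.mem_ker, ← End.mul_apply, ← sq, hsq]
    rfl
  set a := finrank F (LinearMap.range ((ρ s - 1) ^ 2 ^ (m - 1)))
  set b := finrank F (LinearMap.ker ((ρ s - 1) ^ 2 ^ (m - 1)))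
  obtain ⟨d, hd⟩ : ∃ d, b = a + d := ⟨b - a, by omega⟩
  have hd1 : d = 1 := by
    rw [← hN] at hrk
    rw [← hrk, hd] at hr'
    rw [hd] at hC'
    nlinarith
  rw [← hN] at hrk hrle
  have hlow : 2 ^ m - 1 ≤ N := by omega
  have hup : N ≤ 2 ^ m - 1 := by
    have h1 := hle _ hs
    obtain ⟨k, hk⟩ : ∃ k, 2 ^ m = k + 2 := ⟨2 ^ m - 2, by omega⟩
    rw [hk] at hr h1 ⊢
    rw [show k + 2 - 1 = k + 1 by omega] at h1 ⊢
    have hr2 : r ≤ k := by nlinarith
    have hr3 : N * N ≤ (k + 1) * (k + 1) := by nlinarith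
    exact Nat.mul_self_le_mul_self_iff.1 hr3
  refine ⟨le_antisymm hup hlow, fun j hj => ?_⟩
  have h1 := hle j hj
  obtain ⟨k, hk⟩ : ∃ k, 2 ^ m = k + 2 := ⟨2 ^ m - 2, by omega⟩
  have hNk : N = k + 1 := by omega
  rw [hk, hNk] at hr
  have hrk' : r = k := by nlinarith
  rw [hNk, hrk'] at h1
  rw [hk, show k + 2 - 1 = k + 1 by omega]
  exact Nat.le_of_mul_le_mul_right (by rw [add_comm 1 k] at h1; exact h1) (Nat.succ_pos k)

/-- A nondegenerate inverted subgroup and an invariant irreducible submodule for it. -/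
theorem exp_reduce [IsAlgClosed F] [CharP F 2] [FiniteDimensional F U] [Nontrivial U] [Finite W]
    [Finite Γ] {h : Heis F U W} (hc : h.IsCompat ρ φ) (s : Γ)
    (hs2 : IsPGroup 2 (Subgroup.zpowers s)) (m : ℕ) (hm : 1 ≤ m)
    (hs : (ρ s - 1) ^ (2 ^ m - 1) = 0) (W' : Subgroup W) (hne : W' ≠ ⊥)
    (hW' : ∀ v ∈ W', (∀ w ∈ W', h.form.B v w = 1) → v = 1)
    (hinv : ∀ w ∈ W', (φ s ^ 2 ^ (m - 1)) w = w⁻¹) (hsW : ∀ w ∈ W', φ s w ∈ W') :
    Nat.card W' = (2 ^ m - 1) * (2 ^ m - 1) ∧ ∃ X : Submodule F U, X ≠ ⊥ ∧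
      (∀ w ∈ W', ∀ u ∈ X, h.π w u ∈ X) ∧ (∀ g ∈ Subgroup.zpowers s, ∀ u ∈ X, ρ g u ∈ X) ∧
      (∀ X' ≤ X, (∀ w ∈ W', ∀ u ∈ X', h.π w u ∈ X') → X' = ⊥ ∨ X' = X) ∧
      ∀ j : ℕ, (∀ u ∈ X, ((ρ s - 1) ^ j : End F U) u = 0) → 2 ^ m - 1 ≤ j := by
  have hP : ∀ g ∈ Subgroup.zpowers s, ∀ w ∈ W', φ g w ∈ W' := by
    intro g hg
    obtain ⟨i, rfl⟩ : ∃ i : ℕ, s ^ i = g := by
      rw [← mem_powers_iff_mem_zpowers] at hg
      exact hg
    induction i with
    | zero => intro w hw; simpa using hw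
    | succ i ih =>
      intro w hw
      rw [pow_succ', map_mul, MulAut.mul_apply]
      exact hsW _ (ih ⟨i, by simp⟩ w hw)
  obtain ⟨X, -, hX0, hX, hXP, hXm⟩ := Heis.exists_sub hc W' hW' (Subgroup.zpowers s) hs2 hP ⊤
    top_ne_bot (fun _ _ _ _ => Submodule.mem_top) (fun _ _ _ _ => Submodule.mem_top)
  haveI : Nontrivial X := Submodule.nontrivial_iff_ne_bot.2 hX0
  haveI : Nontrivial W' := (Subgroup.nontrivial_iff_ne_bot W').2 hne
  set ρ' := repOn ρ (Subgroup.zpowers s) X hXP with hρ'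
  set s' : Subgroup.zpowers s := ⟨s, Subgroup.mem_zpowers s⟩ with hs'
  have hcoe : ∀ (j : ℕ) (u : X), (((ρ' s' - 1) ^ j) u : U) = ((ρ s - 1) ^ j) u := by
    intro j
    induction j with
    | zero => intro u; rfl
    | succ j ih =>
      intro u
      rw [pow_succ', pow_succ', End.mul_apply, End.mul_apply, ← ih]
      rfl
  have hs'0 : (ρ' s' - 1) ^ (2 ^ m - 1) = 0 := LinearMap.ext fun u => Subtype.ext (by
    rw [hcoe, hs]; rfl)
  obtain ⟨hdim, hmin⟩ := exp_core (h.sub W' hW' X hX hXm)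
    (Heis.sub_compat hc W' hW' X hX hXm (Subgroup.zpowers s) hP hXP) s' m hm hs'0
    (fun w => Subtype.ext (by
      rw [← map_pow, autOn_apply, SubmonoidClass.coe_pow, map_pow]
      exact hinv w w.2))
  refine ⟨?_, X, hX0, hX, hXP, hXm, fun j hj => hmin j (LinearMap.ext fun u => Subtype.ext (by
    rw [hcoe, hj u u.2]; rfl))⟩
  rw [(h.sub W' hW' X hX hXm).card_eq, hdim]

/-- Replacing `s` by its `2`-part. -/
theorem exists_two_part [CharP F 2] [Finite Γ] [Nontrivial U] {h : Heis F U W}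
    (hc : h.IsCompat ρ φ) (s : Γ) (m : ℕ) (hm : 1 ≤ m) (hs : (ρ s - 1) ^ (2 ^ m - 1) = 0) :
    ∃ t : Γ, IsPGroup 2 (Subgroup.zpowers t) ∧ ρ t = ρ s ∧ φ t = φ s := by
  obtain ⟨a, d, hd, e⟩ := Nat.exists_eq_two_pow_mul_odd (orderOf_pos s).ne'
  obtain ⟨k, hk1, hk2⟩ := Nat.chineseRemainder
    ((Nat.coprime_two_left.2 hd).pow_left m) 1 0
  have hkd : d ∣ k := Nat.modEq_zero_iff_dvd.1 hk2
  have hρn : ρ (s ^ 2 ^ m) = 1 := rho_pow_eq_one hs
  have hfn : φ (s ^ 2 ^ m) = 1 := Heis.eq_one_of_rho hc ⟨1, by rw [hρn, one_smul]⟩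
  have h2m : 1 < 2 ^ m := Nat.one_lt_two_pow (by omega)
  have hk : k = 1 + 2 ^ m * (k / 2 ^ m) := by
    conv_lhs => rw [← Nat.mod_add_div k (2 ^ m)]
    rw [show k % 2 ^ m = 1 from Eq.trans hk1 (Nat.one_mod_eq_one.2 h2m.ne')]
  refine ⟨s ^ k, ?_, ?_, ?_⟩
  · have h1 : (s ^ k) ^ 2 ^ a = 1 := by
      rw [← pow_mul]
      refine orderOf_dvd_iff_pow_eq_one.1 ?_
      rw [e, mul_comm k]
      exact Nat.mul_dvd_mul_left _ hkd
    intro g
    obtain ⟨i, hi⟩ := Subgroup.mem_zpowers_iff.1 g.2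
    refine ⟨a, Subtype.ext ?_⟩
    rw [SubmonoidClass.coe_pow, ← hi, ← zpow_natCast, ← zpow_mul, mul_comm, zpow_mul, zpow_natCast,
      h1, one_zpow]
    rfl
  · rw [hk, pow_add, pow_mul, map_mul, map_pow ρ (s ^ 2 ^ m), hρn, one_pow, mul_one, pow_one]
  · rw [hk, pow_add, pow_mul, map_mul, map_pow φ (s ^ 2 ^ m), hfn, one_pow, mul_one, pow_one]

theorem nondeg_invG [Finite W] {A : Type*} [CommGroup A] (Φ : Form W A) {x : MulAut W}
    (hx : x ∈ Φ.isom) (hx2 : x * x = 1) :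
    (∀ v ∈ invG x, ∀ w ∈ fixG x, Φ.B v w = 1) ∧ (∀ w, ∃ v ∈ invG x, ∃ u ∈ fixG x, v * u = w) ∧
      ∀ v ∈ invG x, (∀ w ∈ invG x, Φ.B v w = 1) → v = 1 := by
  have hxx : ∀ w, x (x w) = w := fun w => by rw [← MulAut.mul_apply, hx2]; rfl
  have horth : ∀ v ∈ invG x, ∀ w ∈ fixG x, Φ.B v w = 1 := by
    intro v hv w hw
    have h1 := hx v w
    rw [mem_invG.1 hv, mem_fixG.1 hw, map_inv, MonoidHom.inv_apply] at h1
    have h2 : (Φ.B v w) ^ 2 = 1 := by
      rw [sq]; nth_rewrite 1 [← h1]; rw [inv_mul_cancel]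
    have h3 : (Φ.B v w) ^ Nat.card W = 1 := by rw [← map_pow, pow_card_eq_one', map_one]
    have h4 : (Φ.B v w) ^ Nat.gcd 2 (Nat.card W) = 1 := pow_gcd_eq_one.2 ⟨h2, h3⟩
    rwa [(Nat.coprime_two_left.2 Φ.odd).gcd_eq_one, pow_one] at h4
  have hdec : ∀ w, ∃ v ∈ invG x, ∃ u ∈ fixG x, v * u = w := by
    intro w
    obtain ⟨y, rfl⟩ : ∃ y, y ^ 2 = w :=
      ((powCoprime (G := W) (Nat.coprime_two_right.2 Φ.odd)).surjective w)
    refine ⟨y * (x y)⁻¹, ?_, y * x y, ?_, ?_⟩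
    · rw [mem_invG, map_mul, map_inv, hxx, mul_inv_rev, inv_inv]
    · rw [mem_fixG, map_mul, hxx, mul_comm]
    · rw [sq, mul_mul_mul_comm, inv_mul_cancel, mul_one]
  refine ⟨horth, hdec, fun v hv hall => Φ.nondeg v fun w => ?_⟩
  obtain ⟨a, ha, b, hb, rfl⟩ := hdec w
  rw [map_mul, hall a ha, horth v hv b hb, one_mul]

/-- The minimal degree. -/
theorem exp_local_min [IsAlgClosed F] [CharP F 2] [FiniteDimensional F U] [Nontrivial U] [Finite W]
    [Finite Γ] (h : Heis F U W) (hc : h.IsCompat ρ φ) (s : Γ) (m : ℕ) (hm : 1 ≤ m) (j : ℕ)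
    (hj : (ρ s - 1) ^ j = 0) (hj2 : j ≤ 2 ^ m - 1) (hx : φ s ^ 2 ^ (m - 1) ≠ 1) :
    2 ^ m - 1 ≤ j := by
  have hs := pow_eq_zero_of_le hj2 hj
  obtain ⟨t, ht, hρ, hφ⟩ := exists_two_part hc s m hm hs
  rw [← hρ] at hj hs
  rw [← hφ] at hx
  have hfn : φ t ^ 2 ^ m = 1 := by
    rw [← map_pow]
    exact Heis.eq_one_of_rho hc ⟨1, by rw [rho_pow_eq_one hs, one_smul]⟩
  have hx2 : φ t ^ 2 ^ (m - 1) * φ t ^ 2 ^ (m - 1) = 1 := by
    rw [← pow_add, ← two_mul, ← pow_succ', show m - 1 + 1 = m by omega, hfn]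
  obtain ⟨-, hdec, hnd⟩ := nondeg_invG h.form (pow_mem (Heis.compat_isom hc t) _) hx2
  have hne : invG (φ t ^ 2 ^ (m - 1)) ≠ ⊥ := fun hb => hx (MulEquiv.ext fun w => by
    obtain ⟨v, hv, u, hu, rfl⟩ := hdec w
    rw [hb, Subgroup.mem_bot] at hv
    rw [hv, one_mul, mem_fixG.1 hu]; rfl)
  obtain ⟨-, X, -, -, -, -, hmin⟩ := exp_reduce hc t ht m hm hs _ hne hnd (fun w hw => hw)
    (fun w hw => by
      show (φ t ^ 2 ^ (m - 1)) (φ t w) = (φ t w)⁻¹
      rw [← MulAut.mul_apply, ← pow_succ, pow_succ', MulAut.mul_apply, mem_invG.1 hw, map_inv])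
  exact hmin j fun u _ => by rw [hj]; rfl

set_option maxHeartbeats 1000000 in
/-- The local form of Theorem B: `φ s` is root-like. -/
theorem exp_local [IsAlgClosed F] [CharP F 2] [FiniteDimensional F U] [Nontrivial U] [Finite W]
    [Finite Γ] (h : Heis F U W) (hc : h.IsCompat ρ φ) (s : Γ) (m : ℕ) (hm : 1 ≤ m)
    (hs : (ρ s - 1) ^ (2 ^ m - 1) = 0) : IsRootLike (φ s) m := by
  classical
  obtain ⟨t, ht, hρ, hφ⟩ := exists_two_part hc s m hm hs
  rw [← hρ] at hs
  rw [← hφ]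
  clear hρ hφ s
  by_cases hx : φ t ^ 2 ^ (m - 1) = 1
  · exact Or.inl hx
  refine Or.inr ?_
  set f := φ t with hfdef
  set x := f ^ 2 ^ (m - 1) with hxdef
  have hfn : f ^ 2 ^ m = 1 := by
    rw [hfdef, ← map_pow]
    exact Heis.eq_one_of_rho hc ⟨1, by rw [rho_pow_eq_one hs, one_smul]⟩
  have hm2 : 2 ≤ m := by
    by_contra hcon
    obtain rfl : m = 1 := by omega
    have h1 : ρ t = 1 := by simpa [sub_eq_zero] using hs
    exact hx (by rw [hxdef, hfdef, Heis.eq_one_of_rho hc ⟨1, by rw [h1, one_smul]⟩, one_pow])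
  have hx2 : x * x = 1 := by
    rw [hxdef, ← pow_add, ← two_mul, ← pow_succ', show m - 1 + 1 = m by omega, hfn]
  have hfx : ∀ w, x (f w) = f (x w) := fun w => by
    rw [← MulAut.mul_apply, ← MulAut.mul_apply, hxdef, ← pow_succ, pow_succ']
  obtain ⟨horth, hdec, hnd⟩ := nondeg_invG h.form (pow_mem (Heis.compat_isom hc t) _) hx2
  have hne : invG x ≠ ⊥ := fun hb => hx (MulEquiv.ext fun w => by
    obtain ⟨v, hv, u, hu, rfl⟩ := hdec w
    rw [hb, Subgroup.mem_bot] at hv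
    rw [hv, one_mul, mem_fixG.1 hu]; rfl)
  have hfinv : ∀ w ∈ invG x, f w ∈ invG x := fun w hw => by
    rw [mem_invG, hfx, mem_invG.1 hw, map_inv]
  obtain ⟨hcard, X, hX0, hX, hXP, hXm, hmin⟩ :=
    exp_reduce hc t ht m hm hs _ hne hnd (fun w hw => hw) hfinv
  have hfour : 4 ≤ 2 ^ m := by
    calc 4 = 2 ^ 2 := rfl
      _ ≤ 2 ^ m := Nat.pow_le_pow_right (by norm_num) hm2
  refine ⟨hm2, ?_, hfn, by rw [hcard, sq], ?_⟩
  · -- `2 ^ m - 1` is a prime
    obtain ⟨p, hp, hpd⟩ := Nat.exists_prime_and_dvd (show 2 ^ m - 1 ≠ 1 by omega)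
    haveI : Fact p.Prime := ⟨hp⟩
    set K := (Nat.card (invG x)).factorization p
    set L := Nat.card (invG x) / p ^ K
    have hKL : p ^ K * L = Nat.card (invG x) := Nat.ordProj_mul_ordCompl_eq_self _ _
    have hcop : (p ^ K).Coprime L :=
      (Nat.coprime_ordCompl hp Nat.card_pos.ne').pow_left K
    let Wp : Subgroup W :=
      { carrier := {w | w ∈ invG x ∧ w ^ p ^ K = 1}
        one_mem' := ⟨one_mem _, one_pow _⟩
        mul_mem' := fun {a b} ha hb => ⟨mul_mem ha.1 hb.1, by rw [mul_pow, ha.2, hb.2, one_mul]⟩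
        inv_mem' := fun {a} ha => ⟨inv_mem ha.1, by rw [inv_pow, ha.2, inv_one]⟩ }
    have hpow : ∀ w ∈ invG x, w ^ (p ^ K * L) = 1 := fun w hw => by
      rw [hKL]
      exact congrArg Subtype.val (pow_card_eq_one' (x := (⟨w, hw⟩ : invG x)))
    have hWpnd : ∀ v ∈ Wp, (∀ w ∈ Wp, h.form.B v w = 1) → v = 1 := by
      intro v hv hall
      refine hnd v hv.1 fun w hw => ?_
      have h1 : (h.form.B v w) ^ L = 1 := by
        rw [← map_pow]
        refine hall _ ⟨pow_mem hw L, ?_⟩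
        rw [← pow_mul, mul_comm]
        exact hpow w hw
      have h2 : (h.form.B v w) ^ p ^ K = 1 := by
        rw [← MonoidHom.pow_apply, ← map_pow, hv.2, map_one, MonoidHom.one_apply]
      have h4 : (h.form.B v w) ^ Nat.gcd (p ^ K) L = 1 := pow_gcd_eq_one.2 ⟨h2, h1⟩
      rwa [hcop.gcd_eq_one, pow_one] at h4
    have hWpne : Wp ≠ ⊥ := by
      obtain ⟨g, hg⟩ := exists_prime_orderOf_dvd_card' (G := invG x) p (by
        rw [hcard]; exact hpd.mul_left _)
      intro hb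
      have hmem : (g : W) ∈ Wp := ⟨g.2, by
        obtain ⟨K', hK'⟩ : ∃ K', K = K' + 1 := ⟨K - 1, by
          have hpos : 0 < K := hp.factorization_pos_of_dvd Nat.card_pos.ne'
            (by rw [hcard]; exact hpd.mul_left _)
          omega⟩
        rw [hK', pow_succ', pow_mul, ← SubmonoidClass.coe_pow, ← hg, pow_orderOf_eq_one,
          OneMemClass.coe_one, one_pow]⟩
      rw [hb, Subgroup.mem_bot] at hmem
      have h1 : g = 1 := Subtype.ext hmem
      rw [h1, orderOf_one] at hg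
      exact hp.one_lt.ne hg
    obtain ⟨hcardp, -⟩ := exp_reduce hc t ht m hm hs Wp hWpne hWpnd (fun w hw => hw.1)
      (fun w hw => ⟨hfinv w hw.1, by rw [← map_pow, hw.2, map_one]⟩)
    have hWpp : IsPGroup p Wp := fun g => ⟨K, Subtype.ext g.2.2⟩
    obtain ⟨b, hb⟩ := IsPGroup.iff_card.1 hWpp
    rw [hcardp] at hb
    obtain ⟨a, -, ha⟩ := (Nat.dvd_prime_pow hp).1 (Dvd.intro _ hb : 2 ^ m - 1 ∣ p ^ b)
    have ha0 : a ≠ 0 := fun h0 => by rw [h0, pow_zero] at ha; omega
    rw [ha, Rec.TransVec.exp_one_of_two_pow_sub_one hp hm2 ha0 ha, pow_one]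
    exact hp
  · -- `f` fixes the complement
    intro u hu
    haveI : Nontrivial X := Submodule.nontrivial_iff_ne_bot.2 hX0
    have hXt : ∀ v ∈ X, ρ t v ∈ X := hXP t (Subgroup.mem_zpowers t)
    have hXt' : ∀ v ∈ X, ρ t⁻¹ v ∈ X := hXP _ (inv_mem (Subgroup.mem_zpowers t))
    have hρn : ρ (t ^ 2 ^ m) = 1 := rho_pow_eq_one hs
    let Com : (X →ₗ[F] U) → Prop := fun ψ =>
      ∀ w (hw : w ∈ invG x) (v : X), ψ ⟨h.π w v, hX w hw v v.2⟩ = h.π w (ψ v)
    let C : End F (X →ₗ[F] U) :=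
      { toFun := fun ψ => ρ t ∘ₗ ψ ∘ₗ ((ρ t⁻¹).restrict hXt')
        map_add' := fun a b => by ext v; simp
        map_smul' := fun c a => by ext v; simp }
    have hC : ∀ (ψ : X →ₗ[F] U) (v : X), C ψ v = ρ t (ψ ⟨ρ t⁻¹ v, hXt' v v.2⟩) := fun ψ v => rfl
    have hCcom : ∀ ψ, Com ψ → Com (C ψ) := by
      intro ψ hψ w hw v
      obtain ⟨c, -, e⟩ := hc t⁻¹ w
      have hw' : φ t⁻¹ w ∈ invG x := by
        have h1 : f (φ t⁻¹ w) = w := by rw [hfdef, map_inv, MulAut.apply_inv_self]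
        rw [mem_invG]
        refine f.injective ?_
        rw [← hfx, h1, map_inv, h1, mem_invG.1 hw]
      have e2 : (⟨ρ t⁻¹ (h.π w v), hXt' _ (hX w hw v v.2)⟩ : X) =
          c • (⟨h.π (φ t⁻¹ w) (ρ t⁻¹ v), hX _ hw' _ (hXt' v v.2)⟩ : X) :=
        Subtype.ext (LinearMap.congr_fun e (v : U))
      have e1 : ∀ y, ρ t (c • h.π (φ t⁻¹ w) y) = h.π w (ρ t y) := fun y => by
        have h1 := congrArg (ρ t) (LinearMap.congr_fun e (ρ t y))
        simp only [End.mul_apply, LinearMap.smul_apply, Representation.inv_self_apply,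
          Representation.self_inv_apply] at h1
        exact h1.symm
      rw [hC, hC, e2, map_smul, hψ _ hw' ⟨ρ t⁻¹ v, hXt' v v.2⟩, e1]
    haveI : Nontrivial (X →ₗ[F] U) := ⟨X.subtype, 0, fun h0 => by
      obtain ⟨v, hv⟩ := exists_ne (0 : X)
      exact hv (Subtype.ext (LinearMap.congr_fun h0 v))⟩
    haveI : CharP (End F (X →ₗ[F] U)) 2 :=
      charP_of_injective_algebraMap (algebraMap F (End F (X →ₗ[F] U))).injective 2
    have hCpow : ∀ (i : ℕ) (ψ : X →ₗ[F] U) (v : X),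
        (C ^ i) ψ v = ρ (t ^ i) (ψ ⟨ρ (t⁻¹ ^ i) v,
          hXP _ (pow_mem (inv_mem (Subgroup.mem_zpowers t)) i) v v.2⟩) := by
      intro i
      induction i with
      | zero => intro ψ v; simp
      | succ i ih =>
        intro ψ v
        rw [pow_succ', End.mul_apply, hC, ih, pow_succ', map_mul, End.mul_apply]
        congr 3
        refine Subtype.ext ?_
        show ρ (t⁻¹ ^ i) (ρ t⁻¹ (v : U)) = ρ (t⁻¹ ^ (i + 1)) (v : U)
        rw [pow_succ, map_mul, End.mul_apply]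
    have hnil : (C - 1) ^ 2 ^ m = 0 := by
      rw [sub_pow_char_pow_of_commute (R := End F (X →ₗ[F] U)) 2 m (Commute.one_right C), one_pow,
        sub_eq_zero]
      refine LinearMap.ext fun ψ => LinearMap.ext fun v => ?_
      rw [hCpow, hρn]
      show ψ _ = ψ v
      congr 1
      refine Subtype.ext ?_
      show ρ (t⁻¹ ^ 2 ^ m) v = (v : U)
      calc ρ (t⁻¹ ^ 2 ^ m) (v : U) = ρ (t⁻¹ ^ 2 ^ m) (ρ (t ^ 2 ^ m) v) := by rw [hρn]; rfl
        _ = (v : U) := by rw [inv_pow, Representation.inv_self_apply]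
    have hCom' : ∀ (i : ℕ) (ψ : X →ₗ[F] U), Com ψ → Com (((C - 1) ^ i) ψ) := by
      intro i
      induction i with
      | zero => exact fun ψ hψ => hψ
      | succ i ih =>
        intro ψ hψ w hw v
        rw [pow_succ', End.mul_apply, LinearMap.sub_apply, End.one_apply, LinearMap.sub_apply,
          LinearMap.sub_apply, map_sub, hCcom _ (ih ψ hψ) w hw v, ih ψ hψ w hw v]
    -- `C` fixes the maps commuting with `π (invG x)`
    have hfixC : ∀ ψ, Com ψ → C ψ = ψ := by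
      intro ψ hψ
      by_contra hne'
      have hex : ∃ k : ℕ, ((C - 1) ^ k : End F (X →ₗ[F] U)) ψ = 0 := ⟨2 ^ m, by rw [hnil]; rfl⟩
      have hk0 := Nat.find_spec hex
      obtain ⟨k, hk⟩ : ∃ k, Nat.find hex = k + 2 := by
        refine ⟨Nat.find hex - 2, ?_⟩
        have h2 : ¬ Nat.find hex ≤ 1 := fun hle => hne' (sub_eq_zero.1 (by
          have h1 : ((C - 1) ^ 1 : End F (X →ₗ[F] U)) ψ = 0 := by
            rw [show 1 = (1 - Nat.find hex) + Nat.find hex by omega, pow_add, End.mul_apply, hk0,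
              map_zero]
          rw [pow_one, LinearMap.sub_apply, End.one_apply] at h1
          exact h1))
        omega
      rw [hk] at hk0
      have hk1 := Nat.find_min hex (show k + 1 < Nat.find hex by omega)
      set φ₁ := ((C - 1) ^ k) ψ with hφ₁
      set ψ₁ := ((C - 1) ^ (k + 1)) ψ with hψ₁
      have hC1 : ψ₁ = C φ₁ - φ₁ := by rw [hψ₁, pow_succ', End.mul_apply]; rfl
      have hC2 : C ψ₁ = ψ₁ := sub_eq_zero.1 (by
        rw [← hk0, pow_succ' _ (k + 1), End.mul_apply]; rfl)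
      have hρψ : ∀ v : X, ρ t (ψ₁ v) = ψ₁ ⟨ρ t v, hXt v v.2⟩ := by
        intro v
        conv_rhs => rw [← hC2, hC]
        simp
      have hρφ : ∀ v : X,
          ρ t (φ₁ v) = φ₁ ⟨ρ t v, hXt v v.2⟩ + ψ₁ ⟨ρ t v, hXt v v.2⟩ := by
        intro v
        rw [hC1, LinearMap.sub_apply, add_sub_cancel, hC]
        simp
      let D : End F X := (ρ t).restrict hXt - 1
      have hDcoe : ∀ (i : ℕ) (v : X), (((D ^ i) v : X) : U) = ((ρ t - 1) ^ i) v := by
        intro i
        induction i with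
        | zero => intro v; rfl
        | succ i ih =>
          intro v
          rw [pow_succ', pow_succ', End.mul_apply, End.mul_apply, ← ih]
          rfl
      have hDψ : ∀ v : X, (ρ t - 1) (ψ₁ v) = ψ₁ (D v) := fun v => by
        rw [LinearMap.sub_apply, hρψ, End.one_apply, LinearMap.sub_apply, End.one_apply, map_sub]
        rfl
      have key : ∀ (i : ℕ) (v : X), ((ρ t - 1) ^ (i + 1)) (φ₁ v) = φ₁ ((D ^ (i + 1)) v) +
          ((i + 1 : ℕ) : F) • ψ₁ ((D ^ i) ⟨ρ t v, hXt v v.2⟩) := by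
        intro i
        induction i with
        | zero =>
          intro v
          rw [pow_one, pow_one, pow_zero, End.one_apply, Nat.cast_one, one_smul,
            LinearMap.sub_apply, End.one_apply, hρφ, LinearMap.sub_apply, End.one_apply, map_sub,
            sub_add_eq_add_sub]
          rfl
        | succ i ih =>
          intro v
          rw [pow_succ', End.mul_apply, ih, map_add, map_smul, hDψ, ← End.mul_apply D,
            ← pow_succ']
          have h1 : (ρ t - 1) (φ₁ ((D ^ (i + 1)) v)) = φ₁ ((D ^ (i + 1 + 1)) v) +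
              ψ₁ ((D ^ (i + 1)) ⟨ρ t v, hXt v v.2⟩) := by
            rw [LinearMap.sub_apply, hρφ, End.one_apply, pow_succ' D (i + 1), End.mul_apply,
              LinearMap.sub_apply, End.one_apply, map_sub, sub_add_eq_add_sub]
            congr 1
            congr 1
            congr 1
            refine Subtype.ext ?_
            show ρ t ((D ^ (i + 1)) v : U) = (((D ^ (i + 1)) ⟨ρ t v, hXt v v.2⟩ : X) : U)
            rw [hDcoe, hDcoe, ← End.mul_apply, ← End.mul_apply]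
            congr 1
            exact ((Commute.sub_left (Commute.refl (ρ t)) (Commute.one_left _)).pow_left _).eq.symm
          rw [h1, add_assoc, Nat.cast_succ (i + 1), add_smul, one_smul, add_comm (ψ₁ _)]
      have hDn : ∀ v : X, (D ^ (2 ^ m - 1)) v = 0 := fun v => Subtype.ext (by
        rw [hDcoe, hs]; rfl)
      obtain ⟨i, hi⟩ : ∃ i, 2 ^ m - 1 = i + 1 := ⟨2 ^ m - 2, by omega⟩
      have hcast : ((i + 1 : ℕ) : F) = 1 := by
        have hoddn : (i + 1) % 2 = 1 := by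
          have : 2 ∣ 2 ^ m := dvd_pow_self 2 (by omega)
          omega
        rw [← Nat.mod_add_div (i + 1) 2, hoddn]
        push_cast
        rw [CharTwo.two_eq_zero, zero_mul, add_zero]
      have hψzero : ∀ v : X, ψ₁ ((D ^ i) ⟨ρ t v, hXt v v.2⟩) = 0 := fun v => by
        have h1 := key i v
        rw [hcast, one_smul, ← hi, hs, hDn, map_zero, zero_add] at h1
        exact h1.symm
      have hψinj : ∀ v : X, ψ₁ v = 0 → v = 0 := by
        intro v hv
        rcases hXm ((LinearMap.ker ψ₁).map X.subtype) (Submodule.map_subtype_le _ _) (by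
            rintro w hw _ ⟨z, hz, rfl⟩
            refine ⟨⟨h.π w z, hX w hw z z.2⟩, ?_, rfl⟩
            show ψ₁ _ = 0
            rw [hCom' (k + 1) ψ hψ w hw z, LinearMap.mem_ker.1 hz, map_zero]) with h0 | h0
        · have h1 : (v : U) ∈ (LinearMap.ker ψ₁).map X.subtype := ⟨v, hv, rfl⟩
          rw [h0, Submodule.mem_bot] at h1
          exact Subtype.ext h1
        · refine absurd (LinearMap.ext fun z => ?_ : ψ₁ = 0) hk1
          obtain ⟨z', hz', e⟩ := h0.ge z.2
          obtain rfl : z' = z := Subtype.ext e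
          exact hz'
      have hDi : ∀ v ∈ X, ((ρ t - 1) ^ i) v = 0 := by
        intro v hv
        have h1 := hψinj _ (hψzero ⟨ρ t⁻¹ v, hXt' v hv⟩)
        have h2 := congrArg Subtype.val h1
        rw [hDcoe] at h2
        simpa using h2
      have := hmin i hDi
      omega
    -- hence `ρ t` commutes with `π u`
    set S := {y : U | ∃ u' ∈ fixG x, ∃ v ∈ X, h.π u' v = y} with hS
    have hswap : ∀ w ∈ invG x, ∀ u' ∈ fixG x, h.π w * h.π u' = h.π u' * h.π w := by
      intro w hw u' hu'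
      rw [h.π_comm, horth w hw u' hu', Units.val_one, one_smul]
    have hspan : Submodule.span F S = ⊤ := by
      rcases h.irred (Submodule.span F S) (by
        intro w y hy
        obtain ⟨w1, hw1, w2, hw2, rfl⟩ := hdec w
        obtain ⟨c, hc0, e⟩ := h.π_mul w1 w2
        have e' : h.π (w1 * w2) = c⁻¹ • (h.π w1 * h.π w2) := by
          rw [e, smul_smul, inv_mul_cancel₀ hc0, one_smul]
        induction hy using Submodule.span_induction with
        | mem y hy =>
          obtain ⟨u', hu', v, hv, rfl⟩ := hy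
          rw [e', LinearMap.smul_apply]
          refine Submodule.smul_mem _ _ ?_
          obtain ⟨d, -, ed⟩ := h.π_mul w2 u'
          rw [End.mul_apply, ← End.mul_apply (h.π w2), ed, LinearMap.smul_apply, map_smul,
            ← End.mul_apply, hswap w1 hw1 _ (mul_mem hw2 hu'), End.mul_apply]
          exact Submodule.smul_mem _ _ (Submodule.subset_span
            ⟨_, mul_mem hw2 hu', _, hX w1 hw1 v hv, rfl⟩)
        | zero => rw [map_zero]; exact zero_mem _
        | add a b _ _ ha hb => rw [map_add]; exact add_mem ha hb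
        | smul c a _ ha => rw [map_smul]; exact Submodule.smul_mem _ _ ha) with h0 | h0
      · exfalso
        obtain ⟨v, hv, hv0⟩ := Submodule.exists_mem_ne_zero_of_ne_bot hX0
        have h1 : v ∈ Submodule.span F S :=
          Submodule.subset_span ⟨1, one_mem _, v, hv, by rw [h.π_one]; rfl⟩
        rw [h0, Submodule.mem_bot] at h1
        exact hv0 h1
      · exact h0
    have hone : ∀ u' ∈ fixG x, ∀ v ∈ X, ρ t (h.π u' v) = h.π u' (ρ t v) := by
      intro u' hu' v hv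
      have h1 := LinearMap.congr_fun (hfixC (h.π u' ∘ₗ X.subtype) (fun w hw z =>
        LinearMap.congr_fun (hswap w hw u' hu').symm (z : U))) ⟨ρ t v, hXt v hv⟩
      rw [hC] at h1
      simpa using h1
    have htwo : ρ t * h.π u = h.π u * ρ t := by
      refine LinearMap.ext_on hspan ?_
      rintro _ ⟨u', hu', v, hv, rfl⟩
      obtain ⟨d, -, ed⟩ := h.π_mul u u'
      rw [End.mul_apply, End.mul_apply, ← End.mul_apply (h.π u), ed, LinearMap.smul_apply,
        map_smul, hone _ (mul_mem hu hu') v hv, hone u' hu' v hv, ← End.mul_apply (h.π u), ed,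
        LinearMap.smul_apply]
    obtain ⟨c, hc0, e⟩ := hc t u
    rw [htwo, ← smul_mul_assoc] at e
    have e2 : h.π u = c • h.π (f u) := (Heis.isUnit_rho ρ t).mul_right_cancel e
    by_contra hne'
    have h1 := linearIndependent_iff'.mp h.linearIndependent {u, f u}
      (fun y => if y = u then 1 else -c) (by
        rw [Finset.sum_pair (Ne.symm hne'), if_pos rfl, if_neg hne', one_smul, neg_smul, ← e2,
          add_neg_cancel]) u (Finset.mem_insert_self _ _)
    rw [if_pos rfl] at h1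
    exact one_ne_zero h1

end CfsgLib.TwoLength
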