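import Cfsg.Agent.Lib.TwoLength.DerPair
import Cfsg.Agent.Lib.TwoLength.ExpLocal

/-!
# The local derived-length statement

A `2`-group acting compatibly on an irreducible module with a chain of length `k` annihilated has
`dS P k` acting through a group of order at most two, whose involution inverts nine elements.
-/

set_option autoImplicit false
set_option linter.style.haveILetI false

namespace CfsgLib.TwoLength

open Module
open scoped commutatorElement

universe uF uU uW uG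

section Aux

variable {F U W Γ : Type*} [Field F] [IsAlgClosed F] [CharP F 2] [AddCommGroup U] [Module F U]
  [FiniteDimensional F U] [Nontrivial U] [CommGroup W] [Finite W] [Group Γ] [Finite Γ]
  {h : Heis F U W} {ρ : Representation F Γ U} {φ : Γ →* MulAut W}

/-- A chain of length one forces an element of order four and nine elements. -/
theorem card_nine_of_ann (hc : h.IsCompat ρ φ) (hG : IsPGroup 2 Γ) [Nontrivial W] {x : Γ}
    (hx : x ∈ dS ⊤ 1) (hxW : ∀ w, φ x w = w⁻¹) (hann : ∀ g, (ρ g - 1) * (ρ x - 1) = 0) :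
    Nat.card W = 9 := by
  haveI : Fact (Nat.Prime 2) := ⟨Nat.prime_two⟩
  have hx1 : φ x ≠ 1 := fun e => by
    obtain ⟨w, hw⟩ := exists_ne (1 : W)
    have h1 := hxW w
    rw [e, MulAut.one_apply] at h1
    exact hw (h.form.eq_one_of_inv_eq h1.symm)
  obtain ⟨g, hg⟩ : ∃ g : Γ, φ g * φ g ≠ 1 := by
    by_contra hall
    push Not at hall
    refine hx1 (φ.mem_ker.1 ((show dS (⊤ : Subgroup Γ) 1 ≤ φ.ker from ?_) hx))
    show ⁅(⊤ : Subgroup Γ), ⊤⁆ ≤ φ.ker
    rw [Subgroup.commutator_le]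
    intro a _ b _
    rw [MonoidHom.mem_ker, map_commutatorElement, commutatorElement_eq_one_iff_mul_comm]
    have hinv : ∀ c, (φ c)⁻¹ = φ c := fun c => inv_eq_of_mul_eq_one_right (hall c)
    calc φ a * φ b = (φ (a * b))⁻¹ := by rw [hinv, map_mul]
      _ = φ b * φ a := by rw [map_mul, mul_inv_rev, hinv, hinv]
  obtain ⟨n, hn⟩ := hG g
  obtain ⟨m, -, hm⟩ := (Nat.dvd_prime_pow Nat.prime_two).1
    (orderOf_dvd_of_pow_eq_one (show φ g ^ 2 ^ n = 1 by rw [← map_pow, hn, map_one]))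
  have hm2 : 2 ≤ m := by
    by_contra hlt
    refine hg ?_
    rw [← pow_two]
    exact orderOf_dvd_iff_pow_eq_one.1 (hm ▸ pow_dvd_pow 2 (show m ≤ 1 by omega))
  have hpow : 2 ^ m = 2 ^ (m - 1) + 2 ^ (m - 1) := by
    rw [← two_mul, ← pow_succ', show m - 1 + 1 = m by omega]
  have hge : 2 ≤ 2 ^ (m - 1) := Nat.le_self_pow (by omega) 2
  have hne : φ g ^ 2 ^ (m - 1) ≠ 1 := pow_ne_one_of_lt_orderOf (by positivity) (by rw [hm]; omega)
  have htop : φ g ^ 2 ^ (m - 1) = φ x := by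
    rw [← map_pow] at hne ⊢
    refine (involution_eq_of_ann hc hG hxW hann ?_).resolve_left hne
    rw [map_pow, ← pow_add, ← hpow, ← hm, pow_orderOf_eq_one]
  have hpx : (ρ g - 1) ^ (2 ^ (m - 1) + 1) = 0 := by
    rw [pow_succ', end_sub_one_pow, ← map_pow,
      rho_congr hc hG (show φ (g ^ 2 ^ (m - 1)) = φ x by rw [map_pow, htop]), hann]
  have hle : 2 ^ (m - 1) + 1 ≤ 2 ^ m - 1 := by omega
  have hroot := (exp_local h hc g m (by omega) (pow_eq_zero_of_le hle hpx)).resolve_left hne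
  have hmin := exp_local_min h hc g m (by omega) _ hpx hle hne
  have hm' : m = 2 := by
    by_contra hne2
    have : 2 ^ 2 ≤ 2 ^ (m - 1) := Nat.pow_le_pow_right two_pos (by omega)
    omega
  have h1 := hroot.card_inv
  rw [htop, show invG (φ x) = ⊤ from eq_top_iff.2 fun w _ => hxW w, Subgroup.card_top] at h1
  rw [h1, hm']
  rfl

theorem exists_involution {G : Type*} [Group G] (hG : IsPGroup 2 G) {g : G} (hg : g ≠ 1) :
    ∃ i : ℕ, g ^ i * g ^ i = 1 ∧ g ^ i ≠ 1 := by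
  obtain ⟨n, hn⟩ := hG g
  obtain ⟨m, -, hm⟩ := (Nat.dvd_prime_pow Nat.prime_two).1 (orderOf_dvd_of_pow_eq_one hn)
  rcases m with _ | m
  · exact absurd (orderOf_eq_one_iff.1 hm) hg
  · refine ⟨2 ^ m, by rw [← pow_add, ← two_mul, ← pow_succ', ← hm, pow_orderOf_eq_one],
      pow_ne_one_of_lt_orderOf (by positivity) ?_⟩
    rw [hm]
    exact Nat.pow_lt_pow_right one_lt_two (Nat.lt_succ_self m)

end Aux

/-! ### The recursion -/

section Core

variable {F : Type uF} [Field F] [IsAlgClosed F] [CharP F 2]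

theorem derCore_central {n : ℕ} (IH : DerCore.{uF, uU, uW, uG} F n) {U : Type uU}
    [AddCommGroup U] [Module F U] [FiniteDimensional F U] [Nontrivial U] {W : Type uW}
    [CommGroup W] [Finite W] {Γ : Type uG} [Group Γ] [Finite Γ] {h : Heis F U W}
    {ρ : Representation F Γ U} {φ : Γ →* MulAut W} (hn : Nat.card W ≤ n + 1) (hG : IsPGroup 2 Γ)
    (hc : h.IsCompat ρ φ) {j : ℕ} {x : Γ} (hx : x ∈ dS ⊤ (j + 1)) (hxW : ∀ w, φ x w = w⁻¹)
    (hchain : chain ρ (dS ⊤) j (LinearMap.range (ρ x - 1)) = ⊥) {t : Γ} (ht : φ t * φ t = 1)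
    (ht1 : φ t ≠ 1) (htx : φ t ≠ φ x) (hcen : ∀ g, Commute (φ g) (φ t)) : j = 0 := by
  have h2 : φ t ^ 2 = 1 := by rw [pow_two, ht]
  have hs : ∀ g ∈ (⊤ : Subgroup Γ), ∀ w ∈ invG (φ t), φ g w ∈ invG (φ t) := fun g _ w hw => by
    have h1 := DFunLike.congr_fun (hcen g).eq w
    rw [MulAut.mul_apply, MulAut.mul_apply, mem_invG.1 hw, map_inv] at h1
    exact h1.symm
  haveI : Nontrivial (invG (φ t)) := by
    rw [Subgroup.nontrivial_iff_ne_bot]
    intro e
    refine ht1 (MulEquiv.ext fun w => ?_)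
    obtain ⟨a, ha, b, hb, rfl⟩ := h.form.exists_decomp_top h2 w
    rw [e, Subgroup.mem_bot] at ha
    rw [ha, one_mul, mem_fixG.1 hb]
    rfl
  have hlt : invG (φ t) ≠ ⊤ := fun e => htx (MulEquiv.ext fun w => by
    rw [mem_invG.1 (e ▸ Subgroup.mem_top w : w ∈ invG (φ t)), hxW])
  have hcard : Nat.card (invG (φ t)) ≤ n := by
    have : Nat.card (invG (φ t)) < Nat.card W :=
      lt_of_le_of_ne (Nat.le_of_dvd Nat.card_pos (invG (φ t)).card_subgroup_dvd_card)
        fun e => hlt (Subgroup.eq_top_of_card_eq _ e)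
    omega
  have hM := (Mod.of_heis hc).restrict (invG (φ t)) ⊤
    (h.form.nondegOn_invG (Heis.compat_isom hc t) h2) hs
  have hmap : ∀ i, (dS (⊤ : Subgroup (⊤ : Subgroup Γ)) i).map (⊤ : Subgroup Γ).subtype
      = dS ⊤ i := fun i => by
    rw [map_dS, ← MonoidHom.range_eq_map, Subgroup.range_subtype]
  have hx' : (⟨x, Subgroup.mem_top x⟩ : (⊤ : Subgroup Γ)) ∈ dS ⊤ (j + 1) := by
    have h1 := hx
    rw [← hmap] at h1
    obtain ⟨x', hx'', e⟩ := h1
    rwa [show x' = ⟨x, Subgroup.mem_top x⟩ from Subtype.ext e] at hx''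
  refine (IH.step hM hcard (hG.to_subgroup ⊤) hx' (fun w => Subtype.ext (hxW w)) ?_).1
  have h1 := chain_map ρ (ρ.comp (⊤ : Subgroup Γ).subtype) (⊤ : Subgroup Γ).subtype LinearMap.id
    (fun _ _ => rfl) j (dS (⊤ : Subgroup (⊤ : Subgroup Γ))) (LinearMap.range (ρ x - 1))
  rw [funext hmap, Submodule.map_id, Submodule.map_id, hchain] at h1
  exact h1.symm

theorem derCore_moved {n : ℕ} (IH : DerCore.{uF, uU, uW, uG} F n) {U : Type uU}
    [AddCommGroup U] [Module F U] [FiniteDimensional F U] [Nontrivial U] {W : Type uW}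
    [CommGroup W] [Finite W] {Γ : Type uG} [Group Γ] [Finite Γ] {h : Heis F U W}
    {ρ : Representation F Γ U} {φ : Γ →* MulAut W} (hn : Nat.card W ≤ n + 1) (hG : IsPGroup 2 Γ)
    (hc : h.IsCompat ρ φ) {i : ℕ} {x : Γ} (hx : x ∈ dS ⊤ (i + 2)) (hxW : ∀ w, φ x w = w⁻¹)
    (hchain : chain ρ (dS ⊤) (i + 1) (LinearMap.range (ρ x - 1)) = ⊥) {t : Γ}
    (ht : φ t * φ t = 1) (ht1 : φ t ≠ 1) (htx : φ t ≠ φ x)
    (hconj : ∀ g, φ g * φ t * (φ g)⁻¹ = φ t ∨ φ g * φ t * (φ g)⁻¹ = φ t * φ x) {τ : Γ}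
    (hτ : φ τ * φ t = φ t * φ x * φ τ) : False := by
  haveI : Fact (Nat.Prime 2) := ⟨Nat.prime_two⟩
  have h2 : φ t ^ 2 = 1 := by rw [pow_two, ht]
  have hxc : ∀ f, Commute f (φ x) := commute_of_inverts hxW
  have hxx : φ x * φ x = 1 := mul_self_of_inverts hxW
  have hW1 : fixG (φ (t * x)) = invG (φ t) := fixG_mul_of_inverts hxW t
  have hswap1 : ∀ w ∈ invG (φ t), φ τ w ∈ fixG (φ t) := fun w hw => by
    have h1 := DFunLike.congr_fun hτ w
    rw [MulAut.mul_apply, MulAut.mul_apply, MulAut.mul_apply, mem_invG.1 hw, map_inv, hxW, map_inv,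
      inv_inj] at h1
    exact h1.symm
  have hswap2 : ∀ w ∈ fixG (φ t), φ τ w ∈ invG (φ t) := fun w hw => by
    have h1 := DFunLike.congr_fun hτ w
    rw [MulAut.mul_apply, MulAut.mul_apply, MulAut.mul_apply, mem_fixG.1 hw, hxW, map_inv] at h1
    exact mem_invG.2 (inv_eq_iff_eq_inv.1 h1.symm)
  have hcardeq : Nat.card (invG (φ t)) = Nat.card (fixG (φ t)) := by
    refine le_antisymm
      (Nat.card_le_card_of_injective (fun w : invG (φ t) => (⟨φ τ w, hswap1 w w.2⟩ : fixG (φ t)))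
        fun a b e => Subtype.ext ((φ τ).injective (congrArg Subtype.val e)))
      (Nat.card_le_card_of_injective (fun w : fixG (φ t) => (⟨φ τ w, hswap2 w w.2⟩ : invG (φ t)))
        fun a b e => Subtype.ext ((φ τ).injective (congrArg Subtype.val e)))
  haveI : Nontrivial (invG (φ t)) := by
    rw [Subgroup.nontrivial_iff_ne_bot]
    intro e
    refine ht1 (MulEquiv.ext fun w => ?_)
    obtain ⟨a, ha, b, hb, rfl⟩ := h.form.exists_decomp_top h2 w
    rw [e, Subgroup.mem_bot] at ha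
    rw [ha, one_mul, mem_fixG.1 hb]
    rfl
  have hlt : invG (φ t) ≠ ⊤ := fun e => htx (MulEquiv.ext fun w => by
    rw [mem_invG.1 (e ▸ Subgroup.mem_top w : w ∈ invG (φ t)), hxW])
  have hcard : Nat.card (invG (φ t)) ≤ n := by
    have : Nat.card (invG (φ t)) < Nat.card W :=
      lt_of_le_of_ne (Nat.le_of_dvd Nat.card_pos (invG (φ t)).card_subgroup_dvd_card)
        fun e => hlt (Subgroup.eq_top_of_card_eq _ e)
    omega
  -- the derived subgroup fixes `t`
  set H := dS (⊤ : Subgroup Γ) 1 with hH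
  have hHC : ∀ g ∈ H, Commute (φ g) (φ t) := by
    let e : Subgroup Γ :=
      { carrier := {g | Commute (φ g) (φ t)}
        one_mem' := by show Commute (φ 1) (φ t); rw [map_one]; exact Commute.one_left _
        mul_mem' := fun {a b} ha hb => by
          show Commute (φ (a * b)) (φ t); rw [map_mul]; exact Commute.mul_left ha hb
        inv_mem' := fun {a} ha => by
          show Commute (φ a⁻¹) (φ t); rw [map_inv]; exact Commute.inv_left ha }
    suffices H ≤ e from fun g hg => this hg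
    rw [hH]
    show ⁅(⊤ : Subgroup Γ), ⊤⁆ ≤ e
    rw [Subgroup.commutator_le]
    intro a _ b _
    have key : ∀ c, ∃ z, Commute z (φ t) ∧ (∀ f, Commute f z) ∧
        φ c * φ t = φ t * z * φ c ∧ φ c⁻¹ * φ t = φ t * z⁻¹ * φ c⁻¹ := by
      intro c
      have hrev : ∀ {z : MulAut W}, (∀ f, Commute f z) → φ c * φ t = φ t * z * φ c →
          φ c⁻¹ * φ t = φ t * z⁻¹ * φ c⁻¹ := by
        intro z hz hcz
        rw [map_inv, inv_mul_eq_iff_eq_mul, ← mul_assoc, eq_mul_inv_iff_mul_eq, ← mul_assoc, hcz,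
          mul_assoc (φ t * z), ((hz (φ c)).inv_right).eq, ← mul_assoc, mul_inv_cancel_right]
      rcases hconj c with e' | e'
      · refine ⟨1, Commute.one_left _, fun f => Commute.one_right _, ?_, hrev (fun f => Commute.one_right _) ?_⟩
        all_goals rw [mul_one]; exact mul_inv_eq_iff_eq_mul.1 e'
      · exact ⟨φ x, (hxc _).symm, hxc, mul_inv_eq_iff_eq_mul.1 e', hrev hxc (mul_inv_eq_iff_eq_mul.1 e')⟩
    obtain ⟨z, -, hz, ea, ea'⟩ := key a
    obtain ⟨z', -, hz', eb, eb'⟩ := key b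
    show Commute (φ ⁅a, b⁆) (φ t)
    rw [commutatorElement_def, map_mul, map_mul, map_mul]
    show φ a * φ b * φ a⁻¹ * φ b⁻¹ * φ t = φ t * (φ a * φ b * φ a⁻¹ * φ b⁻¹)
    calc φ a * φ b * φ a⁻¹ * φ b⁻¹ * φ t
        = φ a * φ b * φ a⁻¹ * (φ b⁻¹ * φ t) := by group
      _ = φ a * φ b * (φ a⁻¹ * φ t) * z'⁻¹ * φ b⁻¹ := by rw [eb']; group
      _ = φ a * (φ b * φ t) * z⁻¹ * φ a⁻¹ * z'⁻¹ * φ b⁻¹ := by rw [ea']; group
      _ = (φ a * φ t) * z' * φ b * z⁻¹ * φ a⁻¹ * z'⁻¹ * φ b⁻¹ := by rw [eb]; group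
      _ = φ t * (z * φ a * z') * φ b * (z⁻¹ * φ a⁻¹ * z'⁻¹) * φ b⁻¹ := by rw [ea]; group
      _ = φ t * (φ a * φ b * φ a⁻¹ * φ b⁻¹) := by
        have e1 : z * φ a * z' = φ a * (z * z') := by rw [← (hz _).eq, mul_assoc]
        have hzz : ∀ f, Commute f (z * z') := fun f => (hz f).mul_right (hz' f)
        have e2 : z⁻¹ * φ a⁻¹ * z'⁻¹ = φ a⁻¹ * (z * z')⁻¹ := by
          rw [← ((hz _).inv_right).eq, mul_assoc, mul_inv_rev, ((hz' z).inv_left.inv_right).eq]
        rw [e1, e2]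
        calc φ t * (φ a * (z * z')) * φ b * (φ a⁻¹ * (z * z')⁻¹) * φ b⁻¹
            = φ t * φ a * ((z * z') * (φ b * φ a⁻¹)) * (z * z')⁻¹ * φ b⁻¹ := by group
          _ = _ := by rw [← (hzz _).eq]; group
  have hHCx : ∀ g ∈ H, Commute (φ g) (φ (t * x)) := fun g hg => by
    rw [map_mul]; exact (hHC g hg).mul_right (hxc _)
  have hs : ∀ g ∈ H, ∀ w ∈ invG (φ t), φ g w ∈ invG (φ t) := fun g hg w hw => by
    have h1 := DFunLike.congr_fun (hHC g hg).eq w
    rw [MulAut.mul_apply, MulAut.mul_apply, mem_invG.1 hw, map_inv] at h1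
    exact h1.symm
  have hM := (Mod.of_heis hc).restrict (invG (φ t)) H
    (h.form.nondegOn_invG (Heis.compat_isom hc t) h2) hs
  -- the two nilpotent operators
  set a := ρ t - 1 with ha
  set b := ρ (t * x) - 1 with hb
  have hT : ρ t * ρ t = 1 := by
    rw [← map_mul]
    exact rho_one_of_phi hc hG (by rw [map_mul, ht])
  have hTX : ρ (t * x) * ρ (t * x) = 1 := by
    rw [← map_mul]
    exact rho_one_of_phi hc hG (by
      rw [map_mul, map_mul, (hxc (φ t)).symm.mul_mul_mul_comm, ht, hxx, one_mul])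
  have hbb : b * b = 0 := by rw [hb, end_sub_one_sq, hTX, sub_self]
  have hXdec : ρ x - 1 = a + b + a * b := by
    have e2 : (ρ t - 1) + (ρ t * ρ x - 1) + (ρ t - 1) * (ρ t * ρ x - 1) =
        ρ t * ρ t * ρ x - 1 := by noncomm_ring
    rw [ha, hb, map_mul, e2, hT, one_mul]
  have hτa : ∀ u, ρ τ (a u) = b (ρ τ u) := fun u => by
    have e1 : ρ τ * a = b * ρ τ := by
      rw [ha, hb, mul_sub, sub_mul, mul_one, one_mul, ← map_mul, ← map_mul,
        rho_congr hc hG (show φ (τ * t) = φ (t * x * τ) by rw [map_mul, map_mul, map_mul, hτ])]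
    exact LinearMap.congr_fun e1 u
  let R := LinearMap.range b
  have hRπ : ∀ w : invG (φ t), ∀ u ∈ R, h.π (w : W) u ∈ R := by
    rintro w _ ⟨v, rfl⟩
    refine ⟨h.π (w : W) v, LinearMap.congr_fun (pi_commute_of_fixed hc hG ?_).eq v⟩
    exact mem_fixG.1 (hW1.symm ▸ w.2)
  have hbcomm : ∀ g ∈ H, Commute (ρ g) b := fun g hg =>
    (rho_commute hc hG (hHCx g hg)).sub_right (Commute.one_right _)
  have hRρ : ∀ g : H, ∀ u ∈ R, (ρ.comp H.subtype) g u ∈ R := by
    rintro g _ ⟨v, rfl⟩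
    exact ⟨ρ (g : Γ) v, (LinearMap.congr_fun (hbcomm g g.2).eq v).symm⟩
  let Z := (LinearMap.ker b).map R.mkQ
  have hZπ : ∀ w : invG (φ t), ∀ u ∈ Z, piQuot (fun w : invG (φ t) => h.π (w : W)) R hRπ w u ∈ Z := by
    rintro w _ ⟨v, hv, rfl⟩
    refine ⟨h.π (w : W) v, ?_, rfl⟩
    show b (h.π (w : W) v) = 0
    rw [← End.mul_apply, (pi_commute_of_fixed hc hG (mem_fixG.1 (hW1.symm ▸ w.2))).eq,
      End.mul_apply, hv, map_zero]
  have hZρ : ∀ g : H, ∀ u ∈ Z, repQuot (ρ.comp H.subtype) R hRρ g u ∈ Z := by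
    rintro g _ ⟨v, hv, rfl⟩
    refine ⟨ρ (g : Γ) v, ?_, rfl⟩
    show b (ρ (g : Γ) v) = 0
    rw [← End.mul_apply, ← (hbcomm g g.2).eq, End.mul_apply, hv, map_zero]
  have hM' := (hM.quot R hRπ hRρ).sub Z hZπ hZρ
  haveI : Nontrivial Z := by
    rw [Submodule.nontrivial_iff_ne_bot]
    intro e
    change (LinearMap.ker b).map R.mkQ = ⊥ at e
    rw [← le_bot_iff, Submodule.map_le_iff_le_comap, Submodule.comap_bot, Submodule.ker_mkQ] at e
    have h3 := LinearMap.finrank_range_add_finrank_ker b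
    rw [le_antisymm e (show R ≤ LinearMap.ker b from LinearMap.range_le_ker_iff.2 hbb)] at h3
    have h4 := h.odd_finrank
    rw [← h3] at h4
    exact Nat.not_even_iff_odd.2 h4 ⟨_, rfl⟩
  have hmap : ∀ l, (dS (⊤ : Subgroup H) l).map H.subtype = dS ⊤ (l + 1) := fun l => by
    rw [map_dS, ← MonoidHom.range_eq_map, Subgroup.range_subtype, hH, dS_add, add_comm]
  obtain ⟨x', hx', rfl⟩ : x ∈ (dS (⊤ : Subgroup H) (i + 1)).map H.subtype := by
    rw [hmap]
    exact hx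
  have hres := IH.step hM' hcard (hG.to_subgroup H) hx' (fun w => Subtype.ext (hxW w)) ?_
  · obtain ⟨rfl, h91⟩ := hres
    refine pair_false hc hG hx hxW (fun g hg g' => ?_) ht hconj h91 (hcardeq ▸ h91)
    refine LinearMap.ext fun u => ?_
    have h1 : (ρ g' - 1) ((ρ (H.subtype x') - 1) u) ∈
        comm ρ (dS ⊤ 0) (LinearMap.range (ρ (H.subtype x') - 1)) :=
      mem_comm ρ (Subgroup.mem_top g') ⟨u, rfl⟩
    have h3 : (ρ g - 1) ((ρ g' - 1) ((ρ (H.subtype x') - 1) u)) ∈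
        chain ρ (dS ⊤) (0 + 1) (LinearMap.range (ρ (H.subtype x') - 1)) := mem_comm ρ hg h1
    rw [hchain, Submodule.mem_bot] at h3
    exact h3
  refine Submodule.map_injective_of_injective Z.injective_subtype ?_
  rw [Submodule.map_bot, chain_map_id _ (repQuot (ρ.comp H.subtype) R hRρ) Z.subtype
    (fun g v => rfl), eq_bot_iff]
  have h1 := chain_map ρ (repQuot (ρ.comp H.subtype) R hRρ) H.subtype R.mkQ
    (fun g v => rfl) i (dS (⊤ : Subgroup H))
    (comm ρ (dS ⊤ 0) (LinearMap.range (ρ (H.subtype x') - 1)))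
  rw [funext hmap] at h1
  have h3 : chain ρ (fun l => dS ⊤ (l + 1)) i
      (comm ρ (dS ⊤ 0) (LinearMap.range (ρ (H.subtype x') - 1))) = ⊥ := hchain
  rw [h3, Submodule.map_bot] at h1
  rw [h1]
  refine chain_mono _ _ _ ?_
  rintro _ ⟨_, ⟨⟨_, v, hv, rfl⟩, rfl⟩, rfl⟩
  have hbv : b v = 0 := hv
  have hXv : (ρ (H.subtype x') - 1) v = a v := by
    rw [hXdec]
    simp only [LinearMap.add_apply, End.mul_apply, hbv, map_zero, add_zero]
  show R.mkQ (ρ (x' : Γ) v) - R.mkQ v ∈ _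
  rw [← map_sub]
  refine ⟨-((ρ τ - 1) (a v)), Submodule.neg_mem _ ?_, ?_⟩
  · exact mem_comm ρ (Subgroup.mem_top τ) (hXv ▸ ⟨v, rfl⟩)
  · have e2 : ρ (x' : Γ) v - v = a v := hXv
    rw [e2, Submodule.mkQ_apply, Submodule.mkQ_apply, Submodule.Quotient.eq]
    show -((ρ τ (a v)) - a v) - a v ∈ R
    rw [neg_sub, sub_sub_cancel_left, hτa]
    exact R.neg_mem ⟨_, rfl⟩

theorem derCore (n : ℕ) : DerCore.{uF, uU, uW, uG} F n := by
  induction n with
  | zero =>
    intro U _ _ _ _ W _ _ _ Γ _ _ h ρ φ hn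
    exact absurd hn (not_le.2 Nat.card_pos)
  | succ n IH =>
    intro U _ _ _ _ W _ _ _ Γ _ _ h ρ φ hn hG hc j x hx hxW hchain
    haveI : Fact (Nat.Prime 2) := ⟨Nat.prime_two⟩
    rcases j with _ | i
    · refine ⟨rfl, card_nine_of_ann hc hG hx hxW fun g => LinearMap.ext fun u => ?_⟩
      have h1 : (ρ g - 1) ((ρ x - 1) u) ∈ chain ρ (dS ⊤) 0 (LinearMap.range (ρ x - 1)) :=
        mem_comm ρ (Subgroup.mem_top g) ⟨u, rfl⟩
      rwa [hchain, Submodule.mem_bot] at h1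
    · exfalso
      have hxx : φ x * φ x = 1 := mul_self_of_inverts hxW
      have hx1 : φ x ≠ 1 := fun e => by
        obtain ⟨w, hw⟩ := exists_ne (1 : W)
        have h1 := hxW w
        rw [e, MulAut.one_apply] at h1
        exact hw (h.form.eq_one_of_inv_eq h1.symm)
      have hder : ⁅commutator φ.range, commutator φ.range⁆ ≠ ⊥ := by
        intro e
        have h1 : φ.rangeRestrict x ∈ (dS (⊤ : Subgroup Γ) 2).map φ.rangeRestrict :=
          ⟨x, dS_antitone ⊤ (by omega) hx, rfl⟩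
        rw [map_dS, Subgroup.map_top_of_surjective _ φ.rangeRestrict_surjective] at h1
        rw [commutator_def] at e
        have h2 : φ.rangeRestrict x ∈ (⊥ : Subgroup φ.range) := e ▸ h1
        exact hx1 (congrArg Subtype.val (Subgroup.mem_bot.1 h2))
      obtain ⟨⟨-, t, rfl⟩, ht, ht1, htx, hconj⟩ :=
        exists_moved_involution (hG.of_surjective φ.rangeRestrict φ.rangeRestrict_surjective) hder
          (x := φ.rangeRestrict x)
          (Subgroup.mem_center_iff.2 fun g => Subtype.ext (commute_of_inverts hxW (g : MulAut W)).eq)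
          (Subtype.ext hxx)
      replace ht : φ t * φ t = 1 := congrArg Subtype.val ht
      replace ht1 : φ t ≠ 1 := fun e => ht1 (Subtype.ext e)
      replace htx : φ t ≠ φ x := fun e => htx (Subtype.ext e)
      replace hconj : ∀ g, φ g * φ t * (φ g)⁻¹ = φ t ∨ φ g * φ t * (φ g)⁻¹ = φ t * φ x :=
        fun g => (hconj (φ.rangeRestrict g)).imp (congrArg Subtype.val) (congrArg Subtype.val)
      by_cases hcen : ∀ g, Commute (φ g) (φ t)
      · exact absurd (derCore_central IH hn hG hc hx hxW hchain ht ht1 htx hcen) (by omega)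
      · push Not at hcen
        obtain ⟨τ, hτ⟩ := hcen
        refine derCore_moved IH hn hG hc hx hxW hchain ht ht1 htx hconj (τ := τ) ?_
        rcases hconj τ with e | e
        · exact absurd (mul_inv_eq_iff_eq_mul.1 e) hτ
        · exact mul_inv_eq_iff_eq_mul.1 e

end Core

/-! ### The statement -/

section Statement

variable {F : Type uF} [Field F] [IsAlgClosed F] [CharP F 2] {U : Type uU} [AddCommGroup U]
  [Module F U] [FiniteDimensional F U] [Nontrivial U] {W : Type uW} [CommGroup W] [Finite W]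
  {Γ : Type uG} [Group Γ] [Finite Γ] {h : Heis F U W} {ρ : Representation F Γ U}
  {φ : Γ →* MulAut W}

/-- A central involution of the image of `dS ⊤ k` inverts nine elements. -/
theorem central_nine (hc : h.IsCompat ρ φ) (hG : IsPGroup 2 Γ) {k : ℕ} (hk : 1 ≤ k)
    (hann : chain ρ (dS ⊤) k ⊤ = ⊥) {z : Γ} (hz : z ∈ dS ⊤ k) (hz2 : φ z * φ z = 1)
    (hz1 : φ z ≠ 1) (hcen : ∀ g, Commute (φ g) (φ z)) : Nat.card (invG (φ z)) = 9 := by
  obtain ⟨j, rfl⟩ : ∃ j, k = j + 1 := ⟨k - 1, by omega⟩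
  have h2 : φ z ^ 2 = 1 := by rw [pow_two, hz2]
  have hchain := chain_sub_one_eq_bot ρ hann hz fun g => rho_commute hc hG (hcen g).symm
  have hs : ∀ g ∈ (⊤ : Subgroup Γ), ∀ w ∈ invG (φ z), φ g w ∈ invG (φ z) := fun g _ w hw => by
    have h1 := DFunLike.congr_fun (hcen g).eq w
    rw [MulAut.mul_apply, MulAut.mul_apply, mem_invG.1 hw, map_inv] at h1
    exact h1.symm
  haveI : Nontrivial (invG (φ z)) := by
    rw [Subgroup.nontrivial_iff_ne_bot]
    intro e
    refine hz1 (MulEquiv.ext fun w => ?_)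
    obtain ⟨a, ha, b, hb, rfl⟩ := h.form.exists_decomp_top h2 w
    rw [e, Subgroup.mem_bot] at ha
    rw [ha, one_mul, mem_fixG.1 hb]
    rfl
  have hM := (Mod.of_heis hc).restrict (invG (φ z)) ⊤
    (h.form.nondegOn_invG (Heis.compat_isom hc z) h2) hs
  have hmap : ∀ i, (dS (⊤ : Subgroup (⊤ : Subgroup Γ)) i).map (⊤ : Subgroup Γ).subtype
      = dS ⊤ i := fun i => by
    rw [map_dS, ← MonoidHom.range_eq_map, Subgroup.range_subtype]
  obtain ⟨z', hz', rfl⟩ : z ∈ (dS (⊤ : Subgroup (⊤ : Subgroup Γ)) (j + 1)).map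
      (⊤ : Subgroup Γ).subtype := by
    rw [hmap]
    exact hz
  refine ((derCore (Nat.card (invG (φ ((⊤ : Subgroup Γ).subtype z'))))).step hM le_rfl
    (hG.to_subgroup ⊤) hz' (fun w => Subtype.ext (mem_invG.1 w.2)) ?_).2
  have h1 := chain_map ρ (ρ.comp (⊤ : Subgroup Γ).subtype) (⊤ : Subgroup Γ).subtype LinearMap.id
    (fun _ _ => rfl) j (dS (⊤ : Subgroup (⊤ : Subgroup Γ)))
    (LinearMap.range (ρ ((⊤ : Subgroup Γ).subtype z') - 1))
  rw [funext hmap, Submodule.map_id, Submodule.map_id, hchain] at h1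
  exact h1.symm

/-- The statement for a group equal to its `2`-group. -/
theorem der_local_top (hc : h.IsCompat ρ φ) (hG : IsPGroup 2 Γ) {k : ℕ} (hk : 1 ≤ k)
    (hann : chain ρ (dS ⊤) k ⊤ = ⊥) {x : Γ} (hx : x ∈ dS ⊤ k) (hx1 : φ x ≠ 1) :
    φ x ^ 2 = 1 ∧ Nat.card (invG (φ x)) = 9 ∧ ∀ y ∈ dS ⊤ k, φ y = 1 ∨ φ y = φ x := by
  haveI : Fact (Nat.Prime 2) := ⟨Nat.prime_two⟩
  have hGr : IsPGroup 2 φ.range := hG.of_surjective φ.rangeRestrict φ.rangeRestrict_surjective
  haveI hDn : (dS (⊤ : Subgroup Γ) k).Normal := dS_normal k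
  haveI : ((dS (⊤ : Subgroup Γ) k).map φ.rangeRestrict).Normal :=
    hDn.map _ φ.rangeRestrict_surjective
  -- a central involution of the image
  obtain ⟨z, hzD, hz2, hz1, hzc⟩ :
      ∃ z ∈ dS (⊤ : Subgroup Γ) k, φ z * φ z = 1 ∧ φ z ≠ 1 ∧ ∀ g, Commute (φ g) (φ z) := by
    have hne : (dS (⊤ : Subgroup Γ) k).map φ.rangeRestrict ≠ ⊥ := fun e => by
      have h1 : φ.rangeRestrict x ∈ (⊥ : Subgroup φ.range) :=
        e ▸ Subgroup.mem_map_of_mem φ.rangeRestrict hx
      exact hx1 (congrArg Subtype.val (Subgroup.mem_bot.1 h1))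
    obtain ⟨⟨s, ⟨s', hs', e'⟩, hsc⟩, hs1⟩ := Subgroup.ne_bot_iff_exists_ne_one.1
      (CfsgLib.PGroups.inf_center_ne_bot hGr hne)
    obtain ⟨i, hi2, hi1⟩ := exists_involution hGr (show s ≠ 1 from fun e => hs1 (Subtype.ext e))
    subst e'
    refine ⟨s' ^ i, pow_mem hs' i, ?_, ?_, fun g => ?_⟩
    · rw [map_pow]; exact congrArg Subtype.val hi2
    · rw [map_pow]; exact fun e => hi1 (Subtype.ext e)
    · rw [map_pow]
      exact Commute.pow_right
        (congrArg Subtype.val (Subgroup.mem_center_iff.1 hsc (φ.rangeRestrict g))) i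
  have h9 := central_nine hc hG hk hann hzD hz2 hz1 hzc
  suffices hall : ∀ y ∈ dS (⊤ : Subgroup Γ) k, φ y = 1 ∨ φ y = φ z by
    have e := (hall x hx).resolve_left hx1
    exact ⟨by rw [e, pow_two, hz2], by rw [e]; exact h9,
      fun y hy => (hall y hy).imp_right fun e' => e'.trans e.symm⟩
  by_contra hne
  push Not at hne
  obtain ⟨y₀, hy₀, hy₀1, hy₀z⟩ := hne
  have hW1 : ∀ g, ∀ w ∈ invG (φ z), φ g w ∈ invG (φ z) := fun g w hw => by
    have h1 := DFunLike.congr_fun (hzc g).eq w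
    rw [MulAut.mul_apply, MulAut.mul_apply, mem_invG.1 hw, map_inv] at h1
    exact h1.symm
  have h2 : φ z ^ 2 = 1 := by rw [pow_two, hz2]
  -- every commutator is `1` or `-1` on the plane
  have hpm : ∀ g ∈ dS (⊤ : Subgroup Γ) k, PM φ (invG (φ z)) g := by
    let Φ1 := h.form.sub (invG (φ z)) (h.form.nondegOn_invG (Heis.compat_isom hc z) h2)
    have hsq : ∀ g, PM φ (invG (φ z)) (g * g) := by
      intro g
      let f := autOn φ (invG (φ z)) ⊤ (fun g _ => hW1 g) ⟨g, Subgroup.mem_top g⟩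
      obtain ⟨n, hn⟩ := hG g
      have hf : f ∈ Φ1.isom := fun v w => Heis.compat_isom hc g v w
      rcases sq_eq_pm_of_card_nine Φ1 h9 hf (n := n) (by
        rw [← map_pow, show (⟨g, Subgroup.mem_top g⟩ : (⊤ : Subgroup Γ)) ^ 2 ^ n = 1 from
          Subtype.ext hn, map_one]) with e | e
      · exact Or.inl fun w hw => by
          rw [map_mul, MulAut.mul_apply]
          exact congrArg Subtype.val (DFunLike.congr_fun e (⟨w, hw⟩ : invG (φ z)))
      · exact Or.inr fun w hw => by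
          rw [map_mul, MulAut.mul_apply]
          exact congrArg Subtype.val (e ⟨w, hw⟩)
    intro g hg
    refine mem_pmOn.1 ((show dS (⊤ : Subgroup Γ) k ≤ pmOn φ (invG (φ z)) from
      (dS_antitone ⊤ hk).trans ?_) hg)
    show ⁅(⊤ : Subgroup Γ), ⊤⁆ ≤ _
    rw [Subgroup.commutator_le]
    intro a _ b _
    rw [show ⁅a, b⁆ = a * a * ((a⁻¹ * b) * (a⁻¹ * b)) * (b⁻¹ * b⁻¹) by
      rw [commutatorElement_def]; group]
    exact mul_mem (mul_mem (hsq a) (hsq _)) (hsq _)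
  -- an element outside `⟨z⟩` which is central modulo `⟨z⟩`
  obtain ⟨y, hyD, hy1, hy2, hyc⟩ : ∃ y ∈ dS (⊤ : Subgroup Γ) k, (φ y ≠ 1 ∧ φ y ≠ φ z) ∧
      (φ y * φ y = 1 ∨ φ y * φ y = φ z) ∧
      ∀ g, φ g * φ y * (φ g)⁻¹ = φ y ∨ φ g * φ y * (φ g)⁻¹ = φ y * φ z := by
    set Zr := Subgroup.zpowers (φ.rangeRestrict z) with hZr
    have hmem : ∀ {c : φ.range}, c ∈ Zr → c = 1 ∨ c = φ.rangeRestrict z := fun {c} hc' =>
      eq_one_or_self_of_mem_zpowers (Subtype.ext hz2) hc'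
    haveI : Zr.Normal := ⟨fun c hc' g => by
      obtain ⟨_, b, rfl⟩ := g
      have hcomm : Commute (φ.rangeRestrict b) c := by
        rcases hmem hc' with e | e <;> rw [e]
        exacts [Commute.one_right _, Subtype.ext (hzc b).eq]
      show φ.rangeRestrict b * c * (φ.rangeRestrict b)⁻¹ ∈ Zr
      rw [hcomm.eq, mul_inv_cancel_right]
      exact hc'⟩
    set π := QuotientGroup.mk' Zr
    haveI : (((dS (⊤ : Subgroup Γ) k).map φ.rangeRestrict).map π).Normal :=
      Subgroup.Normal.map inferInstance π (QuotientGroup.mk'_surjective _)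
    have hne' : ((dS (⊤ : Subgroup Γ) k).map φ.rangeRestrict).map π ≠ ⊥ := by
      rw [Ne, Subgroup.map_eq_bot_iff, QuotientGroup.ker_mk']
      intro hle
      rcases hmem (hle (Subgroup.mem_map_of_mem _ hy₀)) with e | e
      exacts [hy₀1 (congrArg Subtype.val e), hy₀z (congrArg Subtype.val e)]
    obtain ⟨⟨s, ⟨_, ⟨s', hs', rfl⟩, rfl⟩, hsc⟩, hs1⟩ := Subgroup.ne_bot_iff_exists_ne_one.1
      (CfsgLib.PGroups.inf_center_ne_bot (hGr.to_quotient Zr) hne')
    obtain ⟨i, hi2, hi1⟩ := exists_involution (hGr.to_quotient Zr)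
      (show π (φ.rangeRestrict s') ≠ 1 from fun e => hs1 (Subtype.ext e))
    rw [← map_pow π, ← map_pow φ.rangeRestrict] at hi1 hi2
    have hcc : π (φ.rangeRestrict (s' ^ i)) ∈ Subgroup.center (φ.range ⧸ Zr) := by
      rw [map_pow, map_pow]; exact pow_mem hsc i
    refine ⟨s' ^ i, pow_mem hs' i, ⟨fun e => hi1 ?_, fun e => hi1 ?_⟩, ?_, fun g => ?_⟩
    · rw [show φ.rangeRestrict (s' ^ i) = 1 from Subtype.ext e, map_one]
    · rw [show φ.rangeRestrict (s' ^ i) = φ.rangeRestrict z from Subtype.ext e]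
      exact (QuotientGroup.eq_one_iff _).2 (Subgroup.mem_zpowers _)
    · rw [← map_mul π] at hi2
      exact (hmem ((QuotientGroup.eq_one_iff _).1 hi2)).imp (congrArg Subtype.val)
        (congrArg Subtype.val)
    · have h1 : (φ.rangeRestrict (s' ^ i))⁻¹ *
          (φ.rangeRestrict g * φ.rangeRestrict (s' ^ i) * (φ.rangeRestrict g)⁻¹) ∈ Zr := by
        refine QuotientGroup.eq.1 ?_
        show π _ = π _
        rw [map_mul π, map_mul π, Subgroup.mem_center_iff.1 hcc (π (φ.rangeRestrict g)), map_inv π,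
          mul_inv_cancel_right]
      rcases hmem h1 with e | e
      · exact Or.inl (congrArg Subtype.val (inv_mul_eq_one.1 e).symm)
      · exact Or.inr (congrArg Subtype.val (inv_mul_eq_iff_eq_mul.1 e))
  -- make it trivial on the plane
  obtain ⟨v, hvD, hv1, hvW, hvc, hv2⟩ : ∃ v ∈ dS (⊤ : Subgroup Γ) k, (φ v ≠ 1 ∧ φ v ≠ φ z) ∧
      (∀ w ∈ invG (φ z), φ v w = w) ∧
      (∀ g, φ g * φ v * (φ g)⁻¹ = φ v ∨ φ g * φ v * (φ g)⁻¹ = φ v * φ z) ∧
      (φ v * φ v = 1 ∨ φ v * φ v = φ z) := by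
    rcases hpm y hyD with e | e
    · exact ⟨y, hyD, hy1, e, hyc, hy2⟩
    refine ⟨y * z, mul_mem hyD hzD, ⟨?_, ?_⟩, fun w hw => ?_, fun g => ?_, ?_⟩
    · rw [map_mul]
      exact fun e' => hy1.2 (by rw [eq_inv_of_mul_eq_one_left e', inv_eq_of_mul_eq_one_right hz2])
    · rw [map_mul]
      exact fun e' => hy1.1 (by rwa [mul_eq_right] at e')
    · rw [map_mul, MulAut.mul_apply, mem_invG.1 hw, map_inv, e w hw, inv_inv]
    · rw [map_mul]
      have e1 : φ g * (φ y * φ z) * (φ g)⁻¹ = φ g * φ y * (φ g)⁻¹ * φ z := by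
        rw [← mul_assoc, mul_assoc (φ g * φ y), ((hzc g).inv_left).symm.eq, ← mul_assoc]
      rw [e1]
      exact (hyc g).imp (fun e' => by rw [e']) (fun e' => by rw [e'])
    · rw [map_mul, (hzc (φ.range.subtype (φ.rangeRestrict y) |> fun _ => y)).symm.mul_mul_mul_comm,
        hz2, mul_one]
      exact hy2
  have hWz : Nontrivial (invG (φ z)) :=
    Finite.one_lt_card_iff_nontrivial.1 (by rw [h9]; norm_num)
  obtain ⟨⟨w₀, hw₀⟩, hw₀1⟩ := exists_ne (1 : invG (φ z))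
  have hnotz : ∀ {f : MulAut W}, (∀ w ∈ invG (φ z), f w = w) → f ≠ φ z := fun {f} hf e => by
    have h1 := hf w₀ hw₀
    rw [e, mem_invG.1 hw₀] at h1
    exact hw₀1 (Subtype.ext (h.form.eq_one_of_inv_eq h1))
  have hvv : φ v * φ v = 1 := hv2.resolve_right
    (hnotz fun w hw => by rw [MulAut.mul_apply, hvW w hw, hvW w hw])
  have hvcen : ∀ g, Commute (φ g) (φ v) := by
    intro g
    refine mul_inv_eq_iff_eq_mul.1 ((hvc g).resolve_right fun e => ?_)
    have h1 := DFunLike.congr_fun e w₀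
    rw [MulAut.mul_apply, MulAut.mul_apply, MulAut.mul_apply, mem_invG.1 hw₀, map_inv (φ v),
      hvW w₀ hw₀, hvW _ (by rw [← map_inv]; exact hW1 _ w₀ hw₀), MulAut.apply_inv_self] at h1
    exact hw₀1 (Subtype.ext (h.form.eq_one_of_inv_eq h1.symm))
  have hvz2 : φ (v * z) * φ (v * z) = 1 := by
    rw [map_mul, (hvcen z).mul_mul_mul_comm, hvv, hz2, one_mul]
  have hvz1 : φ (v * z) ≠ 1 := fun e => by
    rw [map_mul] at e
    exact hv1.2 (by rw [eq_inv_of_mul_eq_one_left e, inv_eq_of_mul_eq_one_right hz2])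
  have h9' := central_nine hc hG hk hann (mul_mem hvD hzD) hvz2 hvz1
    (fun g => by rw [map_mul]; exact (hvcen g).mul_right (hzc g))
  have hle : invG (φ z) ≤ invG (φ (v * z)) := fun w hw => mem_invG.2 (by
    rw [map_mul, MulAut.mul_apply, mem_invG.1 hw, map_inv, hvW w hw])
  have heq : invG (φ z) = invG (φ (v * z)) :=
    Subgroup.eq_of_le_of_card_ge hle (by rw [h9, h9'])
  refine hv1.1 (MulEquiv.ext fun w => ?_)
  obtain ⟨p, hp, q, hq, rfl⟩ := h.form.exists_decomp_top (by rw [pow_two, hvv]) w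
  have hp1 : p = 1 := by
    have hzp : φ z p * p⁻¹ = 1 := by
      obtain ⟨c, hcW, d, hd, hcd⟩ := h.form.exists_decomp_top h2 p
      have hc1 : c = 1 := by
        have e1 : φ v (φ z p * p⁻¹) = (φ z p * p⁻¹)⁻¹ := by
          rw [map_mul, map_inv, mem_invG.1 hp, ← MulAut.mul_apply, (hvcen z).symm.eq,
            MulAut.mul_apply, mem_invG.1 hp, map_inv, mul_inv]
        have e2 : φ z p * p⁻¹ = (c * c)⁻¹ := by
          rw [← hcd, map_mul, mem_invG.1 hcW, mem_fixG.1 hd, mul_inv, mul_inv,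
            mul_mul_mul_comm, mul_inv_cancel, mul_one]
        rw [e2, map_inv, map_mul, hvW c hcW, inv_inv] at e1
        exact h.form.eq_one_of_mul_self (h.form.eq_one_of_inv_eq e1)
      rw [← hcd, hc1, one_mul, mem_fixG.1 hd, mul_inv_cancel]
    have hpz : φ z p = p := mul_inv_eq_one.1 hzp
    have hmem : p ∈ invG (φ z) := heq ▸ mem_invG.2 (by
      rw [map_mul, MulAut.mul_apply, hpz, mem_invG.1 hp])
    exact h.form.eq_one_of_inv_eq ((mem_invG.1 hmem).symm.trans hpz)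
  rw [hp1, one_mul, mem_fixG.1 hq]
  rfl

/-- The derived subgroup at the length of an annihilated chain acts through a group of order at
most two, whose involution inverts nine elements. -/
theorem der_local (h : Heis F U W) (hc : h.IsCompat ρ φ) (P : Subgroup Γ) (hP : IsPGroup 2 P)
    (k : ℕ) (hk : 1 ≤ k) (hann : chain ρ (dS P) k ⊤ = ⊥) (x : Γ) (hx : x ∈ dS P k)
    (hx1 : φ x ≠ 1) :
    φ x ^ 2 = 1 ∧ Nat.card ↥(invG (φ x)) = 9 ∧ ∀ y ∈ dS P k, φ y = 1 ∨ φ y = φ x := by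
  have hmap : ∀ i, (dS (⊤ : Subgroup P) i).map P.subtype = dS P i := fun i => by
    rw [map_dS, ← MonoidHom.range_eq_map, Subgroup.range_subtype]
  have hc' : h.IsCompat (ρ.comp P.subtype) (φ.comp P.subtype) := fun g w => hc (g : Γ) w
  have hann' : chain (ρ.comp P.subtype) (dS (⊤ : Subgroup P)) k ⊤ = ⊥ := by
    have h1 := chain_map ρ (ρ.comp P.subtype) P.subtype LinearMap.id (fun _ _ => rfl) k
      (dS (⊤ : Subgroup P)) ⊤
    rw [funext hmap, Submodule.map_id, Submodule.map_id, hann] at h1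
    exact h1.symm
  rw [← hmap] at hx
  obtain ⟨x', hx', rfl⟩ := hx
  obtain ⟨h2, h9, hy⟩ := der_local_top hc' hP hk hann' hx' hx1
  refine ⟨h2, h9, fun y hy' => ?_⟩
  rw [← hmap] at hy'
  obtain ⟨y', hy', rfl⟩ := hy'
  exact hy y' hy'

end Statement

end CfsgLib.TwoLength
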