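import Cfsg.Agent.Lib.TwoLength.Defs
import Cfsg.Prelude.Def_Local

/-!
# The linear forms of the 2-length theorems
-/

set_option autoImplicit false

namespace CfsgLib.TwoLength

open Cfsg

universe u

/-- The linear form of the bound by the derived length. -/
def DerGoal (d : ℕ) : Prop :=
  ∀ (H : Type u) [Group H] [Finite H], IsPSolvable 2 H → pCore 2 H = ⊥ →
    ∀ (V : Type u) [AddCommGroup V] [Module (ZMod 2) V] [Finite V]
      (ρ : Representation (ZMod 2) H V), Function.Injective ρ →
      ∀ S : Sylow 2 H, dS (S : Subgroup H) (d + 1) = ⊥ →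
        chain ρ (dS (S : Subgroup H)) d ⊤ = ⊥ → PLengthLE 2 d H

/-- The linear form of the bound by the exponent. -/
def ExpGoal (e : ℕ) : Prop :=
  ∀ (H : Type u) [Group H] [Finite H], IsPSolvable 2 H → pCore 2 H = ⊥ →
    ∀ (V : Type u) [AddCommGroup V] [Module (ZMod 2) V] [Finite V]
      (ρ : Representation (ZMod 2) H V), Function.Injective ρ →
      ∀ S : Sylow 2 H, (∀ g ∈ (S : Subgroup H), (ρ g - 1) ^ (2 ^ (e + 1) - 1) = 0) →
        PLengthLE 2 e H

end CfsgLib.TwoLength
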