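import Cfsg.Agent.Lib.TwoLength.ModChain
import Cfsg.Agent.Lib.TwoLength.Goals
import Cfsg.Agent.Lib.PLocal.PSolvable

/-!
# The linear forms applied to irreducible sections
-/

set_option autoImplicit false
set_option linter.style.haveILetI false

namespace CfsgLib.TwoLength

open Cfsg

universe u

variable {H : Type u} [Group H] [Finite H] {V : Type u} [AddCommGroup V] [Module (ZMod 2) V]
  [Finite V] {ρ : Representation (ZMod 2) H V} {U₁ U₂ : Submodule (ZMod 2) V}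

/-- The derived form on an irreducible section. -/
theorem section_derGoal {d : ℕ} (ih : DerGoal.{u} d) (hsol : IsPSolvable 2 H) (S : Sylow 2 H)
    (hlt : U₁ < U₂) (h1 : ∀ g, ∀ v ∈ U₁, ρ g v ∈ U₁) (h2 : ∀ g, ∀ v ∈ U₂, ρ g v ∈ U₂)
    (hmin : ∀ U : Submodule (ZMod 2) V, (∀ g, ∀ v ∈ U, ρ g v ∈ U) → U₁ ≤ U → U ≤ U₂ →
      U = U₁ ∨ U = U₂)
    (hchain : chain ρ (dS (S : Subgroup H)) d U₂ ≤ U₁)
    (htriv : comm ρ (dS (S : Subgroup H) (d + 1)) U₂ ≤ U₁) :
    ∃ K : Subgroup H, ∃ _ : K.Normal, PLengthLE 2 d (H ⧸ K) ∧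
      ∀ g ∈ K, ∀ v ∈ U₂, ρ g v - v ∈ U₁ := by
  haveI : Fact (Nat.Prime 2) := ⟨Nat.prime_two⟩
  obtain ⟨K, hK, τ, hinj, hKv, hτ, hN⟩ := exists_section ρ hlt h1 h2 hmin
  haveI := hK
  refine ⟨K, hK, ?_, hKv⟩
  haveI : Finite (U₂ ⧸ U₁.submoduleOf U₂) :=
    Finite.of_surjective _ (Submodule.Quotient.mk_surjective _)
  let r : Representation (ZMod 2) H U₂ :=
    { toFun := fun g => (ρ g).restrict (h2 g)
      map_one' := LinearMap.ext fun v => Subtype.ext (by simp)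
      map_mul' := fun a b => LinearMap.ext fun v => Subtype.ext (by simp) }
  have e1 := map_chain_dS (ρ := r) (τ := ρ) U₂.subtype (MonoidHom.id H) (fun g v => rfl)
    (S : Subgroup H) d ⊤
  rw [Submodule.map_top, Submodule.range_subtype, Subgroup.map_id] at e1
  have e2 := map_chain_dS (ρ := r) (τ := τ) (U₁.submoduleOf U₂).mkQ (QuotientGroup.mk' K)
    (fun g v => (hτ g v v.2).symm) (S : Subgroup H) d ⊤
  rw [Submodule.map_top, Submodule.range_mkQ] at e2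
  refine ih (H ⧸ K) (CfsgLib.PLocal.isPSolvable_quotient hsol K)
    (hN _ inferInstance (CfsgLib.Base.isPGroup_pCore 2 _)) _ τ hinj
    (S.mapSurjective (QuotientGroup.mk'_surjective K)) ?_ ?_
  · show dS ((S : Subgroup H).map (QuotientGroup.mk' K)) (d + 1) = ⊥
    rw [← map_dS, Subgroup.map_eq_bot_iff]
    intro g hg
    rw [QuotientGroup.ker_mk']
    refine (QuotientGroup.eq_one_iff g).1 (hinj ?_)
    rw [map_one]
    refine Submodule.linearMap_qext _ (LinearMap.ext fun v => ?_)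
    show τ (QuotientGroup.mk g) (Submodule.Quotient.mk v) = Submodule.Quotient.mk v
    rw [hτ g v v.2]
    exact (Submodule.Quotient.eq _).2 (htriv (mem_comm ρ hg v.2))
  · show chain τ (dS ((S : Subgroup H).map (QuotientGroup.mk' K))) d ⊤ = ⊥
    rw [← e2, Submodule.eq_bot_iff]
    rintro _ ⟨v, hv, rfl⟩
    exact (Submodule.Quotient.mk_eq_zero _).2 (hchain (e1 ▸ ⟨v, hv, rfl⟩))

/-- The exponent form on an irreducible section. -/
theorem section_expGoal {e : ℕ} (ih : ExpGoal.{u} e) (hsol : IsPSolvable 2 H) (S : Sylow 2 H)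
    (hlt : U₁ < U₂) (h1 : ∀ g, ∀ v ∈ U₁, ρ g v ∈ U₁) (h2 : ∀ g, ∀ v ∈ U₂, ρ g v ∈ U₂)
    (hmin : ∀ U : Submodule (ZMod 2) V, (∀ g, ∀ v ∈ U, ρ g v ∈ U) → U₁ ≤ U → U ≤ U₂ →
      U = U₁ ∨ U = U₂)
    (hexp : ∀ g ∈ (S : Subgroup H), ∀ v ∈ U₂,
      ((ρ g - 1 : Module.End (ZMod 2) V) ^ (2 ^ (e + 1) - 1)) v ∈ U₁) :
    ∃ K : Subgroup H, ∃ _ : K.Normal, PLengthLE 2 e (H ⧸ K) ∧
      ∀ g ∈ K, ∀ v ∈ U₂, ρ g v - v ∈ U₁ := by
  haveI : Fact (Nat.Prime 2) := ⟨Nat.prime_two⟩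
  obtain ⟨K, hK, τ, hinj, hKv, hτ, hN⟩ := exists_section ρ hlt h1 h2 hmin
  haveI := hK
  refine ⟨K, hK, ?_, hKv⟩
  haveI : Finite (U₂ ⧸ U₁.submoduleOf U₂) :=
    Finite.of_surjective _ (Submodule.Quotient.mk_surjective _)
  refine ih (H ⧸ K) (CfsgLib.PLocal.isPSolvable_quotient hsol K)
    (hN _ inferInstance (CfsgLib.Base.isPGroup_pCore 2 _)) _ τ hinj
    (S.mapSurjective (QuotientGroup.mk'_surjective K)) ?_
  rintro _ ⟨g, hg, rfl⟩
  refine Submodule.linearMap_qext _ (LinearMap.ext fun v => ?_)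
  have key : ∀ (n : ℕ) (v : U₂), ∃ hm : ((ρ g - 1 : Module.End (ZMod 2) V) ^ n) (v : V) ∈ U₂,
      ((τ (QuotientGroup.mk' K g) - 1) ^ n) (Submodule.Quotient.mk v) =
        Submodule.Quotient.mk (⟨_, hm⟩ : U₂) := by
    intro n
    induction n with
    | zero => intro v; exact ⟨v.2, rfl⟩
    | succ n ih =>
      intro v
      obtain ⟨hm, he⟩ := ih v
      refine ⟨?_, ?_⟩
      · rw [pow_succ', Module.End.mul_apply]
        exact U₂.sub_mem (h2 g _ hm) hm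
      · rw [pow_succ', Module.End.mul_apply, he, LinearMap.sub_apply, Module.End.one_apply,
          QuotientGroup.mk'_apply, hτ g _ hm, ← Submodule.Quotient.mk_sub]
        congr 1
        refine Subtype.ext ?_
        show _ = (_ : V)
        simp only [pow_succ', Module.End.mul_apply]
        rfl
  obtain ⟨hm, he⟩ := key _ v
  refine he.trans ((Submodule.Quotient.mk_eq_zero _).2 ?_)
  exact hexp g hg v v.2

end CfsgLib.TwoLength
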