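import Cfsg.Agent.Lib.TwoLength.ModChain
import Cfsg.Agent.Lib.PLocal.HallHigmanFrattini
import Cfsg.Agent.Lib.PLocal.PLength

/-!
# The top layer

For a 2-soluble group `H` with a Sylow 2-subgroup `S`, `U = O_{2',2}(H)` and `T = S ∩ U`: the module
`T / Φ(T)` (taken in `H / O_{2'}(H)`), on which `H / U` acts faithfully.
-/

set_option autoImplicit false
set_option linter.style.haveILetI false
set_option linter.unusedSectionVars false

namespace CfsgLib.TwoLength

open Cfsg CfsgLib.Base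
open scoped commutatorElement

universe u

variable {H : Type u} [Group H] [Finite H]

/-- `O_{2',2}(H)`. -/
abbrev uTwo (H : Type u) [Group H] : Subgroup H := (upperPSeries 2 H 2).1

/-- `S ∩ O_{2',2}(H)`. -/
abbrev tTwo (S : Sylow 2 H) : Subgroup H := (S : Subgroup H) ⊓ uTwo H

theorem conj_mem_uTwo (g : H) {t : H} (ht : t ∈ uTwo H) : g * t * g⁻¹ ∈ uTwo H :=
  (upperPSeries_normal 2 H 2).conj_mem t ht g

theorem conj_mem_tTwo {S : Sylow 2 H} {g : H} (hg : g ∈ (S : Subgroup H)) {t : H}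
    (ht : t ∈ tTwo S) : g * t * g⁻¹ ∈ tTwo S :=
  ⟨(S : Subgroup H).mul_mem ((S : Subgroup H).mul_mem hg ht.1) ((S : Subgroup H).inv_mem hg),
    conj_mem_uTwo g ht.2⟩

/-- The module of the top layer. -/
structure Layer (S : Sylow 2 H) where
  V : Type u
  [addCommGroup : AddCommGroup V]
  [module : Module (ZMod 2) V]
  [finite : Finite V]
  ρ : Representation (ZMod 2) (H ⧸ uTwo H) V
  injective : Function.Injective ρ
  proj : ↥(tTwo S) → V
  proj_mul : ∀ a b, proj (a * b) = proj a + proj b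
  proj_surjective : Function.Surjective proj
  conj : ∀ (g : H) (t t' : ↥(tTwo S)), (t' : H) = g * t * g⁻¹ →
    proj t' = ρ (QuotientGroup.mk g) (proj t)

attribute [instance] Layer.addCommGroup Layer.module Layer.finite

theorem exists_layer (hsol : IsPSolvable 2 H) (S : Sylow 2 H) : Nonempty (Layer S) := by
  haveI : Fact (Nat.Prime 2) := ⟨Nat.prime_two⟩
  set N := (upperPSeries 2 H (2 * 0 + 1)).1 with hN
  have hO : pPrimeCore 2 (H ⧸ N) = ⊥ := by
    have e : N = (pPrimeCore 2 (H ⧸ (upperPSeries 2 H (2 * 0)).1)).comap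
        (QuotientGroup.mk' (upperPSeries 2 H (2 * 0)).1) := CfsgLib.PLocal.upperPSeries_odd 2 H 0
    have e2 : N.map (QuotientGroup.mk' (upperPSeries 2 H (2 * 0)).1) = pPrimeCore 2 _ := by
      rw [e, CfsgLib.Base.map_mk'_comap]
    rw [← map_pPrimeCore_mulEquiv
      (QuotientGroup.quotientQuotientEquivQuotient (upperPSeries 2 H (2 * 0)).1 N
        (CfsgLib.PLocal.upperPSeries_monotone 2 H (Nat.le_succ (2 * 0)))),
      ← map_pPrimeCore_mulEquiv (QuotientGroup.quotientMulEquivOfEq e2.symm),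
      pPrimeCore_quotient_pPrimeCore, Subgroup.map_bot, Subgroup.map_bot]
  obtain ⟨D⟩ := CfsgLib.PLocal.FrattiniRep.exists_data
    (CfsgLib.PLocal.isPSolvable_quotient hsol N) hO
  have hU : uTwo H = (pCore 2 (H ⧸ N)).comap (QuotientGroup.mk' N) :=
    CfsgLib.PLocal.upperPSeries_even 2 H 0
  have hmem : ∀ t : ↥(tTwo S), QuotientGroup.mk' N (t : H) ∈ pCore 2 (H ⧸ N) := fun t => by
    have := t.2.2
    rw [hU] at this
    exact this
  let f : H →* (D.V →ₗ[ZMod 2] D.V) :=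
    LinearEquiv.automorphismGroup.toLinearMapMonoidHom.comp (D.ρ.comp (QuotientGroup.mk' N))
  have hker : f.ker = uTwo H := by
    ext g
    rw [hU, Subgroup.mem_comap, ← D.ker, MonoidHom.mem_ker, MonoidHom.mem_ker]
    exact ⟨fun h => LinearEquiv.toLinearMap_injective h, fun h => by
      show ((D.ρ (QuotientGroup.mk' N g)) : D.V →ₗ[ZMod 2] D.V) = 1
      rw [h]; rfl⟩
  refine ⟨{
    V := D.V
    ρ := QuotientGroup.lift (uTwo H) f hker.ge
    injective := ?_
    proj := fun t => D.proj ⟨QuotientGroup.mk' N (t : H), hmem t⟩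
    proj_mul := fun a b => by
      rw [← D.proj_mul]
      congr 1
    proj_surjective := ?_
    conj := fun g t t' h => by
      show D.proj _ = D.ρ (QuotientGroup.mk' N g) (D.proj _)
      refine D.conj _ _ _ ?_
      show QuotientGroup.mk' N (t' : H) = _
      rw [h, map_mul, map_mul, map_inv] }⟩
  · rw [← MonoidHom.ker_eq_bot_iff, eq_bot_iff]
    intro a ha
    obtain ⟨g, rfl⟩ := QuotientGroup.mk_surjective a
    exact (QuotientGroup.eq_one_iff g).2 (hker ▸ (ha : g ∈ f.ker))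
  · intro v
    obtain ⟨r, rfl⟩ := D.proj_surjective v
    obtain ⟨s, hs, hsr⟩ := pCore_le_sylow (S.mapSurjective (QuotientGroup.mk'_surjective N)) r.2
    have hsU : s ∈ uTwo H := by rw [hU, Subgroup.mem_comap, hsr]; exact r.2
    exact ⟨⟨s, hs, hsU⟩, congrArg D.proj (Subtype.ext hsr)⟩

theorem pCore_quotient_uTwo : pCore 2 (H ⧸ uTwo H) = ⊥ := by
  obtain ⟨e, -⟩ := CfsgLib.PLocal.exists_equiv_quotient_comap
    (QuotientGroup.mk'_surjective (upperPSeries 2 H (2 * 0 + 1)).1)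
    (pCore 2 (H ⧸ (upperPSeries 2 H (2 * 0 + 1)).1))
  have hU : uTwo H = (pCore 2 (H ⧸ (upperPSeries 2 H (2 * 0 + 1)).1)).comap
      (QuotientGroup.mk' (upperPSeries 2 H (2 * 0 + 1)).1) :=
    CfsgLib.PLocal.upperPSeries_even 2 H 0
  rw [← map_pCore_mulEquiv ((QuotientGroup.quotientMulEquivOfEq hU).trans e).symm,
    pCore_quotient_pCore, Subgroup.map_bot]

/-- Frattini: `H = N_H(T) U`. -/
theorem exists_normalizer_mul (S : Sylow 2 H) (h : H) :
    ∃ l ∈ Subgroup.normalizer (tTwo S : Set H), ∃ n ∈ uTwo H, h = l * n := by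
  haveI : Fact (Nat.Prime 2) := ⟨Nat.prime_two⟩
  haveI : (uTwo H).Normal := upperPSeries_normal 2 H 2
  obtain ⟨P, hP⟩ : ∃ P : Sylow 2 (uTwo H),
      (P : Subgroup (uTwo H)).map (uTwo H).subtype = tTwo S := by
    have hT : IsPGroup 2 ((tTwo S).subgroupOf (uTwo H)) :=
      (S.2.to_le inf_le_left).comap_of_injective (uTwo H).subtype (uTwo H).subtype_injective
    have hindex : ¬ 2 ∣ ((tTwo S).subgroupOf (uTwo H)).index := by
      show ¬ 2 ∣ (tTwo S).relIndex (uTwo H)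
      rw [Subgroup.inf_relIndex_right]
      intro hd
      have e1 := Subgroup.relIndex_mul_index (inf_le_left : (S : Subgroup H) ⊓ uTwo H ≤ (S : Subgroup H))
      have e2 := Subgroup.relIndex_mul_index (inf_le_right : (S : Subgroup H) ⊓ uTwo H ≤ uTwo H)
      rw [Subgroup.inf_relIndex_left] at e1
      rw [Subgroup.inf_relIndex_right] at e2
      obtain ⟨j, hj⟩ := Subgroup.relIndex_dvd_index_of_normal (uTwo H) (S : Subgroup H)
      refine S.not_dvd_index (hd.trans ⟨j, ?_⟩)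
      have h3 : (uTwo H).relIndex (S : Subgroup H) ≠ 0 := by
        intro h0
        rw [h0, zero_mul] at e1
        exact Subgroup.index_ne_zero_of_finite e1.symm
      refine mul_left_cancel₀ h3 (e1.trans (e2.symm.trans ?_))
      rw [hj]; ring
    exact ⟨hT.toSylow hindex, by
      rw [IsPGroup.toSylow_coe, Subgroup.subgroupOf_map_subtype, inf_eq_left.2 inf_le_right]⟩
  have h1 : h ∈ Subgroup.normalizer (tTwo S : Set H) ⊔ uTwo H := by
    have h2 := Sylow.normalizer_sup_eq_top P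
    rw [hP] at h2
    rw [h2]
    exact Subgroup.mem_top h
  rw [Subgroup.mem_sup_of_normal_right] at h1
  obtain ⟨l, hl, n, hn, rfl⟩ := h1
  exact ⟨l, hl, n, hn, rfl⟩

namespace Layer

variable {S : Sylow 2 H} (L : Layer S)

theorem proj_one : L.proj 1 = 0 := by
  have h := L.proj_mul 1 1
  rw [mul_one] at h
  simpa using h

/-- The span of the images of the elements of `T` in `B`. -/
def tSpan (B : Subgroup H) : Submodule (ZMod 2) L.V :=
  Submodule.span (ZMod 2) (L.proj '' {t | (t : H) ∈ B})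

theorem mem_tSpan {B : Subgroup H} {t : ↥(tTwo S)} (ht : (t : H) ∈ B) : L.proj t ∈ L.tSpan B :=
  Submodule.subset_span ⟨t, ht, rfl⟩

theorem tSpan_mono {B B' : Subgroup H} (h : B ⊓ tTwo S ≤ B') : L.tSpan B ≤ L.tSpan B' :=
  Submodule.span_mono (Set.image_mono fun t ht => h ⟨ht, t.2⟩)

theorem tSpan_top {B : Subgroup H} (h : tTwo S ≤ B) : L.tSpan B = ⊤ := by
  refine eq_top_iff.2 fun v _ => ?_
  obtain ⟨t, rfl⟩ := L.proj_surjective v
  exact L.mem_tSpan (h t.2)

theorem tSpan_eq_bot {B : Subgroup H} (h : B ⊓ tTwo S = ⊥) : L.tSpan B = ⊥ := by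
  refine Submodule.span_eq_bot.2 ?_
  rintro _ ⟨t, ht, rfl⟩
  have h1 : (t : H) = 1 := Subgroup.mem_bot.1 (h ▸ (⟨ht, t.2⟩ : (t : H) ∈ B ⊓ tTwo S))
  rw [show t = 1 from Subtype.ext h1, L.proj_one]

/-- A subgroup of `T` normalised by `N_H(T)` spans a submodule. -/
theorem tSpan_invariant {B : Subgroup H}
    (hB : ∀ l ∈ Subgroup.normalizer (tTwo S : Set H), ∀ b ∈ B ⊓ tTwo S, l * b * l⁻¹ ∈ B)
    (q : H ⧸ uTwo H) : ∀ v ∈ L.tSpan B, L.ρ q v ∈ L.tSpan B := by
  obtain ⟨h, rfl⟩ := QuotientGroup.mk_surjective q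
  obtain ⟨l, hl, n, hn, rfl⟩ := exists_normalizer_mul S h
  haveI : (uTwo H).Normal := upperPSeries_normal 2 H 2
  have key : L.tSpan B ≤ (L.tSpan B).comap (L.ρ (QuotientGroup.mk (l * n))) := by
    rw [tSpan, Submodule.span_le]
    rintro _ ⟨t, ht, rfl⟩
    show L.ρ (QuotientGroup.mk (l * n)) (L.proj t) ∈ L.tSpan B
    rw [QuotientGroup.mk_mul_of_mem l hn,
      ← L.conj l t ⟨l * t * l⁻¹, (Subgroup.mem_normalizer_iff.1 hl t).1 t.2⟩ rfl]
    exact L.mem_tSpan (hB l hl t ⟨ht, t.2⟩)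
  exact fun v hv => key hv

/-- The image of `S` in `H / U`. -/
noncomputable def sylow (S : Sylow 2 H) : Sylow 2 (H ⧸ uTwo H) :=
  S.mapSurjective (QuotientGroup.mk'_surjective (uTwo H))

theorem coe_sylow (S : Sylow 2 H) :
    (sylow S : Subgroup (H ⧸ uTwo H)) = (S : Subgroup H).map (QuotientGroup.mk' (uTwo H)) := rfl

theorem comm_tSpan_le {B C : Subgroup H} (D : Subgroup H) (hD : D ≤ (S : Subgroup H))
    (h : ∀ g ∈ D, ∀ t ∈ B ⊓ tTwo S, ⁅g, t⁆ ∈ C) :
    comm L.ρ (D.map (QuotientGroup.mk' (uTwo H))) (L.tSpan B) ≤ L.tSpan C := by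
  rw [comm_le_iff]
  rintro _ ⟨g, hg, rfl⟩
  have key : L.tSpan B ≤ (L.tSpan C).comap (L.ρ (QuotientGroup.mk g) - 1) := by
    rw [tSpan, Submodule.span_le]
    rintro _ ⟨t, ht, rfl⟩
    show L.ρ (QuotientGroup.mk g) (L.proj t) - L.proj t ∈ L.tSpan C
    set t' : ↥(tTwo S) := ⟨g * t * g⁻¹, conj_mem_tTwo (hD hg) t.2⟩ with ht'
    rw [← L.conj g t t' rfl]
    have h1 : L.proj t' = L.proj (t' * t⁻¹) + L.proj t := by rw [← L.proj_mul, inv_mul_cancel_right]
    rw [h1, add_sub_cancel_right]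
    refine L.mem_tSpan ?_
    show g * t * g⁻¹ * (t : H)⁻¹ ∈ C
    exact h g hg t ⟨ht, t.2⟩
  exact fun v hv => key hv

/-- `[T, S, S', …]` lies in the derived series. -/
theorem chain_le (B : Subgroup H) (hB : ∀ g ∈ (S : Subgroup H), ∀ b ∈ B ⊓ tTwo S, g * b * g⁻¹ ∈ B)
    (n : ℕ) : chain L.ρ (dS (sylow S : Subgroup (H ⧸ uTwo H))) n (L.tSpan B) ≤
      L.tSpan (B ⊓ dS (S : Subgroup H) (n + 1)) := by
  rw [coe_sylow]
  induction n with
  | zero =>
    refine L.comm_tSpan_le (S : Subgroup H) le_rfl fun g hg t ht => ⟨?_, ?_⟩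
    · rw [commutatorElement_def]
      exact B.mul_mem (hB g hg t ht) (B.inv_mem ht.1)
    · exact Subgroup.commutator_mem_commutator hg ht.2.1
  | succ n ih =>
    rw [chain_succ_eq, ← map_dS]
    refine (comm_mono L.ρ ih).trans (L.comm_tSpan_le (dS (S : Subgroup H) (n + 1))
      ((dS_antitone _ (Nat.zero_le _))) fun g hg t ht => ⟨?_, ?_⟩)
    · rw [commutatorElement_def]
      exact B.mul_mem (hB g ((dS_antitone (S : Subgroup H) (Nat.zero_le (n + 1))) hg) t
        ⟨ht.1.1, ht.2⟩) (B.inv_mem ht.1.1)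
    · exact Subgroup.commutator_mem_commutator hg ht.1.2

theorem sum_pow_apply {g : H} (hg : g ∈ (S : Subgroup H)) (t : ↥(tTwo S)) (n : ℕ) :
    ∃ c : ↥(tTwo S), ((t : H) * g) ^ n = (c : H) * g ^ n ∧
      L.proj c = (∑ i ∈ Finset.range n, (L.ρ (QuotientGroup.mk g)) ^ i) (L.proj t) := by
  induction n with
  | zero => exact ⟨1, by simp, by simp [proj_one]⟩
  | succ n ih =>
    obtain ⟨c, hc, hpc⟩ := ih
    set c' : ↥(tTwo S) := ⟨g * c * g⁻¹, conj_mem_tTwo hg c.2⟩ with hc'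
    refine ⟨t * c', ?_, ?_⟩
    · rw [pow_succ', hc, Subgroup.coe_mul, hc', pow_succ']
      group
    · rw [L.proj_mul, L.conj g c c' rfl, hpc, geom_sum_succ, LinearMap.add_apply, add_comm]
      rfl

/-- The norms `(t g) ^ 2 ^ n (g ^ 2 ^ n)⁻¹` give the values of `(g - 1) ^ (2 ^ n - 1)`. -/
theorem pow_sub_one_apply {g : H} (hg : g ∈ (S : Subgroup H)) (t : ↥(tTwo S)) (n : ℕ) :
    ∃ c : ↥(tTwo S), (c : H) = ((t : H) * g) ^ 2 ^ n * (g ^ 2 ^ n)⁻¹ ∧
      L.proj c = ((L.ρ (QuotientGroup.mk g) - 1 : Module.End (ZMod 2) L.V) ^ (2 ^ n - 1)) (L.proj t) := by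
  haveI : Fact (Nat.Prime 2) := ⟨Nat.prime_two⟩
  obtain ⟨c, hc, hpc⟩ := L.sum_pow_apply hg t (2 ^ n)
  refine ⟨c, by rw [hc, mul_inv_cancel_right], ?_⟩
  rw [hpc, CfsgLib.PLocal.FrattiniRep.geom_sum_pow]

end Layer

end CfsgLib.TwoLength
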