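import Cfsg.Agent.Lib.TwoLength.Goals
import Cfsg.Agent.Lib.TwoLength.Layer

/-!
# From the linear forms to groups

The top layer of a 2-soluble group turns the bounds of the linear forms into the bounds of the
2-length by the derived length and by the exponent of a Sylow 2-subgroup.
-/

set_option autoImplicit false

namespace CfsgLib.TwoLength

open Cfsg

universe u

theorem map_subtype_derivedSeries {G : Type*} [Group G] (P : Subgroup G) (n : ℕ) :
    (derivedSeries ↥P n).map P.subtype = dS P n := by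
  induction n with
  | zero =>
    rw [derivedSeries_zero, ← MonoidHom.range_eq_map, Subgroup.range_subtype]
    rfl
  | succ n ih =>
    rw [derivedSeries_succ, Subgroup.map_commutator, ih]
    rfl

variable {G : Type u} [Group G] [Finite G]

theorem pLengthLE_zero_of_sylow_eq_bot (S : Sylow 2 G) (h : (S : Subgroup G) = ⊥) :
    PLengthLE 2 0 G := by
  have : Fact (Nat.Prime 2) := ⟨Nat.prime_two⟩
  refine CfsgLib.PLocal.upperPSeries_one_eq_top ((Nat.prime_two.coprime_iff_not_dvd.2 fun hd => ?_).symm)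
  exact S.not_dvd_index (by rwa [h, Subgroup.index_bot])

omit [Finite G] in
theorem pLengthLE_succ {k : ℕ} (h : PLengthLE 2 k (G ⧸ uTwo G)) : PLengthLE 2 (k + 1) G := by
  show (upperPSeries 2 G (2 * (k + 1) + 1)).1 = ⊤
  rw [show 2 * (k + 1) + 1 = (2 * k + 1) + 2 by ring, ← CfsgLib.PLocal.comap_upperPSeries,
    show (upperPSeries 2 (G ⧸ uTwo G) (2 * k + 1)).1 = ⊤ from h, Subgroup.comap_top]

/-- The bound by the derived length, from its linear form. -/
theorem pLengthLE_of_derGoal (h : ∀ d, DerGoal.{u} d) (hG : IsPSolvable 2 G) (d : ℕ)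
    (hd : ∀ P : Sylow 2 G, derivedSeries (P : Subgroup G) d = ⊥) : PLengthLE 2 d G := by
  have : Fact (Nat.Prime 2) := ⟨Nat.prime_two⟩
  obtain ⟨S⟩ := (inferInstance : Nonempty (Sylow 2 G))
  have hdS : dS (S : Subgroup G) d = ⊥ := by
    rw [← map_subtype_derivedSeries, hd S, Subgroup.map_bot]
  cases d with
  | zero => exact pLengthLE_zero_of_sylow_eq_bot S hdS
  | succ d =>
    obtain ⟨L⟩ := exists_layer hG S
    refine pLengthLE_succ (h d (G ⧸ uTwo G) (CfsgLib.PLocal.isPSolvable_quotient hG _)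
      pCore_quotient_uTwo L.V L.ρ L.injective (Layer.sylow S) ?_ ?_)
    · rw [Layer.coe_sylow, ← map_dS, hdS, Subgroup.map_bot]
    · have h1 := L.chain_le ⊤ (fun _ _ _ _ => Subgroup.mem_top _) d
      rw [L.tSpan_top le_top,
        L.tSpan_eq_bot (B := ⊤ ⊓ dS (S : Subgroup G) (d + 1)) (by rw [hdS]; simp)] at h1
      exact le_bot_iff.1 h1

/-- The bound by the exponent, from its linear form. -/
theorem pLengthLE_of_expGoal (h : ∀ e, ExpGoal.{u} e) (hG : IsPSolvable 2 G) (e : ℕ)
    (he : ∀ (P : Sylow 2 G), ∀ x ∈ (P : Subgroup G), x ^ 2 ^ e = 1) : PLengthLE 2 e G := by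
  have : Fact (Nat.Prime 2) := ⟨Nat.prime_two⟩
  obtain ⟨S⟩ := (inferInstance : Nonempty (Sylow 2 G))
  cases e with
  | zero =>
    refine pLengthLE_zero_of_sylow_eq_bot S ((Subgroup.eq_bot_iff_forall _).2 fun x hx => ?_)
    have h1 := he S x hx
    rwa [pow_zero, pow_one] at h1
  | succ e =>
    obtain ⟨L⟩ := exists_layer hG S
    refine pLengthLE_succ (h e (G ⧸ uTwo G) (CfsgLib.PLocal.isPSolvable_quotient hG _)
      pCore_quotient_uTwo L.V L.ρ L.injective (Layer.sylow S) ?_)
    intro q hq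
    rw [Layer.coe_sylow] at hq
    obtain ⟨g, hg, rfl⟩ := hq
    refine LinearMap.ext fun v => ?_
    obtain ⟨t, rfl⟩ := L.proj_surjective v
    obtain ⟨c, hc, hpc⟩ := L.pow_sub_one_apply hg t (e + 1)
    rw [he S _ ((S : Subgroup G).mul_mem t.2.1 hg), he S _ hg, inv_one, mul_one] at hc
    rw [show c = 1 from Subtype.ext hc, L.proj_one] at hpc
    exact hpc.symm

end CfsgLib.TwoLength
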