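import Cfsg.Agent.Lib.TwoLength.DerFacts
import Cfsg.Agent.Lib.TwoLength.SectionStep
import Cfsg.Agent.Lib.TwoLength.Top
import Mathlib.FieldTheory.IsAlgClosed.AlgebraicClosure

/-!
# The linear form of the bound by the derived length
-/

set_option autoImplicit false
set_option linter.style.haveILetI false
set_option linter.unusedSectionVars false

namespace CfsgLib.TwoLength

open Module Cfsg
open scoped commutatorElement

universe u

section Closure

variable {H : Type u} [Group H] [Finite H] {K : Type*} [Field K] [IsAlgClosed K] [CharP K 2]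
  {V : Type*} [AddCommGroup V] [Module K V] [FiniteDimensional K V] (ρ : Representation K H V)
  (S : Sylow 2 H) (d : ℕ)

/-- The closure of the conjugates of `dS S (d + 1) ∩ T` under `N(T)`. -/
def derClosure : Subgroup H :=
  Subgroup.closure {w | ∃ l ∈ Subgroup.normalizer (tTwo S : Set H),
    ∃ x ∈ dS (S : Subgroup H) (d + 1) ⊓ tTwo S, w = l * x * l⁻¹}

theorem derClosure_le_tTwo : derClosure S d ≤ tTwo S := by
  refine (Subgroup.closure_le _).2 ?_
  rintro _ ⟨l, hl, x, hx, rfl⟩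
  exact (Subgroup.mem_normalizer_iff.1 hl x).1 hx.2

theorem derClosure_invariant {l : H} (hl : l ∈ Subgroup.normalizer (tTwo S : Set H)) {a : H}
    (ha : a ∈ derClosure S d) : l * a * l⁻¹ ∈ derClosure S d := by
  have key : derClosure S d ≤ (derClosure S d).comap (MulAut.conj l).toMonoidHom := by
    refine (Subgroup.closure_le _).2 ?_
    rintro _ ⟨m, hm, x, hx, rfl⟩
    refine Subgroup.subset_closure ⟨l * m, mul_mem hl hm, x, hx, ?_⟩
    show l * (m * x * m⁻¹) * l⁻¹ = _
    group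
  exact key ha

theorem inf_le_derClosure : dS (S : Subgroup H) (d + 1) ⊓ tTwo S ≤ derClosure S d :=
  fun x hx => Subgroup.subset_closure ⟨1, one_mem _, x, hx, by group⟩

theorem sylow_le_normalizer_tTwoDer : (S : Subgroup H) ≤ Subgroup.normalizer (tTwo S : Set H) := by
  intro g hg
  rw [Subgroup.mem_normalizer_iff]
  refine fun t => ⟨fun ht => conj_mem_tTwo hg ht, fun ht => ?_⟩
  have h := conj_mem_tTwo ((S : Subgroup H).inv_mem hg) ht
  rwa [inv_inv, show g⁻¹ * (g * t * g⁻¹) * g = t by group] at h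

variable {ρ} (hsol : IsPSolvable 2 H) (hO : pCore 2 H = ⊥) (hρ : Function.Injective ρ)
  (hch : chain ρ (dS (S : Subgroup H)) (d + 1) ⊤ = ⊥)

theorem exists_two_pow {z : H} (hz : z ∈ (S : Subgroup H)) : ∃ k, z ^ 2 ^ k = 1 := by
  obtain ⟨k, hk⟩ := S.2 ⟨z, hz⟩
  exact ⟨k, congrArg Subtype.val hk⟩

include hsol hO hρ hch

theorem derClosure_le_fixWts : derClosure S d ≤ fixWts ρ := by
  refine (Subgroup.closure_le _).2 ?_
  rintro _ ⟨l, _, x, hx, rfl⟩
  exact (smul_of_mem_dS S hch hx.1).conj l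

theorem mul_self_of_mem_dS {x : H} (hx : x ∈ dS (S : Subgroup H) (d + 1)) : x * x = 1 := by
  obtain ⟨k, hk⟩ := exists_two_pow S ((S : Subgroup H).mul_mem
    (dS_antitone (S : Subgroup H) (Nat.zero_le _) hx) (dS_antitone (S : Subgroup H) (Nat.zero_le _) hx))
  have hf := smul_of_mem_dS S hch hx
  refine eq_one_of_wAct hsol hO hρ hk ((fixWts ρ).mul_mem hf hf) fun R hR ψ => ?_
  haveI := hR
  rw [← wMap_eq ψ, wMap_mul ψ (hf R hR ψ) (hf R hR ψ)]
  by_cases hx1 : wMap ψ x = 1
  · rw [hx1, one_mul]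
  · rw [← pow_two, (wMap_dS_shape S hch hx hx1).1]

theorem commute_derClosure {x : H} (hx : x ∈ dS (S : Subgroup H) (d + 1)) {a : H}
    (ha : a ∈ derClosure S d) : Commute x a := by
  have hxS : x ∈ (S : Subgroup H) := dS_antitone (S : Subgroup H) (Nat.zero_le _) hx
  have haS : a ∈ (S : Subgroup H) := (derClosure_le_tTwo S d ha).1
  have hf := smul_of_mem_dS S hch hx
  have hfa : FixesWts ρ a := derClosure_le_fixWts S d hsol hO hρ hch ha
  obtain ⟨k, hk⟩ := exists_two_pow S (show ⁅x, a⁆ ∈ (S : Subgroup H) by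
    rw [commutatorElement_def]
    exact mul_mem (mul_mem (mul_mem hxS haS) (inv_mem hxS)) (inv_mem haS))
  have hfz : FixesWts ρ ⁅x, a⁆ := by
    rw [commutatorElement_def]
    exact (fixWts ρ).mul_mem ((fixWts ρ).mul_mem ((fixWts ρ).mul_mem hf hfa)
      ((fixWts ρ).inv_mem hf)) ((fixWts ρ).inv_mem hfa)
  refine commutatorElement_eq_one_iff_commute.1 (eq_one_of_wAct hsol hO hρ hk hfz fun R hR ψ => ?_)
  haveI := hR
  have hai : a⁻¹ • ψ = ψ := by rw [inv_smul_eq_iff, hfa R hR ψ]
  have hxi : x⁻¹ • ψ = ψ := by rw [inv_smul_eq_iff, hf R hR ψ]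
  rw [← wMap_eq ψ, commutatorElement_def,
    wMap_mul ψ (show (x * a * x⁻¹) • ψ = ψ by rw [mul_smul, mul_smul, hxi, hfa R hR ψ, hf R hR ψ]) hai,
    wMap_conj ψ (hf R hR ψ) (hfa R hR ψ), wMap_inv ψ (hfa R hR ψ),
    (wMap_commute S hch hx haS (hfa R hR ψ)).symm.eq, mul_inv_cancel_right, mul_inv_cancel]

theorem plane_of_mem_derClosure {R : Subgroup H} [hR : Fact (IsOddClassTwo R)] {ψ : Wt ρ R} {x : H}
    (hx : x ∈ dS (S : Subgroup H) (d + 1)) (hx1 : wMap ψ x ≠ 1) {a : H}
    (ha : a ∈ derClosure S d) :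
    (∀ w ∈ invG (wMap ψ x), wMap ψ a w = w) ∨ (∀ w ∈ invG (wMap ψ x), wMap ψ a w = w⁻¹) := by
  have hfixA : ∀ {b : H}, b ∈ derClosure S d → b • ψ = ψ := fun hb =>
    derClosure_le_fixWts S d hsol hO hρ hch hb R hR ψ
  induction ha using Subgroup.closure_induction with
  | mem w hw =>
    obtain ⟨l, hl, y, hy, rfl⟩ := hw
    have hw' : l * y * l⁻¹ ∈ derClosure S d := Subgroup.subset_closure ⟨l, hl, y, hy, rfl⟩
    obtain ⟨h2, h9, -⟩ := wMap_dS_shape S hch hx hx1
    have hc := wMap_commute S hch hx (derClosure_le_tTwo S d hw').1 (hfixA hw')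
    refine (wForm ψ).involution_on_plane (q := 3) Nat.prime_three
      ((wForm ψ).nondegOn_invG (wMap_isom ψ x) h2) (by rw [h9]; rfl) (wMap_isom ψ _) ?_ ?_
    · rw [pow_two, ← wMap_mul ψ (hfixA hw') (hfixA hw'),
        show l * y * l⁻¹ * (l * y * l⁻¹) = l * (y * y) * l⁻¹ by group,
        mul_self_of_mem_dS S d hsol hO hρ hch hy.1]
      rw [mul_one, mul_inv_cancel, wMap_one]
    · intro w hw
      rw [mem_invG] at hw ⊢
      have h1 := DFunLike.congr_fun hc.eq w
      rw [MulAut.mul_apply, MulAut.mul_apply, hw, map_inv] at h1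
      exact h1.symm
  | one =>
    left
    intro w _
    rw [wMap_one]; rfl
  | mul a b ha hb iha ihb =>
    have e : ∀ w, wMap ψ (a * b) w = wMap ψ a (wMap ψ b w) := fun w => by
      rw [wMap_mul ψ (hfixA ha) (hfixA hb)]; rfl
    have hinv : ∀ {w : WSpace ψ}, w ∈ invG (wMap ψ x) → w⁻¹ ∈ invG (wMap ψ x) :=
      fun h => inv_mem h
    rcases iha with ha' | ha' <;> rcases ihb with hb' | hb'
    · exact Or.inl fun w hw => by rw [e, hb' w hw, ha' w hw]
    · exact Or.inr fun w hw => by rw [e, hb' w hw, ha' _ (hinv hw)]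
    · exact Or.inr fun w hw => by rw [e, hb' w hw, ha' w hw]
    · exact Or.inl fun w hw => by rw [e, hb' w hw, ha' _ (hinv hw), inv_inv]
  | inv a ha iha =>
    rw [wMap_inv ψ (hfixA ha)]
    rcases iha with h | h
    · exact Or.inl fun w hw => by
        conv_lhs => rw [← h w hw]
        exact MulAut.inv_apply_self _ _ _
    · exact Or.inr fun w hw => by
        have h1 := h _ (inv_mem hw : w⁻¹ ∈ invG (wMap ψ x))
        rw [inv_inv] at h1
        conv_lhs => rw [← h1]
        exact MulAut.inv_apply_self _ _ _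

/-- `[A ∩ dS S d, dS S d] = 1`. -/
theorem commutator_derClosure {s a : H} (hs : s ∈ dS (S : Subgroup H) d)
    (ha : a ∈ derClosure S d) (had : a ∈ dS (S : Subgroup H) d) : ⁅s, a⁆ = 1 := by
  have hz : ⁅s, a⁆ ∈ dS (S : Subgroup H) (d + 1) := Subgroup.commutator_mem_commutator hs had
  obtain ⟨k, hk⟩ := exists_two_pow S (dS_antitone (S : Subgroup H) (Nat.zero_le _) hz)
  have hfz := smul_of_mem_dS S hch hz
  refine eq_one_of_wAct hsol hO hρ hk hfz fun R hR ψ => ?_
  haveI := hR
  rw [← wMap_eq ψ]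
  by_contra hz1
  obtain ⟨h2, h9, -⟩ := wMap_dS_shape S hch hz hz1
  have hsψ := smul_of_mem_dS_of_ne_one S hch hz hz1 hs
  have haψ : a • ψ = ψ := derClosure_le_fixWts S d hsol hO hρ hch ha R hR ψ
  have hcs := wMap_commute S hch hz (dS_antitone (S : Subgroup H) (Nat.zero_le _) hs) hsψ
  set P := invG (wMap ψ ⁅s, a⁆) with hP
  have hone : ∀ w ∈ P, w = 1 := by
    intro w hw
    refine (wForm ψ).eq_one_of_inv_eq ?_
    rw [← mem_invG.1 hw]
    have hai : a⁻¹ • ψ = ψ := by rw [inv_smul_eq_iff, haψ]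
    have hsi : s⁻¹ • ψ = ψ := by rw [inv_smul_eq_iff, hsψ]
    rw [commutatorElement_def,
      wMap_mul ψ (show (s * a * s⁻¹) • ψ = ψ by rw [mul_smul, mul_smul, hsi, haψ, hsψ]) hai,
      wMap_conj ψ hsψ haψ, wMap_inv ψ haψ]
    simp only [MulAut.mul_apply]
    have hsP : ∀ v ∈ P, (wMap ψ s)⁻¹ v ∈ P := by
      intro v hv
      rw [mem_invG] at hv ⊢
      have h1 := DFunLike.congr_fun hcs.inv_left.eq v
      rw [MulAut.mul_apply, MulAut.mul_apply, hv, map_inv] at h1
      exact h1.symm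
    rcases plane_of_mem_derClosure S d hsol hO hρ hch hz hz1 ha with h | h
    · have h' : ∀ v ∈ P, (wMap ψ a)⁻¹ v = v := fun v hv => by
        conv_lhs => rw [← h v hv]
        exact MulAut.inv_apply_self _ _ _
      rw [h' w hw, h _ (hsP w hw), MulAut.apply_inv_self]
    · have h' : ∀ v ∈ P, (wMap ψ a)⁻¹ v = v⁻¹ := fun v hv => by
        have h1 := h _ (inv_mem hv : v⁻¹ ∈ P)
        rw [inv_inv] at h1
        conv_lhs => rw [← h1]
        exact MulAut.inv_apply_self _ _ _
      rw [h' w hw, h _ (hsP _ (inv_mem hw)), map_inv (wMap ψ s)⁻¹, inv_inv, MulAut.apply_inv_self]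
  have hbot : P = ⊥ := (Subgroup.eq_bot_iff_forall _).2 hone
  rw [hbot, Subgroup.card_bot] at h9
  omega

end Closure

/-- The linear form of the bound by the derived length. -/
theorem derGoal : ∀ d, DerGoal.{u} d := by
  haveI : Fact (Nat.Prime 2) := ⟨Nat.prime_two⟩
  intro d
  induction d with
  | zero =>
    intro H _ _ hsol hO V _ _ _ ρ hρ S _ hch
    refine pLengthLE_zero_of_sylow_eq_bot S ((Subgroup.eq_bot_iff_forall _).2 fun g hg => hρ ?_)
    rw [map_one]
    refine LinearMap.ext fun v => ?_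
    have h1 : ρ g v - v ∈ (⊥ : Submodule (ZMod 2) V) := hch ▸ mem_comm ρ hg (Submodule.mem_top)
    exact sub_eq_zero.1 ((Submodule.mem_bot _).1 h1)
  | succ d ih =>
    intro H _ _ hsol hO V _ _ _ ρ hρ S hdS hch
    haveI : Fintype V := Fintype.ofFinite V
    let K := AlgebraicClosure (ZMod 2)
    haveI : CharP K 2 := charP_of_injective_algebraMap (algebraMap (ZMod 2) K).injective 2
    let ρK := extend ρ K
    have hρK : Function.Injective ρK := extend_injective ρ K hρ
    have hchK : chain ρK (dS (S : Subgroup H)) (d + 1) ⊤ = ⊥ :=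
      chain_extend_eq_bot ρ K _ _ hch
    obtain ⟨L⟩ := exists_layer hsol S
    haveI : (uTwo H).Normal := upperPSeries_normal 2 H 2
    set A := derClosure S d with hA
    have hAS : ∀ g ∈ (S : Subgroup H), ∀ b ∈ A ⊓ tTwo S, g * b * g⁻¹ ∈ A := fun g hg b hb =>
      derClosure_invariant S d (sylow_le_normalizer_tTwoDer S hg) hb.1
    have hinv : ∀ q, ∀ v ∈ L.tSpan A, L.ρ q v ∈ L.tSpan A :=
      L.tSpan_invariant fun l hl b hb => derClosure_invariant S d hl hb.1
    have hS2 : ∀ n, dS (Layer.sylow S : Subgroup (H ⧸ uTwo H)) n =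
        (dS (S : Subgroup H) n).map (QuotientGroup.mk' (uTwo H)) := fun n => by
      rw [Layer.coe_sylow, map_dS]
    -- the lower section
    have hlow : chain L.ρ (dS (Layer.sylow S : Subgroup (H ⧸ uTwo H))) d (L.tSpan A) = ⊥ := by
      have hfin : comm L.ρ (dS (Layer.sylow S : Subgroup (H ⧸ uTwo H)) d)
          (L.tSpan (A ⊓ dS (S : Subgroup H) d)) = ⊥ := by
        rw [hS2, ← le_bot_iff, ← L.tSpan_eq_bot (B := (⊥ : Subgroup H)) (bot_inf_eq _)]
        refine L.comm_tSpan_le _ (dS_antitone _ (Nat.zero_le d)) fun g hg t ht => ?_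
        exact Subgroup.mem_bot.2 (commutator_derClosure S d hsol hO hρK hchK hg ht.1.1 ht.1.2)
      rw [← le_bot_iff, ← hfin]
      rcases d with _ | d'
      · exact comm_mono L.ρ (L.tSpan_mono fun t ht => ⟨ht.1, ht.2.1⟩)
      · rw [chain_succ_eq]
        exact comm_mono L.ρ (L.chain_le A hAS d')
    have hlowX : comm L.ρ (dS (Layer.sylow S : Subgroup (H ⧸ uTwo H)) (d + 1)) (L.tSpan A) = ⊥ := by
      rw [hS2, ← le_bot_iff, ← L.tSpan_eq_bot (B := (⊥ : Subgroup H)) (bot_inf_eq _)]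
      refine L.comm_tSpan_le _ (dS_antitone _ (Nat.zero_le (d + 1))) fun g hg t ht => ?_
      exact Subgroup.mem_bot.2 (commutatorElement_eq_one_iff_commute.2
        (commute_derClosure S d hsol hO hρK hchK hg ht.1))
    -- the upper section
    have hup : chain L.ρ (dS (Layer.sylow S : Subgroup (H ⧸ uTwo H))) d ⊤ ≤ L.tSpan A := by
      have h1 := L.chain_le ⊤ (fun _ _ _ _ => Subgroup.mem_top _) d
      rw [L.tSpan_top le_top] at h1
      exact h1.trans (L.tSpan_mono fun t ht => inf_le_derClosure S d ⟨ht.1.2, ht.2⟩)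
    have hupX : comm L.ρ (dS (Layer.sylow S : Subgroup (H ⧸ uTwo H)) (d + 1)) ⊤ ≤ L.tSpan A := by
      rw [hS2, ← L.tSpan_top (B := ⊤) le_top]
      refine L.comm_tSpan_le _ (dS_antitone _ (Nat.zero_le (d + 1))) fun g hg t ht => ?_
      refine inf_le_derClosure S d ⟨?_, ?_⟩
      · rw [show ⁅g, t⁆ = g * (t * g⁻¹ * t⁻¹) by rw [commutatorElement_def]; group]
        exact mul_mem hg ((Subgroup.mem_normalizer_iff.1 (le_normalizer_dS _ _ ht.2.1) g⁻¹).1
          (inv_mem hg))
      · rw [show ⁅g, t⁆ = g * t * g⁻¹ * t⁻¹ from commutatorElement_def g t]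
        exact (tTwo S).mul_mem (conj_mem_tTwo (dS_antitone (S : Subgroup H) (Nat.zero_le (d + 1)) hg) ht.2)
          ((tTwo S).inv_mem ht.2)
    refine pLengthLE_succ (pLengthLE_of_sections L.ρ (CfsgLib.PLocal.isPSolvable_quotient hsol _)
      pCore_quotient_uTwo L.injective d {L.tSpan A} (fun C hC => ?_) (fun C hC D hD => ?_) ?_)
    · obtain rfl := Set.mem_singleton_iff.1 hC
      exact hinv
    · obtain rfl := Set.mem_singleton_iff.1 hC
      obtain rfl := Set.mem_singleton_iff.1 hD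
      exact Or.inl le_rfl
    · intro U1 U2 hlt h1 h2 hmin hC
      rcases hC _ (Set.mem_singleton _) with h | h
      · refine section_derGoal ih (CfsgLib.PLocal.isPSolvable_quotient hsol _) (Layer.sylow S) hlt h1
          h2 hmin ?_ ?_
        · exact ((chain_mono L.ρ d _ h).trans hlow.le).trans bot_le
        · exact ((comm_mono L.ρ h).trans hlowX.le).trans bot_le
      · refine section_derGoal ih (CfsgLib.PLocal.isPSolvable_quotient hsol _) (Layer.sylow S) hlt h1
          h2 hmin ?_ ?_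
        · exact ((chain_mono L.ρ d _ le_top).trans hup).trans h
        · exact ((comm_mono L.ρ le_top).trans hupX).trans h

end CfsgLib.TwoLength
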