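import Cfsg.Agent.Lib.TwoLength.DerSteps

/-!
# A moved involution with two planes of order nine

An involution that is moved to its product with the central `-1`, both of whose eigenspaces have
order nine, is impossible when the chain has length two.
-/

set_option autoImplicit false
set_option linter.style.haveILetI false

namespace CfsgLib.TwoLength

open Module
open scoped commutatorElement

section PlusMinus

variable {W Γ : Type*} [CommGroup W] [Group Γ]

/-- `g` acts as `1` or as `-1` on `W'`. -/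
def PM (φ : Γ →* MulAut W) (W' : Subgroup W) (g : Γ) : Prop :=
  (∀ w ∈ W', φ g w = w) ∨ (∀ w ∈ W', φ g w = w⁻¹)

theorem PM.mem {φ : Γ →* MulAut W} {W' : Subgroup W} {g : Γ} (h : PM φ W' g) {w : W}
    (hw : w ∈ W') : φ g w ∈ W' := by
  rcases h with e | e <;> rw [e w hw]
  exacts [hw, inv_mem hw]

theorem PM.comm {φ : Γ →* MulAut W} {W' : Subgroup W} {g b : Γ} (h : PM φ W' g)
    (hb : ∀ w ∈ W', φ b w ∈ W') {w : W} (hw : w ∈ W') : φ g (φ b w) = φ b (φ g w) := by
  rcases h with e | e <;> rw [e w hw, e _ (hb w hw)]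
  rw [map_inv]

/-- The elements acting as `1` or `-1` on `W'`. -/
def pmOn (φ : Γ →* MulAut W) (W' : Subgroup W) : Subgroup Γ where
  carrier := {g | PM φ W' g}
  one_mem' := Or.inl fun w _ => by rw [map_one, MulAut.one_apply]
  mul_mem' := by
    intro a b ha hb
    rcases ha with e | e <;> rcases hb with e' | e'
    · exact Or.inl fun w hw => by rw [map_mul, MulAut.mul_apply, e' w hw, e w hw]
    · exact Or.inr fun w hw => by rw [map_mul, MulAut.mul_apply, e' w hw, e _ (inv_mem hw)]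
    · exact Or.inr fun w hw => by rw [map_mul, MulAut.mul_apply, e' w hw, e w hw]
    · exact Or.inl fun w hw => by
        rw [map_mul, MulAut.mul_apply, e' w hw, map_inv, e w hw, inv_inv]
  inv_mem' := by
    intro a ha
    rcases ha with e | e
    · exact Or.inl fun w hw => by
        conv_lhs => rw [← e w hw]
        rw [map_inv, MulAut.inv_apply_self]
    · exact Or.inr fun w hw => by
        conv_lhs => rw [← inv_inv w, ← e w hw]
        rw [map_inv (φ a⁻¹), map_inv, MulAut.inv_apply_self]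

theorem mem_pmOn {φ : Γ →* MulAut W} {W' : Subgroup W} {g : Γ} :
    g ∈ pmOn φ W' ↔ PM φ W' g := Iff.rfl

theorem PM.conj {φ : Γ →* MulAut W} {W₁ W₂ : Subgroup W} {a g : Γ} (h : PM φ W₁ a)
    (hg : ∀ w ∈ W₂, φ g⁻¹ w ∈ W₁) : PM φ W₂ (g * a * g⁻¹) := by
  rcases h with e | e
  · refine Or.inl fun w hw => ?_
    rw [map_mul, map_mul, MulAut.mul_apply, MulAut.mul_apply, e _ (hg w hw), map_inv,
      MulAut.apply_inv_self]
  · refine Or.inr fun w hw => ?_
    rw [map_mul, map_mul, MulAut.mul_apply, MulAut.mul_apply, e _ (hg w hw), map_inv, map_inv,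
      MulAut.apply_inv_self]

end PlusMinus

section Side

variable {F U W Γ : Type*} [Field F] [IsAlgClosed F] [CharP F 2] [AddCommGroup U] [Module F U]
  [FiniteDimensional F U] [Nontrivial U] [CommGroup W] [Finite W] [Group Γ] {h : Heis F U W}
  {ρ : Representation F Γ U} {φ : Γ →* MulAut W}

theorem three_le_invG_of_nine {f : MulAut W} (h9 : Nat.card (fixG f) = 9) : Nontrivial (fixG f) :=
  Finite.one_lt_card_iff_nontrivial.1 (by rw [h9]; norm_num)

/-- The module on `range (ρ s - 1)` of the fixed group of an involution `s`. -/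
theorem side_data (hc : h.IsCompat ρ φ) (hG : IsPGroup 2 Γ) (h81 : finrank F U ≤ 9) {s : Γ}
    (hs : φ s * φ s = 1) (hs1 : φ s ≠ 1) (h9 : Nat.card (fixG (φ s)) = 9)
    (C : Subgroup Γ) (hC : ∀ g ∈ C, Commute (φ g) (φ s))
    (hCW : ∀ g ∈ C, ∀ w ∈ fixG (φ s), φ g w ∈ fixG (φ s))
    (hCZ : ∀ g ∈ C, ∀ z ∈ LinearMap.range (ρ s - 1), ρ g z ∈ LinearMap.range (ρ s - 1)) :
    ∃ hS : Heis F (LinearMap.range (ρ s - 1)) (fixG (φ s)),
      hS.IsCompat (repOn ρ C _ hCZ) (autOn φ (fixG (φ s)) C hCW) ∧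
      finrank F (LinearMap.range (ρ s - 1)) = 3 ∧ Nontrivial (LinearMap.range (ρ s - 1)) := by
  have h2 : φ s ^ 2 = 1 := by rw [pow_two, hs]
  set Z := LinearMap.range (ρ s - 1) with hZdef
  have hZπ : ∀ w : fixG (φ s), ∀ u ∈ Z, h.π (w : W) u ∈ Z := by
    rintro w _ ⟨v, rfl⟩
    exact ⟨h.π (w : W) v,
      LinearMap.congr_fun (pi_commute_of_fixed hc hG (mem_fixG.1 w.2)).eq v⟩
  have hn := h.form.nondegOn_fixG (Heis.compat_isom hc s) h2
  have hM := (((Mod.of_heis hc).restrict (fixG (φ s)) C hn hCW).sub Z hZπ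
    (fun g u hu => hCZ g g.2 u hu))
  haveI hZn : Nontrivial Z := by
    refine Submodule.nontrivial_iff_ne_bot.2 fun e => hs1 (Heis.eq_one_of_rho hc ⟨1, ?_⟩)
    rw [one_smul, ← sub_eq_zero]
    exact LinearMap.range_eq_bot.1 e
  have hle : finrank F Z ≤ 4 := by
    have h1 : Z ≤ LinearMap.ker (ρ s - 1) := by
      rw [hZdef, LinearMap.range_le_ker_iff, ← End.mul_eq_comp, end_sub_one_sq, ← map_mul,
        rho_one_of_phi hc hG (by rw [map_mul, hs]), sub_self]
    have h3 := (ρ s - 1).finrank_range_add_finrank_ker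
    have := Submodule.finrank_mono h1
    rw [← hZdef] at h3
    omega
  have hge := three_le_finrank hM.forget h9
  have hirr : ∀ X : Submodule F Z, (∀ w, ∀ u ∈ X, piSub (fun w : fixG (φ s) => h.π (w : W)) Z hZπ w u ∈ X) →
      X = ⊥ ∨ X = ⊤ := by
    intro X hX
    by_contra hne
    push Not at hne
    haveI : Nontrivial X := Submodule.nontrivial_iff_ne_bot.2 hne.1
    haveI : Nontrivial (Z ⧸ X) := Submodule.Quotient.nontrivial_iff.2 hne.2
    have h1 := three_le_finrank (hM.forget.sub X hX (fun g u hu => by simpa using hu)) h9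
    have h3 := three_le_finrank (hM.forget.quot X hX (fun g u hu => by simpa using hu)) h9
    have := X.finrank_quotient_add_finrank
    omega
  refine ⟨hM.toHeis hirr, hM.isCompat hirr, ?_, hZn⟩
  have h1 := (hM.toHeis hirr).card_eq
  rw [h9] at h1
  nlinarith

theorem side_iff {f : MulAut W} {C : Subgroup Γ} (hCW : ∀ g ∈ C, ∀ w ∈ fixG f, φ g w ∈ fixG f)
    {x : Γ} (hxC : x ∈ C) (hxW : ∀ w, φ x w = w⁻¹) (g : C) :
    (autOn φ (fixG f) C hCW g = 1 ∨ autOn φ (fixG f) C hCW g = autOn φ (fixG f) C hCW ⟨x, hxC⟩) ↔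
      PM φ (fixG f) g := by
  constructor
  · rintro (e | e)
    · exact Or.inl fun w hw => congrArg Subtype.val (DFunLike.congr_fun e (⟨w, hw⟩ : fixG f))
    · refine Or.inr fun w hw => ?_
      have h1 := congrArg Subtype.val (DFunLike.congr_fun e (⟨w, hw⟩ : fixG f))
      rw [autOn_apply, autOn_apply] at h1
      rw [h1]
      exact hxW w
  · rintro (e | e)
    · exact Or.inl (MulEquiv.ext fun w => Subtype.ext (e w w.2))
    · exact Or.inr (MulEquiv.ext fun w => Subtype.ext ((e w w.2).trans (hxW w).symm))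

/-- On the module of one plane `(g - 1)(g' - 1)` vanishes if `g'` is central there, and otherwise
not. -/
theorem side_mul (hc : h.IsCompat ρ φ) (hG : IsPGroup 2 Γ) (h81 : finrank F U ≤ 9) {x s : Γ}
    (hxW : ∀ w, φ x w = w⁻¹) (hs : φ s * φ s = 1) (hs1 : φ s ≠ 1)
    (h9 : Nat.card (fixG (φ s)) = 9) {g g' : Γ} (hg : Commute (φ g) (φ s))
    (hg' : Commute (φ g') (φ s)) :
    (PM φ (fixG (φ s)) g' → ∀ u, (ρ g - 1) ((ρ g' - 1) ((ρ s - 1) u)) = 0) ∧
    (¬ PM φ (fixG (φ s)) g → ¬ PM φ (fixG (φ s)) g' →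
      ∃ u, (ρ g - 1) ((ρ g' - 1) ((ρ s - 1) u)) ≠ 0) := by
  let C : Subgroup Γ := (Subgroup.centralizer {φ s}).comap φ
  have hC : ∀ a ∈ C, Commute (φ a) (φ s) := fun a ha =>
    (Subgroup.mem_centralizer_iff.1 ha (φ s) rfl).symm
  have hmem : ∀ {a}, Commute (φ a) (φ s) → a ∈ C := fun {a} ha =>
    Subgroup.mem_centralizer_iff.2 fun b hb => by rw [Set.mem_singleton_iff.1 hb]; exact ha.eq.symm
  have hxC : x ∈ C := hmem (commute_of_inverts hxW (φ s)).symm
  have hCW : ∀ a ∈ C, ∀ w ∈ fixG (φ s), φ a w ∈ fixG (φ s) := fun a ha w hw => by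
    have h1 := DFunLike.congr_fun (hC a ha).eq w
    rw [MulAut.mul_apply, MulAut.mul_apply, mem_fixG.1 hw] at h1
    exact h1.symm
  have hCZ : ∀ a ∈ C, ∀ z ∈ LinearMap.range (ρ s - 1), ρ a z ∈ LinearMap.range (ρ s - 1) := by
    rintro a ha _ ⟨v, rfl⟩
    exact ⟨ρ a v, (LinearMap.congr_fun
      ((rho_commute hc hG (hC a ha)).sub_right (Commute.one_right _)).eq v).symm⟩
  obtain ⟨hS, hcS, h3, hZn⟩ := side_data hc hG h81 hs hs1 h9 C hC hCW hCZ
  haveI := hZn
  haveI := three_le_invG_of_nine h9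
  have hxS : ∀ w : fixG (φ s), autOn φ (fixG (φ s)) C hCW ⟨x, hxC⟩ w = w⁻¹ := fun w =>
    Subtype.ext (hxW w)
  constructor
  · intro hpm u
    have h0 := nine_mul_eq_zero hcS (hG.to_subgroup C) h9 h3 hxS ⟨g, hmem hg⟩ (g' := ⟨g', hmem hg'⟩)
      ((side_iff hCW hxC hxW ⟨g', hmem hg'⟩).2 hpm)
    exact congrArg Subtype.val (LinearMap.congr_fun h0 ⟨_, ⟨u, rfl⟩⟩)
  · intro hng hng'
    by_contra hall
    push Not at hall
    refine nine_mul_ne_zero hcS (hG.to_subgroup C) h9 h3 hxS (g := ⟨g, hmem hg⟩)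
      (g' := ⟨g', hmem hg'⟩) (not_or.1 fun e => hng ((side_iff hCW hxC hxW _).1 e))
      (not_or.1 fun e => hng' ((side_iff hCW hxC hxW _).1 e)) ?_
    refine LinearMap.ext fun z => Subtype.ext ?_
    obtain ⟨u, hu⟩ := z.2
    show (ρ g - 1) ((ρ g' - 1) (z : U)) = 0
    rw [← hu]
    exact hall u

end Side

section EndCase

variable {F U W Γ : Type*} [Field F] [IsAlgClosed F] [CharP F 2] [AddCommGroup U] [Module F U]
  [FiniteDimensional F U] [Nontrivial U] [CommGroup W] [Finite W] [Group Γ] [Finite Γ]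
  {h : Heis F U W} {ρ : Representation F Γ U} {φ : Γ →* MulAut W}

theorem fixG_mul_of_inverts {x : Γ} (hxW : ∀ w, φ x w = w⁻¹) (t : Γ) :
    fixG (φ (t * x)) = invG (φ t) := by
  ext w
  rw [mem_fixG, mem_invG, map_mul, MulAut.mul_apply, hxW, map_inv, inv_eq_iff_eq_inv]

/-- Two planes of order nine exchanged by the group. -/
theorem pair_false (hc : h.IsCompat ρ φ) (hG : IsPGroup 2 Γ) {x : Γ} (hx : x ∈ dS ⊤ 2)
    (hxW : ∀ w, φ x w = w⁻¹)
    (hann : ∀ g ∈ dS (⊤ : Subgroup Γ) 1, ∀ g' : Γ, (ρ g - 1) * (ρ g' - 1) * (ρ x - 1) = 0)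
    {t : Γ} (ht : φ t * φ t = 1)
    (hconj : ∀ g, φ g * φ t * (φ g)⁻¹ = φ t ∨ φ g * φ t * (φ g)⁻¹ = φ t * φ x)
    (h91 : Nat.card (invG (φ t)) = 9) (h92 : Nat.card (fixG (φ t)) = 9) : False := by
  classical
  haveI : Fact (Nat.Prime 2) := ⟨Nat.prime_two⟩
  have h2 : φ t ^ 2 = 1 := by rw [pow_two, ht]
  have htinv : (φ t)⁻¹ = φ t := inv_eq_of_mul_eq_one_right ht
  have hxx : φ x * φ x = 1 := mul_self_of_inverts hxW
  have hxc : ∀ f, Commute f (φ x) := commute_of_inverts hxW
  have h81 : finrank F U ≤ 9 := by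
    have hsurj : Function.Surjective fun p : invG (φ t) × fixG (φ t) => (p.1 : W) * p.2 := fun w => by
      obtain ⟨a, ha, b, hb, e⟩ := h.form.exists_decomp_top h2 w
      exact ⟨(⟨a, ha⟩, ⟨b, hb⟩), e⟩
    have h1 := Nat.card_le_card_of_surjective _ hsurj
    rw [Nat.card_prod, h91, h92, h.card_eq] at h1
    nlinarith
  have htx : φ (t * x) * φ (t * x) = 1 := by
    rw [map_mul, (hxc (φ t)).symm.mul_mul_mul_comm, ht, hxx, one_mul]
  have hW1 : fixG (φ (t * x)) = invG (φ t) := fixG_mul_of_inverts hxW t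
  have ht1 : φ t ≠ 1 := fun e => by
    have h3 : invG (φ t) = ⊥ := (Subgroup.eq_bot_iff_forall _).2 fun w hw =>
      h.form.eq_one_of_inv_eq (by rw [← mem_invG.1 hw, e]; rfl)
    rw [h3, Subgroup.card_bot] at h91
    norm_num at h91
  have htx1 : φ (t * x) ≠ 1 := fun e => by
    have h3 : fixG (φ t) = ⊥ := (Subgroup.eq_bot_iff_forall _).2 fun w hw => by
      have h4 : φ (t * x) w = w := by rw [e]; rfl
      rw [map_mul, MulAut.mul_apply, hxW, map_inv, mem_fixG.1 hw] at h4
      exact h.form.eq_one_of_inv_eq h4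
    rw [h3, Subgroup.card_bot] at h92
    norm_num at h92
  -- the kernel of the action on `{t, t x}`
  have hval : ∀ g, φ g * φ t * (φ g)⁻¹ * φ t = 1 ∨ φ g * φ t * (φ g)⁻¹ * φ t = φ x := fun g => by
    rcases hconj g with e | e <;> rw [e]
    · exact Or.inl ht
    · exact Or.inr (by rw [mul_assoc, ← (hxc (φ t)).eq, ← mul_assoc, ht, one_mul])
  let e : Γ →* MulAut W := MonoidHom.mk' (fun g => φ g * φ t * (φ g)⁻¹ * φ t) fun g g' => by
    have hcm : Commute (φ g) (φ g' * φ t * (φ g')⁻¹ * φ t) := by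
      rcases hval g' with e | e <;> rw [e]
      exacts [Commute.one_right _, hxc _]
    have h1 : φ (g * g') * φ t * (φ (g * g'))⁻¹ * φ t =
        φ g * (φ g' * φ t * (φ g')⁻¹ * φ t) * (φ t)⁻¹ * (φ g)⁻¹ * φ t := by
      rw [map_mul]; group
    rw [h1, hcm.eq, htinv]
    rcases hval g' with e | e <;> rw [e]
    · group
    · rw [(hxc (φ g * φ t * (φ g)⁻¹ * φ t)).eq]
      group
  have he : ∀ g, e g = φ g * φ t * (φ g)⁻¹ * φ t := fun g => rfl
  set C := e.ker with hCdef
  have hC : ∀ {g}, g ∈ C → Commute (φ g) (φ t) := fun {g} hg => by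
    have h1 : φ g * φ t * (φ g)⁻¹ * φ t = 1 := hg
    have h3 := mul_eq_one_iff_eq_inv.1 h1
    rw [htinv, mul_inv_eq_iff_eq_mul] at h3
    exact h3
  have hC' : ∀ {g}, g ∉ C → φ g * φ t = φ t * φ x * φ g := fun {g} hg => by
    rcases hconj g with e' | e'
    · exact absurd (show e g = 1 by rw [he, e', ht]) hg
    · exact mul_inv_eq_iff_eq_mul.1 e'
  have hCx : ∀ {g}, g ∈ C → Commute (φ g) (φ (t * x)) := fun {g} hg => by
    rw [map_mul]; exact (hC hg).mul_right (hxc _)
  have hP'C : dS (⊤ : Subgroup Γ) 1 ≤ C := by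
    show ⁅(⊤ : Subgroup Γ), ⊤⁆ ≤ C
    rw [Subgroup.commutator_le]
    intro a _ b _
    rw [hCdef, MonoidHom.mem_ker, map_commutatorElement, commutatorElement_eq_one_iff_mul_comm]
    rcases hval a with ea | ea <;> rw [he a, ea]
    · rw [one_mul, mul_one]
    · exact ((hxc (e b)).eq).symm
  have hCW1 : ∀ g ∈ C, ∀ w ∈ invG (φ t), φ g w ∈ invG (φ t) := fun g hg w hw => by
    have h1 := DFunLike.congr_fun (hC hg).eq w
    rw [MulAut.mul_apply, MulAut.mul_apply, mem_invG.1 hw, map_inv] at h1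
    exact h1.symm
  have hCW2 : ∀ g ∈ C, ∀ w ∈ fixG (φ t), φ g w ∈ fixG (φ t) := fun g hg w hw => by
    have h1 := DFunLike.congr_fun (hC hg).eq w
    rw [MulAut.mul_apply, MulAut.mul_apply, mem_fixG.1 hw] at h1
    exact h1.symm
  have hswap1 : ∀ g ∉ C, ∀ w ∈ invG (φ t), φ g w ∈ fixG (φ t) := fun g hg w hw => by
    have h1 := DFunLike.congr_fun (hC' hg) w
    rw [MulAut.mul_apply, MulAut.mul_apply, MulAut.mul_apply, mem_invG.1 hw, map_inv, hxW, map_inv,
      inv_inj] at h1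
    exact h1.symm
  -- elements without exception commute on the first plane
  have hnab : ¬ ∀ a ∈ dS (⊤ : Subgroup Γ) 1, ∀ b ∈ dS (⊤ : Subgroup Γ) 1, ∀ w ∈ invG (φ t),
      φ a (φ b w) = φ b (φ a w) := by
    intro hab
    have hle : dS (⊤ : Subgroup Γ) 2 ≤ dS ⊤ 1 := dS_le ⊤ 1
    have hfix : ∀ z ∈ dS (⊤ : Subgroup Γ) 2, ∀ w ∈ invG (φ t), φ z w = w := by
      let S : Subgroup Γ :=
        { carrier := {g | g ∈ C ∧ ∀ w ∈ invG (φ t), φ g w = w}
          one_mem' := ⟨one_mem _, fun w _ => by rw [map_one, MulAut.one_apply]⟩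
          mul_mem' := fun {a b} ha hb => ⟨mul_mem ha.1 hb.1, fun w hw => by
            rw [map_mul, MulAut.mul_apply, hb.2 w hw, ha.2 w hw]⟩
          inv_mem' := fun {a} ha => ⟨inv_mem ha.1, fun w hw => by
            conv_lhs => rw [← ha.2 w hw]
            rw [map_inv, MulAut.inv_apply_self]⟩ }
      suffices dS (⊤ : Subgroup Γ) 2 ≤ S from fun z hz => (this hz).2
      show ⁅dS (⊤ : Subgroup Γ) 1, dS (⊤ : Subgroup Γ) 1⁆ ≤ S
      rw [Subgroup.commutator_le]
      intro a ha b hb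
      refine ⟨hP'C (hle (Subgroup.commutator_mem_commutator ha hb)), fun w hw => ?_⟩
      rw [map_commutatorElement, commutatorElement_def, MulAut.mul_apply, MulAut.mul_apply,
        MulAut.mul_apply, hab a ha b hb _ (by
          rw [← map_inv, ← map_inv]
          exact hCW1 _ (inv_mem (hP'C ha)) _ (hCW1 _ (inv_mem (hP'C hb)) w hw)),
        MulAut.apply_inv_self, MulAut.apply_inv_self]
    haveI : Nontrivial (invG (φ t)) :=
      Finite.one_lt_card_iff_nontrivial.1 (by rw [h91]; norm_num)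
    obtain ⟨⟨w, hw⟩, hw1⟩ := exists_ne (1 : invG (φ t))
    have h3 := hfix x hx w hw
    rw [hxW] at h3
    exact hw1 (Subtype.ext (h.form.eq_one_of_inv_eq h3))
  obtain ⟨g, hgP, hg⟩ : ∃ g ∈ dS (⊤ : Subgroup Γ) 1, ¬ PM φ (invG (φ t)) g := by
    by_contra hall
    push Not at hall
    exact hnab fun a ha b hb w hw => (hall a ha).comm (hCW1 b (hP'C hb)) hw
  -- the transfer
  have htrans : ∀ a ∈ C, PM φ (fixG (φ t)) a → PM φ (invG (φ t)) a := by
    intro a ha hpm
    by_contra hna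
    obtain ⟨u, hu⟩ := (side_mul hc hG h81 hxW htx htx1 (by rw [hW1, h91]) (hCx (hP'C hgP))
      (hCx ha)).2 (by rw [hW1]; exact hg) (by rw [hW1]; exact hna)
    apply hu
    have e1 := LinearMap.congr_fun (hann g hgP a) u
    have hXdec : ρ x - 1 =
        (ρ t - 1) + (ρ (t * x) - 1) + (ρ t - 1) * (ρ (t * x) - 1) := by
      have hT : ρ t * ρ t = 1 := by rw [← map_mul]; exact rho_one_of_phi hc hG (by rw [map_mul, ht])
      rw [map_mul ρ t x]
      have e2 : (ρ t - 1) + (ρ t * ρ x - 1) + (ρ t - 1) * (ρ t * ρ x - 1) =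
          ρ t * ρ t * ρ x - 1 := by noncomm_ring
      rw [e2, hT, one_mul]
    have hz := (side_mul hc hG h81 hxW ht ht1 h92 (hC (hP'C hgP)) (hC ha)).1 hpm
    rw [hXdec] at e1
    simp only [End.mul_apply, LinearMap.add_apply, LinearMap.zero_apply, map_add, hz, zero_add,
      add_zero] at e1
    exact e1
  -- the normal subgroup of elements central on the planes
  let K : Subgroup Γ := C ⊓ pmOn φ (invG (φ t))
  haveI : K.Normal := ⟨fun a ha b => ⟨e.normal_ker.conj_mem a ha.1 b, by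
    by_cases hb : b ∈ C
    · exact ha.2.conj fun w hw => hCW1 _ (inv_mem hb) w hw
    · exact htrans _ (e.normal_ker.conj_mem a ha.1 b)
        (ha.2.conj fun w hw => by
          by_contra hn
          obtain ⟨p, hp, q, hq, hpq⟩ := h.form.exists_decomp_top h2 (φ b⁻¹ w)
          have hw' : φ b (φ b⁻¹ w) = w := by rw [map_inv, MulAut.apply_inv_self]
          have hbq : φ b q ∈ invG (φ t) := by
            have h1 := DFunLike.congr_fun (hC' hb) q
            rw [MulAut.mul_apply, MulAut.mul_apply, MulAut.mul_apply, mem_fixG.1 hq, hxW,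
              map_inv] at h1
            exact mem_invG.2 (inv_eq_iff_eq_inv.1 h1.symm)
          rw [← hpq, map_mul] at hw'
          have h4 : φ b q ∈ fixG (φ t) := by
            have : φ b q = (φ b p)⁻¹ * w := by rw [← hw', inv_mul_cancel_left]
            rw [this]
            exact mul_mem (inv_mem (hswap1 b hb p hp)) hw
          have hq1 : q = 1 := by
            have h5 : φ b q = 1 := h.form.eq_one_of_inv_eq
              ((mem_invG.1 hbq).symm.trans (mem_fixG.1 h4))
            exact (φ b).map_eq_one_iff.1 h5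
          rw [hq1, mul_one] at hpq
          exact hn (hpq ▸ hp))⟩⟩
  have hCidx : C.index ≤ 2 := by
    rw [hCdef, Subgroup.index_ker]
    refine le_trans (Subgroup.card_le_of_le (K := Subgroup.zpowers (φ x)) ?_) ?_
    · rintro _ ⟨a, rfl⟩
      rcases hval a with ea | ea
      · rw [he a, ea]; exact one_mem _
      · rw [he a, ea]; exact Subgroup.mem_zpowers _
    · rw [Nat.card_zpowers]
      exact Nat.le_of_dvd two_pos (orderOf_dvd_of_pow_eq_one (by rw [pow_two, hxx]))
  have hKidx : K.relIndex C ≤ 4 := by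
    haveI : Nontrivial (invG (φ t)) :=
      Finite.one_lt_card_iff_nontrivial.1 (by rw [h91]; norm_num)
    set f1 := autOn φ (invG (φ t)) C hCW1 with hf1
    have hxC : x ∈ C := hP'C (dS_le ⊤ 1 hx)
    set x1 := f1 ⟨x, hxC⟩ with hx1def
    have hx1W : ∀ w, x1 w = w⁻¹ := fun w => Subtype.ext (hxW w)
    set S := Subgroup.zpowers x1
    let Φ1 := h.form.sub (invG (φ t)) (h.form.nondegOn_invG (Heis.compat_isom hc t) h2)
    obtain ⟨v0, hv0⟩ := exists_ne (1 : invG (φ t))
    have hR : Nat.card f1.range ≤ 8 := by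
      have hinj : Function.Injective fun r : f1.range => (r : MulAut _) v0 := by
        rintro ⟨_, a, rfl⟩ ⟨_, b, rfl⟩ hab
        refine Subtype.ext ?_
        have hiso : ∀ c : C, f1 c ∈ Φ1.isom := fun c v w => Heis.compat_isom hc c v w
        obtain ⟨n, hn⟩ := hG ((b⁻¹ * a : C) : Γ)
        have h1 : f1 (b⁻¹ * a) = 1 := by
          refine eq_one_of_fixed_nine Φ1 h91 (hiso _) (n := n) ?_ hv0 ?_
          · rw [← map_pow, show (b⁻¹ * a) ^ 2 ^ n = 1 from Subtype.ext hn, map_one]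
          · rw [map_mul, map_inv, MulAut.mul_apply]
            show (f1 b)⁻¹ (f1 a v0) = v0
            rw [show f1 a v0 = f1 b v0 from hab, MulAut.inv_apply_self]
        rw [map_mul, map_inv, inv_mul_eq_one] at h1
        exact h1.symm
      haveI := Fintype.ofFinite (invG (φ t))
      haveI := Fintype.ofFinite f1.range
      have h1 := Fintype.card_lt_of_injective_of_notMem _ hinj (b := (1 : invG (φ t))) (by
        rintro ⟨r, hr⟩
        exact hv0 ((MulEquiv.map_eq_one_iff _).1 hr))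
      rw [← Nat.card_eq_fintype_card, ← Nat.card_eq_fintype_card, h91] at h1
      omega
    have hS2 : Nat.card S = 2 := by
      rw [Nat.card_zpowers]
      refine orderOf_eq_prime (by rw [pow_two, mul_self_of_inverts hx1W]) fun e1 => ?_
      exact hv0 (Φ1.eq_one_of_inv_eq (by rw [← hx1W, e1]; rfl))
    have hSR : S ≤ f1.range := Subgroup.zpowers_le.2 ⟨_, rfl⟩
    have hrel : S.relIndex f1.range ≤ 4 := by
      have h1 := (S.subgroupOf f1.range).card_mul_index
      rw [Nat.card_congr (Subgroup.subgroupOfEquivOfLe hSR).toEquiv, hS2] at h1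
      show (S.subgroupOf f1.range).index ≤ 4
      omega
    refine le_trans ?_ hrel
    rw [← Subgroup.index_comap]
    refine Subgroup.index_antitone fun a ha => ⟨a.2, ?_⟩
    rcases eq_one_or_self_of_mem_zpowers (mul_self_of_inverts hx1W) ha with e1 | e1
    · exact Or.inl fun w hw =>
        congrArg Subtype.val (DFunLike.congr_fun e1 (⟨w, hw⟩ : invG (φ t)))
    · exact Or.inr fun w hw =>
        (congrArg Subtype.val (DFunLike.congr_fun e1 (⟨w, hw⟩ : invG (φ t)))).trans (hxW w)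
  have h8 : Nat.card (Γ ⧸ K) ≤ 8 := by
    rw [← Subgroup.index_eq_card, ← Subgroup.relIndex_mul_index (inf_le_left : K ≤ C)]
    calc K.relIndex C * C.index ≤ 4 * 2 := Nat.mul_le_mul hKidx hCidx
      _ = 8 := rfl
  have hder := commutator_le_two (hG.to_quotient K) h8
  refine hnab fun a ha b hb w hw => ?_
  by_cases haK : a ∈ K
  · exact haK.2.comm (hCW1 b (hP'C hb)) hw
  by_cases hbK : b ∈ K
  · exact (hbK.2.comm (hCW1 a (hP'C ha)) hw).symm
  have hmk : ∀ c ∈ dS (⊤ : Subgroup Γ) 1, (c : Γ ⧸ K) ∈ commutator (Γ ⧸ K) := by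
    intro c hc'
    have h1 : (QuotientGroup.mk' K c) ∈ Subgroup.map (QuotientGroup.mk' K) (⁅(⊤ : Subgroup Γ), (⊤ : Subgroup Γ)⁆ : Subgroup Γ) :=
      ⟨c, hc', rfl⟩
    rw [Subgroup.map_commutator, Subgroup.map_top_of_surjective _
      (QuotientGroup.mk'_surjective K)] at h1
    exact h1
  have hab : (a : Γ ⧸ K) = b := by
    by_contra hne
    haveI := Fintype.ofFinite (commutator (Γ ⧸ K))
    have h1 : ({1, ⟨_, hmk a ha⟩, ⟨_, hmk b hb⟩} : Finset (commutator (Γ ⧸ K))).card = 3 := by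
      rw [Finset.card_eq_three]
      refine ⟨_, _, _, ?_, ?_, ?_, rfl⟩
      · exact fun e1 => haK ((QuotientGroup.eq_one_iff a).1 (congrArg Subtype.val e1).symm)
      · exact fun e1 => hbK ((QuotientGroup.eq_one_iff b).1 (congrArg Subtype.val e1).symm)
      · exact fun e1 => hne (congrArg Subtype.val e1)
    have h3 := Finset.card_le_univ
      ({1, ⟨_, hmk a ha⟩, ⟨_, hmk b hb⟩} : Finset (commutator (Γ ⧸ K)))
    rw [h1, ← Nat.card_eq_fintype_card] at h3
    omega
  have hk : a⁻¹ * b ∈ K := QuotientGroup.eq.1 hab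
  have hb' : ∀ v, φ b v = φ a (φ (a⁻¹ * b) v) := fun v => by
    rw [← MulAut.mul_apply, ← map_mul, mul_inv_cancel_left]
  rw [hb', hb', hk.2.comm (hCW1 a (hP'C ha)) hw]

end EndCase

end CfsgLib.TwoLength
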