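import Cfsg.Agent.Lib.TwoLength.DerBase

/-!
# Steps for the local derived-length statement

The recursion step, the absence of foreign involutions when the chain has length one, and the
three-dimensional modules of groups of order nine.
-/

set_option autoImplicit false
set_option linter.style.haveILetI false

namespace CfsgLib.TwoLength

open Module

universe uF uU uW uG

/-! ### Generalities -/

section EndLemmas

variable {F U : Type*} [Field F] [AddCommGroup U] [Module F U]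

theorem end_add_self [CharP F 2] (f : End F U) : f + f = 0 := by
  rw [← two_smul F f, CharTwo.two_eq_zero, zero_smul]

theorem end_sub_one_sq [CharP F 2] (f : End F U) : (f - 1) * (f - 1) = f * f - 1 := by
  have h : (f - 1) * (f - 1) = f * f - 1 - (f + f) + (1 + 1) := by noncomm_ring
  rw [h, end_add_self, end_add_self, sub_zero, add_zero]

theorem end_sub_one_pow [CharP F 2] (f : End F U) (i : ℕ) :
    (f - 1) ^ 2 ^ i = f ^ 2 ^ i - 1 := by
  induction i with
  | zero => simp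
  | succ i ih => rw [pow_succ, pow_mul, pow_two, ih, end_sub_one_sq, ← pow_two, ← pow_mul]

theorem range_pow_succ_lt {f : End F U} {N i : ℕ} (hN : f ^ N = 0) (hi : f ^ i ≠ 0) :
    LinearMap.range (f ^ (i + 1)) < LinearMap.range (f ^ i) := by
  refine lt_of_le_of_ne (by rw [pow_succ]; exact LinearMap.range_comp_le_range _ _) fun e => hi ?_
  have h : ∀ l, LinearMap.range (f ^ (i + l)) = LinearMap.range (f ^ i) := by
    intro l
    induction l with
    | zero => rfl
    | succ l ih =>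
      rw [← Nat.add_assoc, pow_succ', End.mul_eq_comp, LinearMap.range_comp, ih,
        ← LinearMap.range_comp, ← End.mul_eq_comp, ← pow_succ', e]
  have h1 := h N
  rw [pow_add, hN, mul_zero, LinearMap.range_zero] at h1
  exact LinearMap.range_eq_bot.1 h1.symm

theorem finrank_range_pow_lt [FiniteDimensional F U] {f : End F U} {N i : ℕ} (hN : f ^ N = 0)
    (hi : f ^ i ≠ 0) :
    finrank F (LinearMap.range (f ^ (i + 1))) < finrank F (LinearMap.range (f ^ i)) :=
  Submodule.finrank_lt_finrank_of_lt (range_pow_succ_lt hN hi)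

theorem cube_eq_zero_of_finrank_three [FiniteDimensional F U] (h3 : finrank F U = 3) {f : End F U}
    (hf : f ^ 4 = 0) : f ^ 3 = 0 := by
  by_contra h
  have h2 : f ^ 2 ≠ 0 := fun e => h (by rw [pow_succ, e, zero_mul])
  have h1 : f ^ 1 ≠ 0 := fun e => h2 (by rw [pow_succ, e, zero_mul])
  have h0 : f ^ 0 ≠ 0 := fun e => h1 (by rw [pow_succ, e, zero_mul])
  have l0 := finrank_range_pow_lt hf h0
  have l1 := finrank_range_pow_lt hf h1
  have l2 := finrank_range_pow_lt hf h2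
  have : finrank F (LinearMap.range (f ^ 3)) ≠ 0 := fun e =>
    h (LinearMap.range_eq_bot.1 (Submodule.finrank_eq_zero.1 e))
  have := (LinearMap.range (f ^ 0)).finrank_le
  simp only [Nat.reduceAdd] at l0 l1 l2
  omega

theorem two_le_rank_of_sq_ne_zero [FiniteDimensional F U] {f : End F U} (hf : f ^ 4 = 0)
    (h2 : f ^ 2 ≠ 0) : 2 ≤ finrank F (LinearMap.range f) := by
  have h1 : f ^ 1 ≠ 0 := fun e => h2 (by rw [pow_succ, e, zero_mul])
  have l1 := finrank_range_pow_lt hf h1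
  have : finrank F (LinearMap.range (f ^ (1 + 1))) ≠ 0 := fun e =>
    h2 (LinearMap.range_eq_bot.1 (Submodule.finrank_eq_zero.1 e))
  rw [pow_one] at l1
  omega

theorem mul_ne_zero_of_finrank_three [FiniteDimensional F U] (h3 : finrank F U = 3) {f g : End F U}
    (hf : f ^ 4 = 0) (hf2 : f ^ 2 ≠ 0) (hg : g ^ 4 = 0) (hg2 : g ^ 2 ≠ 0) : f * g ≠ 0 := by
  intro h
  have h1 : LinearMap.range g ≤ LinearMap.ker f := by
    rw [LinearMap.range_le_ker_iff]
    exact h
  have := Submodule.finrank_mono h1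
  have := two_le_rank_of_sq_ne_zero hf hf2
  have := two_le_rank_of_sq_ne_zero hg hg2
  have := f.finrank_range_add_finrank_ker
  omega

end EndLemmas

section GroupLemmas

theorem eq_one_or_self_of_mem_zpowers {G : Type*} [Group G] {a b : G} (ha : a * a = 1)
    (hb : b ∈ Subgroup.zpowers a) : b = 1 ∨ b = a := by
  obtain ⟨i, rfl⟩ := Subgroup.mem_zpowers_iff.1 hb
  rcases Int.even_or_odd i with ⟨j, rfl⟩ | ⟨j, rfl⟩
  · left; rw [← two_mul, zpow_mul, zpow_two, ha, one_zpow]
  · right; rw [zpow_add_one, zpow_mul, zpow_two, ha, one_zpow, one_mul]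

theorem commute_of_inverts {W : Type*} [CommGroup W] {z : MulAut W} (hz : ∀ w, z w = w⁻¹)
    (f : MulAut W) : Commute f z := by
  refine MulEquiv.ext fun w => ?_
  show f (z w) = z (f w)
  rw [hz, hz, map_inv]

theorem mul_self_of_inverts {W : Type*} [CommGroup W] {z : MulAut W} (hz : ∀ w, z w = w⁻¹) :
    z * z = 1 := by
  refine MulEquiv.ext fun w => ?_
  show z (z w) = w
  rw [hz, hz, inv_inv]

end GroupLemmas

/-! ### Chains -/

section ChainZero

variable {k V V' Γ : Type*} [CommRing k] [AddCommGroup V] [Module k V] [AddCommGroup V']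
  [Module k V'] [Group Γ]

theorem chain_map_id (ρ : Representation k Γ V) (ρ' : Representation k Γ V') (f : V →ₗ[k] V')
    (hf : ∀ g v, f (ρ g v) = ρ' g (f v)) (n : ℕ) (D : ℕ → Subgroup Γ) (X : Submodule k V) :
    (chain ρ D n X).map f = chain ρ' D n (X.map f) := by
  have h := chain_map ρ ρ' (MonoidHom.id Γ) f hf n D X
  simpa only [Subgroup.map_id] using h

theorem chain_sub_one_eq_bot (ρ : Representation k Γ V) {D : ℕ → Subgroup Γ} {j : ℕ}
    (hann : chain ρ D (j + 1) ⊤ = ⊥) {x : Γ} (hx : x ∈ D (j + 1))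
    (hcomm : ∀ g, Commute (ρ x) (ρ g)) : chain ρ D j (LinearMap.range (ρ x - 1)) = ⊥ := by
  rw [← Submodule.map_top, ← chain_map_id ρ ρ (ρ x - 1)
    (fun g v => LinearMap.congr_fun ((hcomm g).sub_left (Commute.one_left _)).eq v) j D ⊤,
    eq_bot_iff, ← hann, chain_succ_eq]
  rintro _ ⟨v, hv, rfl⟩
  exact mem_comm ρ hx hv

end ChainZero

/-! ### Consequences of compatibility -/

section Compat

variable {F U W Γ : Type*} [Field F] [IsAlgClosed F] [CharP F 2] [AddCommGroup U] [Module F U]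
  [FiniteDimensional F U] [Nontrivial U] [CommGroup W] [Group Γ] {h : Heis F U W}
  {ρ : Representation F Γ U} {φ : Γ →* MulAut W}

theorem rho_congr (hc : h.IsCompat ρ φ) (hG : IsPGroup 2 Γ) {g g' : Γ} (e : φ g = φ g') :
    ρ g = ρ g' := by
  have h1 : ρ (g'⁻¹ * g) = 1 :=
    Heis.rho_eq_one_of_phi hc (hG.to_subgroup _) (by rw [map_mul, map_inv, e, inv_mul_cancel])
  calc ρ g = ρ g' * ρ (g'⁻¹ * g) := by rw [← map_mul, mul_inv_cancel_left]
    _ = ρ g' := by rw [h1, mul_one]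

theorem rho_commute (hc : h.IsCompat ρ φ) (hG : IsPGroup 2 Γ) {g g' : Γ}
    (e : Commute (φ g) (φ g')) : Commute (ρ g) (ρ g') := by
  show ρ g * ρ g' = ρ g' * ρ g
  rw [← map_mul, ← map_mul]
  exact rho_congr hc hG (by rw [map_mul, map_mul, e.eq])

theorem rho_one_of_phi (hc : h.IsCompat ρ φ) (hG : IsPGroup 2 Γ) {g : Γ} (e : φ g = 1) :
    ρ g = 1 :=
  Heis.rho_eq_one_of_phi hc (hG.to_subgroup _) e

theorem pi_commute_of_fixed (hc : h.IsCompat ρ φ) (hG : IsPGroup 2 Γ) {s : Γ} {w : W}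
    (hw : φ s w = w) : Commute (ρ s - 1) (h.π w) :=
  (Commute.sub_left (Heis.conj_eq_of_fixed hc (hG.to_subgroup _) hw) (Commute.one_left _))

/-- With a chain of length one every involution of the image is trivial or central `-1`. -/
theorem involution_eq_of_ann [Finite W] (hc : h.IsCompat ρ φ) (hG : IsPGroup 2 Γ) {x : Γ}
    (hxW : ∀ w, φ x w = w⁻¹) (hann : ∀ g, (ρ g - 1) * (ρ x - 1) = 0) {t : Γ}
    (ht : φ t * φ t = 1) : φ t = 1 ∨ φ t = φ x := by
  by_contra hne
  push Not at hne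
  have h2 : φ t ^ 2 = 1 := by rw [pow_two, ht]
  have hT : ρ t * ρ t = 1 := by
    rw [← map_mul]
    exact rho_one_of_phi hc hG (by rw [map_mul, ht])
  have hab : (ρ t - 1) * (ρ (t * x) - 1) = 0 := by
    have e : (ρ t - 1) * (ρ t * ρ x - 1) + (ρ t - 1) * (ρ x - 1)
        = (ρ t * ρ t - 1) * ρ x - (ρ t + ρ t) + (1 + 1) := by noncomm_ring
    rw [hann, add_zero, hT, sub_self, zero_mul, end_add_self, end_add_self, sub_zero,
      add_zero] at e
    rw [map_mul, e]
  have hba : (ρ (t * x) - 1) * (ρ t - 1) = 0 := by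
    have hcm : Commute (ρ (t * x)) (ρ t) := rho_commute hc hG (by
      rw [map_mul]
      exact (Commute.refl _).mul_left (commute_of_inverts hxW _).symm)
    rw [((hcm.sub_left (Commute.one_left _)).sub_right (Commute.one_right _)).eq, hab]
  obtain ⟨u, hu⟩ : ∃ u, (ρ t - 1) u ≠ 0 := by
    by_contra hz
    push Not at hz
    refine hne.1 (Heis.eq_one_of_rho hc ⟨1, ?_⟩)
    rw [one_smul, ← sub_eq_zero]
    exact LinearMap.ext hz
  have hn : ∀ w ∈ fixG (φ t), ∀ z ∈ LinearMap.range (ρ t - 1),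
      h.π w z ∈ LinearMap.range (ρ t - 1) := by
    rintro w hw _ ⟨v, rfl⟩
    exact ⟨h.π w v, LinearMap.congr_fun (pi_commute_of_fixed hc hG (mem_fixG.1 hw)).eq v⟩
  have hfixTX : ∀ z ∈ LinearMap.range (ρ t - 1), ρ (t * x) z = z := by
    rintro _ ⟨v, rfl⟩
    exact sub_eq_zero.1 (LinearMap.congr_fun hba v)
  have hsc : ∀ v ∈ fixG (φ t), ∃ κ : F, ∀ z ∈ LinearMap.range (ρ t - 1), h.π v z = κ • z := by
    intro v hv
    obtain ⟨w, hw, rfl⟩ := h.form.exists_sqrt _ hv
    have hwi : φ (t * x) w = w⁻¹ := by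
      rw [map_mul, MulAut.mul_apply, hxW, map_inv, mem_fixG.1 hw]
    obtain ⟨c, -, e⟩ := hc (t * x) w
    rw [hwi] at e
    obtain ⟨d, hd, ed⟩ := h.π_mul w w
    obtain ⟨d', -, ed'⟩ := h.π_mul w w⁻¹
    rw [mul_inv_cancel, h.π_one] at ed'
    refine ⟨d⁻¹ * (c * d'), fun z hz => ?_⟩
    have h1 : h.π w z = c • h.π w⁻¹ z := by
      have := LinearMap.congr_fun e z
      rwa [End.mul_apply, LinearMap.smul_apply, End.mul_apply, hfixTX _ (hn w hw z hz),
        hfixTX z hz] at this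
    have h2 : d • h.π (w * w) z = (c * d') • z := by
      rw [← LinearMap.smul_apply, ← ed, End.mul_apply, h1, map_smul, ← End.mul_apply, ed',
        LinearMap.smul_apply, End.one_apply, smul_smul]
    rw [← smul_smul, ← h2, smul_smul, inv_mul_cancel₀ hd, one_smul]
  refine hne.2 (MulEquiv.ext fun w => ?_)
  obtain ⟨a, ha, b, hb, rfl⟩ := h.form.exists_decomp_top h2 w
  have hb1 : b = 1 := by
    refine h.form.nondegOn_fixG (Heis.compat_isom hc t) h2 b hb fun b' hb' => ?_
    obtain ⟨κ, hκ⟩ := hsc b hb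
    obtain ⟨κ', hκ'⟩ := hsc b' hb'
    have hz : (ρ t - 1) u ∈ LinearMap.range (ρ t - 1) := ⟨u, rfl⟩
    have e1 := LinearMap.congr_fun (h.π_comm b b') ((ρ t - 1) u)
    rw [End.mul_apply, LinearMap.smul_apply, End.mul_apply, hκ' _ hz, hκ _ hz, map_smul, map_smul,
      hκ _ hz, hκ' _ hz, smul_smul, smul_smul, smul_smul] at e1
    have e2 := smul_left_injective F hu e1
    have hκ0 : κ ≠ 0 := fun e0 => hu (h.π_injective b (by rw [hκ _ hz, e0, zero_smul, map_zero]))
    have hκ0' : κ' ≠ 0 :=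
      fun e0 => hu (h.π_injective b' (by rw [hκ' _ hz, e0, zero_smul, map_zero]))
    exact Units.ext (mul_right_cancel₀ (mul_ne_zero hκ0' hκ0)
      (show (h.form.B b b' : F) * (κ' * κ) = (1 : Fˣ) * (κ' * κ) by
        rw [Units.val_one, one_mul]
        linear_combination -e2))
  rw [hb1, mul_one, mem_invG.1 ha, hxW]

end Compat

/-! ### The recursion step -/

/-- The statement of the recursion for groups of order at most `n`. -/
def DerCore (F : Type uF) [Field F] (n : ℕ) : Prop :=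
  ∀ (U : Type uU) [AddCommGroup U] [Module F U] [FiniteDimensional F U] [Nontrivial U]
    (W : Type uW) [CommGroup W] [Finite W] [Nontrivial W] (Γ : Type uG) [Group Γ] [Finite Γ]
    (h : Heis F U W) (ρ : Representation F Γ U) (φ : Γ →* MulAut W),
    Nat.card W ≤ n → IsPGroup 2 Γ → h.IsCompat ρ φ →
    ∀ (j : ℕ) (x : Γ), x ∈ dS ⊤ (j + 1) → (∀ w, φ x w = w⁻¹) →
      chain ρ (dS ⊤) j (LinearMap.range (ρ x - 1)) = ⊥ → j = 0 ∧ Nat.card W = 9

/-- The recursion applies to any module: pass to an irreducible invariant submodule. -/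
theorem DerCore.step {F : Type uF} [Field F] [IsAlgClosed F] [CharP F 2] {n : ℕ}
    (IH : DerCore.{uF, uU, uW, uG} F n) {V : Type uU} [AddCommGroup V] [Module F V]
    [FiniteDimensional F V] [Nontrivial V] {W : Type uW} [CommGroup W] [Finite W] [Nontrivial W]
    {Γ : Type uG} [Group Γ] [Finite Γ] {Φ : Form W Fˣ} {π : W → End F V}
    {ρ : Representation F Γ V} {φ : Γ →* MulAut W} (hM : Mod Φ π ρ φ) (hn : Nat.card W ≤ n)
    (hG : IsPGroup 2 Γ) {j : ℕ} {x : Γ} (hx : x ∈ dS ⊤ (j + 1)) (hxW : ∀ w, φ x w = w⁻¹)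
    (hchain : chain ρ (dS ⊤) j (LinearMap.range (ρ x - 1)) = ⊥) : j = 0 ∧ Nat.card W = 9 := by
  obtain ⟨X, hX0, hX, hXG, hmin⟩ :=
    exists_irred π ρ φ Φ hM.one hM.mul hM.comm hM.compat ⊤ (hG.to_subgroup ⊤)
  haveI : Nontrivial X := Submodule.nontrivial_iff_ne_bot.2 hX0
  have hXG' : ∀ g, ∀ u ∈ X, ρ g u ∈ X := fun g => hXG g (Subgroup.mem_top g)
  refine IH X W Γ ((hM.sub X hX hXG').toHeis (piSub_irred hmin)) _ φ hn hG
    ((hM.sub X hX hXG').isCompat (piSub_irred hmin)) j x hx hxW ?_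
  refine Submodule.map_injective_of_injective X.injective_subtype ?_
  rw [chain_map_id _ ρ X.subtype (fun g v => rfl), Submodule.map_bot, eq_bot_iff, ← hchain]
  refine chain_mono ρ _ _ ?_
  rintro _ ⟨_, ⟨v, rfl⟩, rfl⟩
  exact ⟨(v : V), rfl⟩

/-! ### Groups of order nine -/

section NineModules

variable {F U W : Type*} [Field F] [IsAlgClosed F] [CharP F 2] [AddCommGroup U] [Module F U]
  [FiniteDimensional F U] [CommGroup W] [Finite W]

theorem Mod.forget {Γ : Type*} [Group Γ] {Φ : Form W Fˣ} {π : W → End F U}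
    {ρ : Representation F Γ U} {φ : Γ →* MulAut W} (hM : Mod Φ π ρ φ) :
    Mod Φ π (1 : Representation F Unit U) (1 : Unit →* MulAut W) where
  one := hM.one
  mul := hM.mul
  comm := hM.comm
  compat g w := ⟨1, one_ne_zero, by simp⟩

/-- A non-zero module of a group of order nine has dimension at least three. -/
theorem three_le_finrank [Nontrivial U] {Φ : Form W Fˣ} {π : W → End F U}
    {ρ : Representation F Unit U} {φ : Unit →* MulAut W} (hM : Mod Φ π ρ φ)
    (h9 : Nat.card W = 9) : 3 ≤ finrank F U := by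
  obtain ⟨X, hX0, hX, -, hmin⟩ :=
    exists_irred π ρ φ Φ hM.one hM.mul hM.comm hM.compat ⊥ IsPGroup.of_bot
  haveI : Nontrivial X := Submodule.nontrivial_iff_ne_bot.2 hX0
  have h1 := (heisOfMinimal π Φ hM.one hM.mul hM.comm X hX hmin).card_eq
  rw [h9] at h1
  have h2 := X.finrank_le
  nlinarith

variable {Γ : Type*} [Group Γ] {h : Heis F U W} {ρ : Representation F Γ U} {φ : Γ →* MulAut W}

/-- An element is trivial, `-1`, or of order four with square `-1`. -/
theorem nine_cases [Nontrivial U] (hc : h.IsCompat ρ φ) (hG : IsPGroup 2 Γ)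
    (h9 : Nat.card W = 9) {x : Γ} (hxW : ∀ w, φ x w = w⁻¹) (g : Γ) :
    φ g = 1 ∨ φ g = φ x ∨ φ g * φ g = φ x := by
  obtain ⟨n, hn⟩ := hG g
  have hn' : φ g ^ 2 ^ n = 1 := by rw [← map_pow, hn, map_one]
  rcases sq_eq_pm_of_card_nine h.form h9 (Heis.compat_isom hc g) hn' with e | e
  · by_cases hfix : ∃ v : W, v ≠ 1 ∧ φ g v = v
    · obtain ⟨v, hv, hfv⟩ := hfix
      exact Or.inl (eq_one_of_fixed_nine h.form h9 (Heis.compat_isom hc g) hn' hv hfv)
    · push Not at hfix
      refine Or.inr (Or.inl (MulEquiv.ext fun w => ?_))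
      obtain ⟨a, ha, b, hb, rfl⟩ :=
        h.form.exists_decomp_top (by rw [pow_two]; exact e) w
      have hb1 : b = 1 := by
        by_contra hb1
        exact hfix b hb1 (mem_fixG.1 hb)
      rw [hb1, mul_one, mem_invG.1 ha, hxW]
  · refine Or.inr (Or.inr (MulEquiv.ext fun w => ?_))
    rw [MulAut.mul_apply, e, hxW]

variable [Nontrivial U] [Nontrivial W]

theorem nine_sq (hc : h.IsCompat ρ φ) (hG : IsPGroup 2 Γ) {x : Γ} (hxW : ∀ w, φ x w = w⁻¹)
    {g : Γ} (e : φ g * φ g = φ x) :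
    (ρ g - 1) ^ 2 = ρ x - 1 ∧ (ρ g - 1) ^ 4 = 0 ∧ (ρ g - 1) ^ 2 ≠ 0 := by
  have h1 : (ρ g - 1) ^ 2 = ρ x - 1 := by
    rw [pow_two, end_sub_one_sq, ← map_mul, rho_congr hc hG ((map_mul φ g g).trans e)]
  refine ⟨h1, ?_, fun h0 => ?_⟩
  · rw [show 4 = 2 * 2 from rfl, pow_mul, h1, pow_two, end_sub_one_sq, ← map_mul,
      rho_one_of_phi hc hG (by rw [map_mul, mul_self_of_inverts hxW]), sub_self]
  · rw [h1, sub_eq_zero] at h0
    obtain ⟨w, hw⟩ := exists_ne (1 : W)
    have h2 := hxW w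
    rw [Heis.eq_one_of_rho hc ⟨1, by rw [one_smul, h0]⟩, MulAut.one_apply] at h2
    exact hw (h.form.eq_one_of_inv_eq h2.symm)

theorem nine_mul_eq_zero (hc : h.IsCompat ρ φ) (hG : IsPGroup 2 Γ) (h9 : Nat.card W = 9)
    (h3 : finrank F U = 3) {x : Γ} (hxW : ∀ w, φ x w = w⁻¹) (g : Γ) {g' : Γ}
    (hg' : φ g' = 1 ∨ φ g' = φ x) : (ρ g - 1) * (ρ g' - 1) = 0 := by
  rcases hg' with e | e
  · rw [rho_one_of_phi hc hG e, sub_self, mul_zero]
  rw [rho_congr hc hG e]
  rcases nine_cases hc hG h9 hxW g with e' | e' | e'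
  · rw [rho_one_of_phi hc hG e', sub_self, zero_mul]
  · rw [rho_congr hc hG e', end_sub_one_sq, ← map_mul,
      rho_one_of_phi hc hG (by rw [map_mul, mul_self_of_inverts hxW]), sub_self]
  · obtain ⟨h1, h4, -⟩ := nine_sq hc hG hxW e'
    rw [← h1, ← pow_succ']
    exact cube_eq_zero_of_finrank_three h3 h4

theorem nine_mul_ne_zero (hc : h.IsCompat ρ φ) (hG : IsPGroup 2 Γ) (h9 : Nat.card W = 9)
    (h3 : finrank F U = 3) {x : Γ} (hxW : ∀ w, φ x w = w⁻¹) {g g' : Γ}
    (hg : φ g ≠ 1 ∧ φ g ≠ φ x) (hg' : φ g' ≠ 1 ∧ φ g' ≠ φ x) :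
    (ρ g - 1) * (ρ g' - 1) ≠ 0 := by
  obtain ⟨-, h4, h2⟩ := nine_sq hc hG hxW
    (((nine_cases hc hG h9 hxW g).resolve_left hg.1).resolve_left hg.2)
  obtain ⟨-, h4', h2'⟩ := nine_sq hc hG hxW
    (((nine_cases hc hG h9 hxW g').resolve_left hg'.1).resolve_left hg'.2)
  exact mul_ne_zero_of_finrank_three h3 h4 h2 h4' h2'

end NineModules

end CfsgLib.TwoLength
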