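import Cfsg.Agent.Lib.TwoLength.ExpStep
import Cfsg.Agent.Lib.TwoLength.Top
import Cfsg.Agent.Lib.TwoLength.Subdirect

/-!
# The exponent bound, linear form
-/

set_option autoImplicit false
set_option linter.style.haveILetI false

namespace CfsgLib.TwoLength

open Module Cfsg

universe u

theorem expGoal : ∀ e, ExpGoal.{u} e := by
  intro e
  induction e with
  | zero =>
    intro H _ _ _ _ V _ _ _ ρ hρ S h0
    refine pLengthLE_zero_of_sylow_eq_bot S ((Subgroup.eq_bot_iff_forall _).2 fun g hg => hρ ?_)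
    have h := h0 g hg
    rw [show 2 ^ (0 + 1) - 1 = 1 from rfl, pow_one, sub_eq_zero] at h
    rw [h, map_one]
  | succ e ih =>
    intro H _ _ hsol hO V _ _ _ ρ hρ S h0
    haveI : Fact (Nat.Prime 2) := ⟨Nat.prime_two⟩
    obtain ⟨L⟩ := exists_layer hsol S
    obtain ⟨C₁, C₂, hle, hi₁, hi₂, hC⟩ := exists_exp_chain e hsol hO hρ S h0 L
    have hsolq : IsPSolvable 2 (H ⧸ uTwo H) := CfsgLib.PLocal.isPSolvable_quotient hsol _
    refine pLengthLE_succ (pLengthLE_of_sections L.ρ hsolq pCore_quotient_uTwo L.injective e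
      {C₁, C₂} ?_ ?_ fun U₁ U₂ hlt h₁ h₂ hmin hpos =>
        section_expGoal ih hsolq (Layer.sylow S) hlt h₁ h₂ hmin fun q hq v hv => ?_)
    · rintro C (rfl | rfl)
      exacts [hi₁, hi₂]
    · simp only [Set.mem_insert_iff, Set.mem_singleton_iff]
      rintro C (rfl | rfl) D (rfl | rfl)
      exacts [Or.inl le_rfl, Or.inl hle, Or.inr hle, Or.inl le_rfl]
    · obtain ⟨hT, hA, hz⟩ := hC q hq
      rcases hpos C₁ (by simp) with h | h
      · rw [hz v (h hv)]
        exact U₁.zero_mem
      rcases hpos C₂ (by simp) with h' | h'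
      · exact h (hA v (h' hv))
      · exact h' (hT v)

end CfsgLib.TwoLength
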