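import Cfsg.Agent.Lib.TwoLength.ExpWeights
import Cfsg.Agent.Lib.TwoLength.SectionStep

/-!
# The exponent bound: the sections of the top layer

With `Q = 2 ^ (e + 1)`, on each section of the top layer between the spans of the norm subgroup and
of the weight-fixing part one has `(g - 1) ^ (Q - 1) = 0`.
-/

set_option autoImplicit false
set_option linter.style.haveILetI false

namespace CfsgLib.TwoLength

open Module Cfsg
open scoped TensorProduct

universe u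

variable {H : Type u} [Group H] [Finite H] {V : Type u} [AddCommGroup V] [Module (ZMod 2) V]
  [Finite V] {ρ : Representation (ZMod 2) H V}

omit [Finite V] in
/-- The hypothesis on a Sylow 2-subgroup holds for all 2-elements. -/
theorem pow_sub_one_eq_zero_of_sylow (S : Sylow 2 H) {n : ℕ}
    (h : ∀ g ∈ (S : Subgroup H), (ρ g - 1 : End (ZMod 2) V) ^ n = 0) {g : H}
    (hg : IsPGroup 2 (Subgroup.zpowers g)) : (ρ g - 1 : End (ZMod 2) V) ^ n = 0 := by
  haveI : Fact (Nat.Prime 2) := ⟨Nat.prime_two⟩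
  obtain ⟨P, hP⟩ := hg.exists_le_sylow
  obtain ⟨x, hx⟩ := MulAction.exists_smul_eq H S P
  have hgP : g ∈ (P : Subgroup H) := hP (Subgroup.mem_zpowers g)
  rw [← hx, Sylow.coe_subgroup_smul] at hgP
  obtain ⟨s, hs, hsg⟩ := hgP
  have hg' : g = x * s * x⁻¹ := hsg.symm
  have key : ∀ (j : ℕ) (v : V),
      ((ρ g - 1 : End (ZMod 2) V) ^ j) (ρ x v) = ρ x (((ρ s - 1 : End (ZMod 2) V) ^ j) v) := by
    intro j
    induction j with
    | zero => intro v; rfl
    | succ j ih =>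
      intro v
      have e : (ρ g - 1 : End (ZMod 2) V) (ρ x v) = ρ x ((ρ s - 1 : End (ZMod 2) V) v) := by
        simp only [LinearMap.sub_apply, End.one_apply, map_sub]
        rw [hg', ← End.mul_apply, ← map_mul, inv_mul_cancel_right, map_mul, End.mul_apply]
      rw [pow_succ, pow_succ, End.mul_apply, End.mul_apply, e, ih]
  refine LinearMap.ext fun v => ?_
  have h1 := key n (ρ x⁻¹ v)
  rw [h s hs, LinearMap.zero_apply, map_zero, ← End.mul_apply (ρ x), ← map_mul, mul_inv_cancel,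
    map_one, End.one_apply] at h1
  exact h1

/-- The chain of two invariant submodules of the top layer. -/
theorem exists_exp_chain (e : ℕ) (hsol : IsPSolvable 2 H) (hO : pCore 2 H = ⊥)
    (hρ : Function.Injective ρ) (S : Sylow 2 H)
    (h0 : ∀ g ∈ (S : Subgroup H), (ρ g - 1 : End (ZMod 2) V) ^ (2 ^ (e + 2) - 1) = 0)
    (L : Layer S) :
    ∃ C₁ C₂ : Submodule (ZMod 2) L.V, C₁ ≤ C₂ ∧
      (∀ q, ∀ v ∈ C₁, L.ρ q v ∈ C₁) ∧ (∀ q, ∀ v ∈ C₂, L.ρ q v ∈ C₂) ∧
      ∀ q ∈ (Layer.sylow S : Subgroup (H ⧸ uTwo H)),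
        (∀ v, ((L.ρ q - 1 : End (ZMod 2) L.V) ^ (2 ^ (e + 1) - 1)) v ∈ C₂) ∧
        (∀ v ∈ C₂, ((L.ρ q - 1 : End (ZMod 2) L.V) ^ (2 ^ (e + 1) - 1)) v ∈ C₁) ∧
        ∀ v ∈ C₁, ((L.ρ q - 1 : End (ZMod 2) L.V) ^ (2 ^ (e + 1) - 1)) v = 0 := by
  haveI : Fact (Nat.Prime 2) := ⟨Nat.prime_two⟩
  let K := AlgebraicClosure (ZMod 2)
  haveI : CharP K 2 := charP_of_injective_algebraMap (algebraMap (ZMod 2) K).injective 2
  have hyp : ∀ g : H, IsPGroup 2 (Subgroup.zpowers g) →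
      (extend ρ K g - 1 : End K (K ⊗[ZMod 2] V)) ^ (2 ^ (e + 2) - 1) = 0 := fun g hg =>
    pow_extend_eq_zero ρ K (pow_sub_one_eq_zero_of_sylow S h0 hg)
  obtain ⟨A, hAT, hAinv, hAnorm, hA1⟩ :=
    exists_norm_subgroup e hyp hsol hO (extend_injective ρ K hρ) S
  refine ⟨L.tSpan A, L.tSpan (tTwo S ⊓ fixWts (extend ρ K)), L.tSpan_mono (inf_le_left.trans hAT),
    L.tSpan_invariant fun l hl b hb => hAinv l hl b hb.1,
    L.tSpan_invariant fun l hl b hb => tTwo_inf_fixWts_conj hl hb.1, ?_⟩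
  rintro q hq
  rw [Layer.coe_sylow] at hq
  obtain ⟨g, hg, rfl⟩ := hq
  have hspan : ∀ (B : Subgroup H) (C : Submodule (ZMod 2) L.V),
      (∀ t : ↥(tTwo S), (t : H) ∈ B → ∀ c : ↥(tTwo S),
        (c : H) = ((t : H) * g) ^ 2 ^ (e + 1) * (g ^ 2 ^ (e + 1))⁻¹ → L.proj c ∈ C) →
      ∀ v ∈ L.tSpan B,
        ((L.ρ (QuotientGroup.mk' (uTwo H) g) - 1 : End (ZMod 2) L.V) ^ (2 ^ (e + 1) - 1)) v ∈ C := by
    intro B C hBC
    have key : L.tSpan B ≤ C.comap
        ((L.ρ (QuotientGroup.mk' (uTwo H) g) - 1 : End (ZMod 2) L.V) ^ (2 ^ (e + 1) - 1)) := by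
      rw [Layer.tSpan, Submodule.span_le]
      rintro _ ⟨t, ht, rfl⟩
      obtain ⟨c, hc, hpc⟩ := L.pow_sub_one_apply hg t (e + 1)
      show ((L.ρ (QuotientGroup.mk' (uTwo H) g) - 1 : End (ZMod 2) L.V) ^ (2 ^ (e + 1) - 1))
        (L.proj t) ∈ C
      rw [QuotientGroup.mk'_apply, ← hpc]
      exact hBC t ht c hc
    exact fun v hv => key hv
  refine ⟨fun v => ?_, ?_, fun v hv => ?_⟩
  · refine hspan ⊤ _ (fun t _ c hc => L.mem_tSpan ?_) v
      (by rw [L.tSpan_top le_top]; exact Submodule.mem_top)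
    rw [hc]
    exact norm_mem_fixWts e hyp S hg t.2
  · refine hspan _ _ fun t ht c hc => L.mem_tSpan ?_
    rw [hc]
    exact hAnorm g hg t ht
  · refine (Submodule.mem_bot (ZMod 2)).1 (hspan A ⊥ (fun t ht c hc => ?_) v hv)
    rw [hA1 g hg t ht] at hc
    rw [show c = 1 from Subtype.ext hc, L.proj_one]
    exact Submodule.zero_mem _

end CfsgLib.TwoLength
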