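import Cfsg.Agent.Lib.TwoLength.Planes

/-!
# Norms fix the planes of roots

Two 2-groups of isometries share a normalised subgroup `T`. A norm `(t g) ^ M * (g ^ M)⁻¹` of the
second group is an involution which is `1` or inversion on each root plane of the first.
-/

set_option autoImplicit false

namespace CfsgLib.TwoLength

variable {W A : Type*} [CommGroup W] [CommGroup A]

theorem norm_mem {Γ' T : Subgroup (MulAut W)} (hn : ∀ g ∈ Γ', ∀ t ∈ T, g * t * g⁻¹ ∈ T)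
    {g t : MulAut W} (hg : g ∈ Γ') (ht : t ∈ T) (n : ℕ) : (t * g) ^ n * (g ^ n)⁻¹ ∈ T := by
  induction n with
  | zero => simp only [pow_zero, inv_one, mul_one, one_mem]
  | succ n ih =>
    have h : (t * g) ^ (n + 1) * (g ^ (n + 1))⁻¹ =
        (t * g) ^ n * (g ^ n)⁻¹ * (g ^ n * t * (g ^ n)⁻¹) := by
      rw [pow_succ, pow_succ]; group
    rw [h]
    exact T.mul_mem ih (hn _ (Γ'.pow_mem hg n) t ht)

theorem IsRootLike.axis_sq {f : MulAut W} {m : ℕ} (h : IsRootLike f m) :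
    (f ^ 2 ^ (m - 1)) ^ 2 = 1 := by
  rcases h with h | h
  · rw [h, one_pow]
  · exact h.axis_sq

/-- An isometry keeping what an involutive isometry inverts commutes with it. -/
theorem Form.commute_of_map (Φ : Form W A) {x y : MulAut W} (hx : x ∈ Φ.isom) (hy : y ∈ Φ.isom)
    (hx2 : x ^ 2 = 1) (h : ∀ a ∈ invG x, y a ∈ invG x) : Commute y x := by
  have := Φ.finite
  have he : y * x * y⁻¹ = x :=
    Φ.eq_of_invG_eq (Φ.isom.mul_mem (Φ.isom.mul_mem hy hx) (Φ.isom.inv_mem hy)) hx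
      (by rw [conj_pow, hx2, mul_one, mul_inv_cancel]) hx2 (by rw [invG_conj, pm_eq_of_map h])
  exact mul_inv_eq_iff_eq_mul.1 he

/-- The involutions of two root-like elements of a 2-group of isometries commute. -/
theorem rootLike_commute {Φ : Form W A} {Γ : Subgroup (MulAut W)} (hΓ : Γ ≤ Φ.isom)
    (h2 : IsPGroup 2 Γ) {f g : MulAut W} {m n : ℕ} (hf : f ∈ Γ) (hg : g ∈ Γ)
    (hfr : IsRootLike f m) (hgr : IsRootLike g n) :
    Commute (f ^ 2 ^ (m - 1)) (g ^ 2 ^ (n - 1)) := by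
  rcases hfr with h | hfr
  · rw [h]; exact Commute.one_left _
  rcases hgr with h | hgr
  · rw [h]; exact Commute.one_right _
  have hfi := Φ.isom.pow_mem (hΓ hf) (2 ^ (m - 1))
  have hgi := Φ.isom.pow_mem (hΓ hg) (2 ^ (n - 1))
  refine Φ.commute_of_map hgi hfi hgr.axis_sq fun a ha => ?_
  rcases root_planes hΓ h2 hf hg hfr hgr with he | he
  · rw [← he] at ha ⊢
    rw [mem_invG.1 ha]
    exact inv_mem ha
  · rwa [mem_fixG.1 (Φ.le_fixG_of_orth hfi hfr.axis_sq he ha)]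

theorem Form.val_sq_inj (Φ : Form W A) {u v u' v' : W}
    (h : Φ.B u v * Φ.B u v = Φ.B u' v' * Φ.B u' v') : Φ.B u v = Φ.B u' v' := by
  obtain ⟨k, hk⟩ := Φ.odd
  have e : ∀ a b : W, Φ.B a b = (Φ.B a b * Φ.B a b) ^ (k + 1) := fun a b => by
    have h1 : Φ.B a b ^ Nat.card W = 1 := by rw [← map_pow, pow_card_eq_one', map_one]
    rw [← pow_two, ← pow_mul, show 2 * (k + 1) = Nat.card W + 1 by omega, pow_succ, h1, one_mul]
  rw [e u v, h, ← e u' v']

/-- A plane of prime exponent. -/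
theorem Form.pow_eq_one_of_plane (Φ : Form W A) {q : ℕ} (hq : q.Prime) {P : Subgroup W}
    (hnd : Φ.NondegOn P) (hcard : Nat.card P = q ^ 2) {v : W} (hv : v ∈ P) : v ^ q = 1 := by
  have := Φ.finite
  have hd : orderOf v ∣ q ^ 2 := by
    rw [← Nat.card_zpowers, ← hcard]
    exact Subgroup.card_dvd_of_le (Subgroup.zpowers_le.2 hv)
  obtain ⟨i, hi, hic⟩ := (Nat.dvd_prime_pow hq).1 hd
  rcases (show i ≤ 1 ∨ i = 2 by omega) with h | h
  · refine orderOf_dvd_iff_pow_eq_one.1 ?_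
    rw [hic]
    exact (pow_dvd_pow q h).trans (by rw [pow_one])
  · exfalso
    have he : Subgroup.zpowers v = P := Subgroup.eq_of_le_of_card_ge (Subgroup.zpowers_le.2 hv)
      (by rw [Nat.card_zpowers, hic, hcard, h])
    have hbot : P = ⊥ := (Subgroup.eq_bot_iff_forall _).2 fun a ha => hnd a ha fun b hb => by
      obtain ⟨i, rfl⟩ := Subgroup.mem_zpowers_iff.1 (he.symm ▸ ha : a ∈ Subgroup.zpowers v)
      obtain ⟨j, rfl⟩ := Subgroup.mem_zpowers_iff.1 (he.symm ▸ hb : b ∈ Subgroup.zpowers v)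
      rw [map_zpow, map_zpow, MonoidHom.zpow_apply, Φ.alt, one_zpow, one_zpow]
    rw [hbot, Subgroup.card_bot] at hcard
    have := Nat.pow_lt_pow_left hq.one_lt (two_ne_zero)
    omega

/-- A plane of order nine has no isometry whose fourth power is inversion. -/
theorem Form.no_order_eight (Φ : Form W A) {P : Subgroup W} (hnd : Φ.NondegOn P)
    (hcard : Nat.card P = 3 ^ 2) (r : W →* W) (hmap : ∀ v ∈ P, r v ∈ P)
    (hiso : ∀ v ∈ P, ∀ w ∈ P, Φ.B (r v) (r w) = Φ.B v w)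
    (h4 : ∀ v ∈ P, r (r (r (r v))) = v⁻¹) : False := by
  have := Φ.finite
  obtain ⟨v, hv, hv1⟩ : ∃ v ∈ P, v ≠ 1 := by
    by_contra hc
    push Not at hc
    rw [(Subgroup.eq_bot_iff_forall _).2 hc, Subgroup.card_bot] at hcard
    norm_num at hcard
  set u := r (r v) with hu
  have huP : u ∈ P := hmap _ (hmap v hv)
  have hgen : Subgroup.zpowers v ⊔ Subgroup.zpowers u = P := by
    have hle : Subgroup.zpowers v ⊔ Subgroup.zpowers u ≤ P :=
      sup_le (Subgroup.zpowers_le.2 hv) (Subgroup.zpowers_le.2 huP)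
    have hd := Subgroup.card_dvd_of_le hle
    rw [hcard] at hd
    obtain ⟨i, hi, hic⟩ := (Nat.dvd_prime_pow Nat.prime_three).1 hd
    rcases (show i ≤ 1 ∨ i = 2 by omega) with h | h
    · exfalso
      have h3 : orderOf v = 3 := orderOf_eq_prime
        (Φ.pow_eq_one_of_plane Nat.prime_three hnd hcard hv) hv1
      have he : Subgroup.zpowers v = Subgroup.zpowers v ⊔ Subgroup.zpowers u :=
        Subgroup.eq_of_le_of_card_ge le_sup_left (by
          rw [hic, Nat.card_zpowers, h3]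
          calc 3 ^ i ≤ 3 ^ 1 := Nat.pow_le_pow_right (by norm_num) h
            _ = 3 := pow_one 3)
      obtain ⟨k, hk⟩ := Subgroup.mem_zpowers_iff.1
        (he.symm ▸ Subgroup.mem_sup_right (Subgroup.mem_zpowers u) : u ∈ Subgroup.zpowers v)
      have h5 := h4 v hv
      rw [← hu, ← hk, map_zpow, map_zpow, ← hu, ← hk, ← zpow_mul] at h5
      have h6 : v ^ (k * k + 1) = 1 := by
        rw [zpow_add, zpow_one, h5, inv_mul_cancel]
      have h7 : ((k * k + 1 : ℤ) : ZMod 3) = 0 :=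
        (ZMod.intCast_zmod_eq_zero_iff_dvd _ 3).2 (h3 ▸ orderOf_dvd_iff_zpow_eq_one.2 h6)
      push_cast at h7
      exact (by decide : ∀ a : ZMod 3, a * a + 1 ≠ 0) _ h7
    · exact Subgroup.eq_of_le_of_card_ge hle (by rw [hic, hcard, h])
  set γ := Φ.B v u with hγ
  have hγ3 : γ ^ 3 = 1 := by
    rw [hγ, ← map_pow, Φ.pow_eq_one_of_plane Nat.prime_three hnd hcard huP, map_one]
  have hγ1 : γ ≠ 1 := fun h => hv1 (hnd v hv fun w hw => by
    rw [← hgen] at hw
    obtain ⟨a, ha, b, hb, rfl⟩ := Subgroup.mem_sup.1 hw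
    obtain ⟨i, rfl⟩ := Subgroup.mem_zpowers_iff.1 ha
    obtain ⟨j, rfl⟩ := Subgroup.mem_zpowers_iff.1 hb
    rw [map_mul, map_zpow, map_zpow, Φ.alt, ← hγ, h, one_zpow, one_zpow, one_mul])
  obtain ⟨a, ha, b, hb, hw⟩ := Subgroup.mem_sup.1 (hgen.symm ▸ hmap v hv :
    r v ∈ Subgroup.zpowers v ⊔ Subgroup.zpowers u)
  obtain ⟨i, rfl⟩ := Subgroup.mem_zpowers_iff.1 ha
  obtain ⟨j, rfl⟩ := Subgroup.mem_zpowers_iff.1 hb
  have hru : r u = u ^ i * v ^ (-j) := by
    have h5 := h4 v hv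
    rw [← hu] at h5
    calc r u = r (r (r v)) := rfl
      _ = r (r (v ^ i * u ^ j)) := by rw [hw]
      _ = u ^ i * v ^ (-j) := by
          rw [map_mul, map_mul, map_zpow, map_zpow, map_zpow, map_zpow, ← hu, h5, inv_zpow,
            zpow_neg]
  have h1 : Φ.B v (r v) = γ ^ j := by
    rw [← hw, map_mul, map_zpow, map_zpow, Φ.alt, one_zpow, one_mul, hγ]
  have h2 : Φ.B v (r v) = γ ^ i := by
    rw [← hiso v hv _ (hmap v hv), ← hu, ← hw, Φ.B_mul_left, map_zpow, map_zpow,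
      MonoidHom.zpow_apply, MonoidHom.zpow_apply, Φ.alt, one_zpow, mul_one, hγ]
  have h3 : u = v ^ (i * i - j * j) * u ^ (2 * i * j) := by
    conv_lhs => rw [hu, ← hw, map_mul, map_zpow, map_zpow, hru, ← hw]
    rw [mul_zpow, mul_zpow, ← zpow_mul, ← zpow_mul, ← zpow_mul, ← zpow_mul,
      show i * i - j * j = i * i + -j * j by ring, show 2 * i * j = j * i + i * j by ring,
      zpow_add, zpow_add]
    ac_rfl
  have h4' : γ = γ ^ (2 * i * j) := by
    conv_lhs => rw [hγ, h3]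
    rw [map_mul, map_zpow, map_zpow, Φ.alt, one_zpow, one_mul, ← hγ]
  have hord : orderOf γ = 3 := orderOf_eq_prime hγ3 hγ1
  have hm : ∀ x y : ℤ, γ ^ x = γ ^ y → (x : ZMod 3) = (y : ZMod 3) := fun x y hxy => by
    have := (ZMod.intCast_zmod_eq_zero_iff_dvd (x - y) 3).2 (hord ▸
      orderOf_dvd_iff_zpow_eq_one.2 (by rw [zpow_sub, hxy, mul_inv_cancel]))
    push_cast at this
    exact sub_eq_zero.1 this
  have e1 := hm i j (h2.symm.trans h1)
  have e2 := hm 1 (2 * i * j) (by rwa [zpow_one])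
  push_cast at e2
  rw [e1] at e2
  exact (by decide : ∀ a : ZMod 3, (1 : ZMod 3) ≠ 2 * a * a) _ e2

/-- The exchange of two planes of order nine by `T` contradicts the balance. -/
theorem swap_false {Φ : Form W A} {Γ T : Subgroup (MulAut W)} (hΓ : Γ ≤ Φ.isom)
    (h2 : IsPGroup 2 Γ) (hT : T ≤ Γ) (hn : ∀ g ∈ Γ, ∀ t ∈ T, g * t * g⁻¹ ∈ T)
    {h t d : MulAut W} (hh : h ∈ Γ) (ht : t ∈ T) (hd : d ∈ T) (hr : IsRoot h 2)
    {Q : Subgroup W} (hQ : Q = invG (h ^ 2))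
    (hdd : ∀ v ∈ Q, d (d v) = v⁻¹) (hperp : Φ.Orth (pm d Q) Q)
    (θ : W →* W) (hθ : ∀ v ∈ Q, θ v ∈ pm d Q)
    (hθd : ∀ u ∈ Q, d (θ u) ∈ Q ∧ θ (d (θ u)) = d u)
    (hθiso : ∀ u ∈ Q, ∀ v ∈ Q, Φ.B (θ u) (θ v) = Φ.B u v)
    (hy : ∀ v ∈ Q, ((t * h) ^ 2) v = v ∧ ((t * h) ^ 2) (d v) = d v)
    (hbal : ∀ τ ∈ T, pm τ Q = Q → pm τ (pm d Q) = pm d Q →
      (∀ v ∈ Q, τ (θ v) = θ (τ v)) ∨ ∀ v ∈ Q, τ (θ v) = (θ (τ v))⁻¹) :
    False := by
  have := Φ.finite
  have hax : h ^ 2 ^ (2 - 1) = h ^ 2 := rfl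
  have hQ' : Q = invG (h ^ 2 ^ (2 - 1)) := hQ
  have hcard : Nat.card Q = 3 ^ 2 := by rw [hQ']; exact hr.card_inv
  have hnd : Φ.NondegOn Q := hQ' ▸ hr.nondegOn (hΓ hh)
  obtain ⟨e0, he0, he01⟩ := hr.exists_ne_one Φ
  rw [← hQ'] at he0
  have hfam : ∀ γ ∈ Γ, ∀ δ ∈ Γ, pm γ Q = pm δ Q ∨ Φ.Orth (pm γ Q) (pm δ Q) := by
    intro γ hγ δ hδ
    have := root_planes hΓ h2 (Γ.mul_mem (Γ.mul_mem hγ hh) (Γ.inv_mem hγ))
      (Γ.mul_mem (Γ.mul_mem hδ hh) (Γ.inv_mem hδ)) (hr.conj γ) (hr.conj δ)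
    rwa [conj_pow, conj_pow, invG_conj, invG_conj, ← hQ'] at this
  have hhQ : ∀ v ∈ Q, h v ∈ Q := fun v hv => by rw [hQ'] at hv ⊢; exact hr.map_plane hv
  have hh2 : ∀ v ∈ Q, h (h v) = v⁻¹ := fun v hv => by
    rw [← MulAut.mul_apply, ← pow_two]
    exact mem_invG.1 (hQ ▸ hv : v ∈ invG (h ^ 2))
  have hhsurj : ∀ v ∈ Q, h⁻¹ v = h v⁻¹ := fun v hv => by
    apply h.injective
    rw [MulAut.apply_inv_self, hh2 _ (Q.inv_mem hv), inv_inv]
  have hfix : ∀ {S : Subgroup W}, Φ.Orth Q S → ∀ w ∈ S, h w = w := fun hS w hw =>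
    hr.fix_of_orth (hΓ hh) (by rw [hax, ← hQ]; exact hS) hw
  have hfix' : ∀ {S : Subgroup W}, Φ.Orth Q S → ∀ w ∈ S, h⁻¹ w = w := fun hS w hw => by
    conv_lhs => rw [← hfix hS w hw]
    exact MulAut.inv_apply_self W h w
  -- a nontrivial element of `Q` is neither fixed nor inverted by `h`
  have hirr : ∀ v ∈ Q, h v = v ∨ h v = v⁻¹ → v = 1 := fun v hv hcase => by
    rcases hcase with h' | h'
    · exact hr.eq_one_of_apply_eq Φ (hQ' ▸ hv) h'
    · exact hr.eq_one_of_apply_eq_inv Φ (hQ' ▸ hv) h'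
  have hθinj : ∀ u ∈ Q, ∀ v ∈ Q, θ u = θ v → u = v := fun u hu v hv huv => by
    refine mul_inv_eq_one.1 (hnd _ (Q.mul_mem hu (Q.inv_mem hv)) fun w hw => ?_)
    rw [← hθiso _ (Q.mul_mem hu (Q.inv_mem hv)) w hw, map_mul, map_inv, huv, mul_inv_cancel,
      Φ.B_one_left]
  have hdi : ∀ v ∈ Q, d⁻¹ v = (d v)⁻¹ := fun v hv => by
    apply d.injective
    rw [MulAut.apply_inv_self, map_inv, hdd v hv, inv_inv]
  have hdQ : pm d (pm d Q) = Q := by
    rw [← pm_mul]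
    exact pm_eq_of_map fun v hv => by rw [MulAut.mul_apply, hdd v hv]; exact Q.inv_mem hv
  set c := h * d * h⁻¹ * d⁻¹ with hc
  have hcT : c ∈ T := T.mul_mem (hn h hh d hd) (T.inv_mem hd)
  clear_value c
  have hcQ : ∀ v ∈ Q, c v = h v := fun v hv => by
    have hmem : d⁻¹ v ∈ pm d Q := by
      rw [hdi v hv]; exact inv_mem (apply_mem_pm.2 hv)
    rw [hc, MulAut.mul_apply, MulAut.mul_apply, MulAut.mul_apply, hfix' hperp.symm _ hmem,
      MulAut.apply_inv_self]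
  have hcQ' : ∀ v ∈ Q, c (d v) = d (h⁻¹ v) := fun v hv => by
    rw [hc, MulAut.mul_apply, MulAut.mul_apply, MulAut.mul_apply, MulAut.inv_apply_self,
      hfix hperp.symm _ (apply_mem_pm.2 (by rw [hhsurj v hv]; exact hhQ _ (Q.inv_mem hv)))]
  have hyQ : ∀ v ∈ Q, t (h (t (h v))) = v := fun v hv => by
    have := (hy v hv).1
    rwa [pow_two, MulAut.mul_apply, MulAut.mul_apply, MulAut.mul_apply] at this
  have hyQ' : ∀ v ∈ Q, t (h (t (d v))) = d v := fun v hv => by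
    have := (hy v hv).2
    rwa [pow_two, MulAut.mul_apply, MulAut.mul_apply, MulAut.mul_apply,
      hfix hperp.symm _ (apply_mem_pm.2 hv)] at this
  rcases hfam t (hT ht) 1 Γ.one_mem with htQ | htQ <;> rw [pm_one] at htQ
  · -- `t` keeps `Q`
    have hs : (∀ v ∈ Q, t (h v) = v) ∨ ∀ v ∈ Q, t (h v) = v⁻¹ := by
      have := Φ.sq_fix_on_plane Nat.prime_three hnd hcard (f := t * h)
        (Φ.isom.mul_mem (hΓ (hT ht)) (hΓ hh))
        (fun v hv => by rw [MulAut.mul_apply]; exact map_of_pm_eq htQ (hhQ v hv))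
        (fun v hv => by simp only [MulAut.mul_apply]; exact hyQ v hv)
      simpa only [MulAut.mul_apply] using this
    by_cases htQ' : pm t (pm d Q) = pm d Q
    · have hs' := Φ.sq_fix_on_plane Nat.prime_three (isometry_nondegOn (hΓ (hT hd)) hnd)
        (by rw [card_pm, hcard]) (hΓ (hT ht)) (fun v hv => map_of_pm_eq htQ' hv)
        (fun w hw => by
          obtain ⟨v, hv, rfl⟩ := exists_of_mem_pm hw
          have h' := hyQ' v hv
          rwa [hfix hperp.symm _ (map_of_pm_eq htQ' (apply_mem_pm.2 hv))] at h')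
      have hsc : (∀ v ∈ Q, t v = v) ∨ ∀ v ∈ Q, t v = v⁻¹ := by
        rcases hbal t ht htQ htQ' with hb | hb <;> rcases hs' with hp | hp
        · exact Or.inl fun v hv => hθinj _ (map_of_pm_eq htQ hv) _ hv
            (by rw [← hb v hv, hp _ (hθ v hv)])
        · exact Or.inr fun v hv => hθinj _ (map_of_pm_eq htQ hv) _ (Q.inv_mem hv)
            (by rw [← hb v hv, hp _ (hθ v hv), map_inv])
        · exact Or.inr fun v hv => hθinj _ (map_of_pm_eq htQ hv) _ (Q.inv_mem hv)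
            (by rw [map_inv, ← inv_inj, ← hb v hv, hp _ (hθ v hv), inv_inv])
        · exact Or.inl fun v hv => hθinj _ (map_of_pm_eq htQ hv) _ hv
            (by rw [← inv_inj, ← hb v hv, hp _ (hθ v hv)])
      refine he01 (hirr e0 he0 ?_)
      rcases hsc with hp | hp <;> rcases hs with hq | hq <;> have h' := hq e0 he0 <;>
        rw [hp _ (hhQ e0 he0)] at h'
      exacts [Or.inl h', Or.inr h', Or.inr (inv_eq_iff_eq_inv.1 h'), Or.inl (inv_inj.1 h')]
    · have hQ'' : Φ.Orth Q (pm (t⁻¹ * d) Q) ∧ Φ.Orth (pm d Q) (pm (t⁻¹ * d) Q) := by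
        constructor
        · rcases hfam 1 Γ.one_mem (t⁻¹ * d) (Γ.mul_mem (Γ.inv_mem (hT ht)) (hT hd)) with he | he
          · exfalso
            rw [pm_one, pm_mul] at he
            have he' : pm t Q = pm d Q := by rw [he, pm_pm_inv, ← he]
            exact htQ' (by rw [← he', htQ, htQ])
          · rwa [pm_one] at he
        · refine (hfam d (hT hd) (t⁻¹ * d)
            (Γ.mul_mem (Γ.inv_mem (hT ht)) (hT hd))).resolve_left fun he => htQ' ?_
          rw [pm_mul] at he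
          conv_lhs => rw [he]
          rw [pm_pm_inv]
      have hcfix : ∀ v ∈ Q, c (t⁻¹ (d v)) = t⁻¹ (d v) := fun v hv => by
        have hmem : t⁻¹ (d v) ∈ pm (t⁻¹ * d) Q := by
          rw [pm_mul]; exact apply_mem_pm.2 (apply_mem_pm.2 hv)
        have hdo : Φ.Orth Q (pm d⁻¹ (pm (t⁻¹ * d) Q)) := by
          have := isometry_orth (Φ.isom.inv_mem (hΓ (hT hd))) hQ''.2
          rwa [pm_inv_pm] at this
        rw [hc, MulAut.mul_apply, MulAut.mul_apply, MulAut.mul_apply,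
          hfix' hdo _ (apply_mem_pm.2 hmem), MulAut.apply_inv_self, hfix hQ''.1 _ hmem]
      set a := c * (t * c * t⁻¹) with ha
      have haT : a ∈ T := T.mul_mem hcT (T.mul_mem (T.mul_mem ht hcT) (T.inv_mem ht))
      clear_value a
      have haQ : ∀ v ∈ Q, a v = v⁻¹ := fun v hv => by
        have hin : t (c (t⁻¹ v)) = h v := by
          rcases hs with hq | hq
          · have e : t⁻¹ v = h v := by
              apply t.injective; rw [MulAut.apply_inv_self, hq v hv]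
            rw [e, hcQ _ (hhQ v hv), hq _ (hhQ v hv)]
          · have e : t⁻¹ v = (h v)⁻¹ := by
              apply t.injective; rw [MulAut.apply_inv_self, map_inv, hq v hv, inv_inv]
            rw [e, hcQ _ (Q.inv_mem (hhQ v hv)), hq _ (Q.inv_mem (hhQ v hv)), inv_inv]
        rw [ha, MulAut.mul_apply, MulAut.mul_apply, MulAut.mul_apply, hin, hcQ _ (hhQ v hv),
          hh2 v hv]
      have haQ' : ∀ v ∈ Q, a (d v) = d (h⁻¹ v) := fun v hv => by
        rw [ha, MulAut.mul_apply, MulAut.mul_apply, MulAut.mul_apply, hcfix v hv,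
          MulAut.apply_inv_self, hcQ' v hv]
      have h1 : pm a Q = Q := pm_eq_of_map fun v hv => by rw [haQ v hv]; exact Q.inv_mem hv
      have h2' : pm a (pm d Q) = pm d Q := pm_eq_of_map fun w hw => by
        obtain ⟨v, hv, rfl⟩ := exists_of_mem_pm hw
        rw [haQ' v hv, hhsurj v hv]
        exact apply_mem_pm.2 (hhQ _ (Q.inv_mem hv))
      obtain ⟨hu, hue⟩ := hθd e0 he0
      refine he01 (hirr e0 he0 ?_)
      have key := haQ' e0 he0
      rw [hhsurj e0 he0, map_inv h] at key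
      rcases hbal a haT h1 h2' with hb | hb
      · left
        have := hb _ hu
        rw [hue, haQ _ hu, map_inv θ, hue, key, map_inv d, inv_inj] at this
        exact d.injective this
      · right
        have := hb _ hu
        rw [hue, haQ _ hu, map_inv θ, hue, inv_inv, key, map_inv d, inv_eq_iff_eq_inv,
          ← map_inv d] at this
        exact d.injective this
  · -- `t` moves `Q`
    have htt : ∀ v ∈ Q, t (t v) = h⁻¹ v := fun v hv => by
      have hm : h⁻¹ v ∈ Q := by rw [hhsurj v hv]; exact hhQ _ (Q.inv_mem hv)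
      have h' := hyQ _ hm
      rwa [MulAut.apply_inv_self, hfix htQ.symm _ (apply_mem_pm.2 hv)] at h'
    have httQ : pm t (pm t Q) = Q := by
      rw [← pm_mul]
      exact pm_eq_of_map fun v hv => by
        rw [MulAut.mul_apply, htt v hv, hhsurj v hv]; exact hhQ _ (Q.inv_mem hv)
    have hh4 : ∀ v ∈ Q, h⁻¹ (h⁻¹ v) = v⁻¹ := fun v hv => by
      rw [hhsurj v hv, hhsurj _ (hhQ _ (Q.inv_mem hv)), map_inv h, map_inv h, map_inv h,
        inv_inv, hh2 v hv]
    by_cases htd : pm t Q = pm d Q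
    · have htd' : pm t (pm d Q) = Q := by rw [← htd, httQ]
      set τ := d⁻¹ * t with hτ
      have h1 : pm τ Q = Q := by rw [hτ, pm_mul, htd, pm_inv_pm]
      have h2' : pm τ (pm d Q) = pm d Q := by
        rw [hτ, pm_mul, htd']
        conv_lhs => rw [← hdQ]
        rw [pm_inv_pm]
      let R : W →* W := d.toMonoidHom.comp (θ.comp τ.toMonoidHom)
      have hR : ∀ v, R v = d (θ (τ v)) := fun v => rfl
      have hRQ : ∀ v ∈ Q, R v ∈ Q := fun v hv => (hθd _ (map_of_pm_eq h1 hv)).1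
      have hRt : ∀ v ∈ Q, θ (R v) = t v := fun v hv => by
        rw [hR, (hθd _ (map_of_pm_eq h1 hv)).2, hτ, MulAut.mul_apply, MulAut.apply_inv_self]
      have hRiso : ∀ v ∈ Q, ∀ w ∈ Q, Φ.B (R v) (R w) = Φ.B v w := fun v hv w hw => by
        rw [← hθiso _ (hRQ v hv) _ (hRQ w hw), hRt v hv, hRt w hw,
          Form.isom_apply (hΓ (hT ht))]
      refine Φ.no_order_eight hnd hcard R hRQ hRiso fun v hv => ?_
      have hpos : ∀ u, t (θ u) = d (τ (θ u)) := fun u => by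
        rw [hτ, MulAut.mul_apply, MulAut.apply_inv_self]
      rw [← hh4 v hv]
      rcases hbal τ (T.mul_mem (T.inv_mem hd) ht) h1 h2' with hb | hb
      · have hRR : ∀ u ∈ Q, R (R u) = h⁻¹ u := fun u hu => by
          rw [← htt u hu, ← hRt u hu, hpos, hb _ (hRQ u hu), ← hR]
        rw [hRR _ (hRQ _ (hRQ v hv)), hRR v hv]
      · have hRR : ∀ u ∈ Q, R (R u) = (h⁻¹ u)⁻¹ := fun u hu => by
          rw [← htt u hu, ← hRt u hu, hpos, hb _ (hRQ u hu), map_inv, inv_inv, ← hR]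
        rw [hRR _ (hRQ _ (hRQ v hv)), hRR v hv, map_inv h⁻¹, inv_inv]
    · have htd' : Φ.Orth (pm (t * d) Q) Q := by
        have := (hfam (t * d) (Γ.mul_mem (hT ht) (hT hd)) 1 Γ.one_mem).resolve_left fun he => by
          rw [pm_one, pm_mul] at he
          exact htd (pm_injective t (by rw [httQ, he]))
        rwa [pm_one] at this
      have ht2 : ∀ v ∈ Q, (t * t) (d v) = d v := fun v hv => by
        have hmem : t (d v) ∈ pm (t * d) Q := by
          rw [pm_mul]; exact apply_mem_pm.2 (apply_mem_pm.2 hv)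
        have h' := hyQ' v hv
        rw [hfix htd'.symm _ hmem] at h'
        rw [MulAut.mul_apply, h']
      have h1 : pm (t * t) Q = Q := by rw [pm_mul, httQ]
      have h2' : pm (t * t) (pm d Q) = pm d Q := pm_eq_of_map fun w hw => by
        obtain ⟨v, hv, rfl⟩ := exists_of_mem_pm hw
        rw [ht2 v hv]
        exact apply_mem_pm.2 hv
      obtain ⟨v, hv, hve⟩ := exists_of_mem_pm (hθ e0 he0)
      have hm : h⁻¹ e0 ∈ Q := by rw [hhsurj e0 he0]; exact hhQ _ (Q.inv_mem he0)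
      have hb' : h⁻¹ e0 = e0 ∨ h⁻¹ e0 = e0⁻¹ := by
        rcases hbal (t * t) (T.mul_mem ht ht) h1 h2' with hb | hb <;>
          have := hb e0 he0 <;>
          rw [← hve, ht2 v hv, hve, MulAut.mul_apply, htt e0 he0] at this
        · exact Or.inl (hθinj _ he0 _ hm this).symm
        · rw [← map_inv θ] at this
          exact Or.inr (inv_eq_iff_eq_inv.1 (hθinj _ he0 _ (Q.inv_mem hm) this).symm)
      refine he01 (hirr e0 he0 ?_)
      rcases hb' with he | he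
      · exact Or.inl (by conv_lhs => rw [← he]
                         rw [MulAut.apply_inv_self])
      · refine Or.inr (inv_eq_iff_eq_inv.1 ?_)
        rw [← map_inv h, ← he, MulAut.apply_inv_self]

/-- An involutive isometry `x` with its plane moved by `z` to an orthogonal one. -/
structure TwoPlanes (Φ : Form W A) (x z : MulAut W) : Prop where
  hx : x ∈ Φ.isom
  hx2 : x ^ 2 = 1
  hz : z ∈ Φ.isom
  zz : ∀ w, z (z w) = w
  orth : Φ.Orth (pm z (invG x)) (invG x)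

namespace TwoPlanes

variable {Φ : Form W A} {x z : MulAut W}

theorem inv_apply (H : TwoPlanes Φ x z) (w : W) : z⁻¹ w = z w := by
  apply z.injective
  rw [MulAut.apply_inv_self, H.zz]

theorem apply_mem (H : TwoPlanes Φ x z) {a : W} (ha : a ∈ invG x) : z a ∈ fixG x :=
  Φ.le_fixG_of_orth H.hx H.hx2 H.orth.symm (apply_mem_pm.2 ha)

/-- `z` keeps the common fixed part. -/
theorem rest_mem (H : TwoPlanes Φ x z) {r : W} (hr : r ∈ fixG x ⊓ pm z (fixG x)) :
    z r ∈ fixG x ⊓ pm z (fixG x) := by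
  refine ⟨?_, apply_mem_pm.2 hr.1⟩
  have := mem_pm.1 hr.2
  rwa [H.inv_apply] at this

theorem B_coord (H : TwoPlanes Φ x z) {a b a' b' r s : W} (ha : a ∈ invG x) (hb : b ∈ invG x)
    (ha' : a' ∈ invG x) (hb' : b' ∈ invG x) (hr : r ∈ fixG x ⊓ pm z (fixG x))
    (hs : s ∈ fixG x ⊓ pm z (fixG x)) :
    Φ.B (a * z a' * r) (b * z b' * s) = Φ.B a b * Φ.B a' b' * Φ.B r s := by
  have o := Φ.invG_orth_fixG H.hx
  have e : ∀ c u : W, c ∈ invG x → u ∈ fixG x ⊓ pm z (fixG x) → Φ.B (z c) u = 1 := by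
    intro c u hc hu
    rw [← H.zz u, Form.isom_apply H.hz]
    exact o c hc _ (H.rest_mem hu).1
  simp only [map_mul, MonoidHom.mul_apply]
  rw [o a ha _ (H.apply_mem hb'), o a ha s hs.1, H.orth _ (apply_mem_pm.2 ha') b hb,
    Form.isom_apply H.hz, e a' s ha' hs, o.symm r hr.1 b hb, Φ.B_comm_one (e b' r hb' hr)]
  simp only [one_mul, mul_one]

theorem exists_coord (H : TwoPlanes Φ x z) (w : W) :
    ∃ a ∈ invG x, ∃ b ∈ invG x, ∃ r ∈ fixG x ⊓ pm z (fixG x), w = a * z b * r := by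
  obtain ⟨a, ha, w', hw', rfl⟩ := Φ.exists_decomp_top H.hx2 w
  obtain ⟨b, hb, u, hu, hbu⟩ := Φ.exists_decomp_top H.hx2 (z w')
  have hw : w' = z b * z u := by rw [← map_mul, hbu, H.zz]
  refine ⟨a, ha, b, hb, z u, ⟨?_, apply_mem_pm.2 hu⟩, by rw [hw, mul_assoc]⟩
  have : z u = (z b)⁻¹ * w' := by rw [hw, inv_mul_cancel_left]
  rw [this]
  exact (fixG x).mul_mem ((fixG x).inv_mem (H.apply_mem hb)) hw'

theorem coord_inj (H : TwoPlanes Φ x z) {a b a' b' r s : W} (ha : a ∈ invG x) (hb : b ∈ invG x)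
    (ha' : a' ∈ invG x) (hb' : b' ∈ invG x) (hr : r ∈ fixG x ⊓ pm z (fixG x))
    (hs : s ∈ fixG x ⊓ pm z (fixG x)) (h : a * z a' * r = b * z b' * s) :
    a = b ∧ a' = b' ∧ r = s := by
  have hnd := Φ.nondegOn_invG H.hx H.hx2
  have one : (1 : W) ∈ invG x := one_mem _
  have one' : (1 : W) ∈ fixG x ⊓ pm z (fixG x) := one_mem _
  have h1 : a = b := mul_inv_eq_one.1 <| hnd _ (mul_mem ha (inv_mem hb)) fun c hc => by
    have e : Φ.B (a * z a' * r) (c * z 1 * 1) = Φ.B (b * z b' * s) (c * z 1 * 1) := by rw [h]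
    rw [H.B_coord ha hc ha' one hr one', H.B_coord hb hc hb' one hs one'] at e
    simp only [map_one, mul_one] at e
    rw [Φ.B_mul_left, Φ.B_inv_left, e, mul_inv_cancel]
  have h2 : a' = b' := mul_inv_eq_one.1 <| hnd _ (mul_mem ha' (inv_mem hb')) fun c hc => by
    have e : Φ.B (a * z a' * r) (1 * z c * 1) = Φ.B (b * z b' * s) (1 * z c * 1) := by rw [h]
    rw [H.B_coord ha one ha' hc hr one', H.B_coord hb one hb' hc hs one'] at e
    simp only [map_one, mul_one, one_mul] at e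
    rw [Φ.B_mul_left, Φ.B_inv_left, e, mul_inv_cancel]
  subst h1 h2
  exact ⟨rfl, rfl, mul_left_cancel h⟩

end TwoPlanes

/-- A norm moving a root plane to an orthogonal one does not exist. -/
theorem norm_false {Φ : Form W A} {Γ Γ' T : Subgroup (MulAut W)} (hΓ : Γ ≤ Φ.isom)
    (hΓ' : Γ' ≤ Φ.isom) (h2 : IsPGroup 2 Γ) (h2' : IsPGroup 2 Γ') (hT : T ≤ Γ) (hT' : T ≤ Γ')
    (hn : ∀ g ∈ Γ, ∀ t ∈ T, g * t * g⁻¹ ∈ T) (hn' : ∀ g ∈ Γ', ∀ t ∈ T, g * t * g⁻¹ ∈ T)
    {g h t z : MulAut W} {m k : ℕ} (hg : g ∈ Γ) (hr : IsRoot g m) (hh : h ∈ Γ') (ht : t ∈ T)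
    (hk : IsRoot h k) (hk' : IsRootLike (t * h) k)
    (hzdef : z = (t * h) ^ 2 ^ (k - 1) * (h ^ 2 ^ (k - 1))⁻¹) (hz2 : z * z = 1)
    (horth : Φ.Orth (pm z (invG (g ^ 2 ^ (m - 1)))) (invG (g ^ 2 ^ (m - 1))))
    {a₀ : W} (ha₀ : a₀ ∈ invG (g ^ 2 ^ (m - 1)))
    (hne : (h ^ 2 ^ (k - 1)) (a₀ * z a₀⁻¹) ≠ a₀ * z a₀⁻¹) :
    False := by
  have := Φ.finite
  have hm2 := hr.two_le
  have hgi : g ∈ Φ.isom := hΓ hg
  have hzT : z ∈ T := hzdef ▸ norm_mem hn' hh ht _
  have hnd : Φ.NondegOn (invG (g ^ 2 ^ (m - 1))) := hr.nondegOn hgi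
  set x := g ^ 2 ^ (m - 1) with hx
  have H : TwoPlanes Φ x z :=
    { hx := Φ.isom.pow_mem hgi _
      hx2 := hr.axis_sq
      hz := hΓ (hT hzT)
      zz := fun w => by rw [← MulAut.mul_apply, hz2, MulAut.one_apply]
      orth := horth }
  have one' : (1 : W) ∈ fixG x ⊓ pm z (fixG x) := one_mem _
  have hgmap : ∀ {a : W}, a ∈ invG x → g a ∈ invG x := fun ha => hr.map_plane ha
  have hgimap : ∀ {a : W}, a ∈ invG x → g⁻¹ a ∈ invG x := fun {a} ha =>
    mem_pm.1 (show a ∈ pm g (invG x) by rwa [pm_eq_of_map fun w hw => hgmap hw])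
  have hgfix : ∀ w ∈ fixG x, g w = w := hr.fix
  have hgifix : ∀ w ∈ fixG x, g⁻¹ w = w := fun w hw => by
    conv_lhs => rw [← hgfix w hw]
    exact MulAut.inv_apply_self W g w
  have hxi : x⁻¹ = x := by
    rw [inv_eq_iff_mul_eq_one, ← pow_two, hr.axis_sq]
  -- the commutator of `g` and `z`, and its involution
  set d := g * z * g⁻¹ * z⁻¹ with hddef
  have hd : d ∈ T := T.mul_mem (hn g hg z hzT) (T.inv_mem hzT)
  have hdval : ∀ a b r : W, a ∈ invG x → b ∈ invG x → r ∈ fixG x ⊓ pm z (fixG x) →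
      d (a * z b * r) = g a * z (g⁻¹ b) * r := by
    intro a b r ha hb hr'
    rw [hddef, MulAut.mul_apply, MulAut.mul_apply, MulAut.mul_apply, H.inv_apply, map_mul z,
      map_mul z, H.zz, map_mul g⁻¹, map_mul g⁻¹, hgifix _ (H.apply_mem ha),
      hgifix _ (H.rest_mem hr').1, map_mul z, map_mul z, H.zz, H.zz, map_mul g, map_mul g,
      hgfix _ (H.apply_mem (hgimap hb)), hgfix _ hr'.1]
  set σ := x * z * x * z with hσdef
  have hσ : σ ∈ T := by
    have e : σ = x * z * x⁻¹ * z := by rw [hxi]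
    rw [e]
    exact T.mul_mem (hn x (Γ.pow_mem hg _) z hzT) hzT
  have hσval : ∀ a b r : W, a ∈ invG x → b ∈ invG x → r ∈ fixG x ⊓ pm z (fixG x) →
      σ (a * z b * r) = a⁻¹ * z b⁻¹ * r := by
    intro a b r ha hb hr'
    rw [hσdef, MulAut.mul_apply, MulAut.mul_apply, MulAut.mul_apply, map_mul z, map_mul z,
      H.zz, map_mul x, map_mul x, mem_fixG.1 (H.apply_mem ha), mem_invG.1 hb,
      mem_fixG.1 (H.rest_mem hr').1, map_mul z, map_mul z, H.zz, H.zz, map_mul x, map_mul x,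
      mem_invG.1 ha, mem_fixG.1 (H.apply_mem (inv_mem hb)), mem_fixG.1 hr'.1]
  clear_value d σ
  -- the plane of the root of the norm
  have hhi : h ∈ Φ.isom := hΓ' hh
  set Q := invG (h ^ 2 ^ (k - 1)) with hQdef
  set y := (t * h) ^ 2 ^ (k - 1) with hydef
  have hyx : y = z * h ^ 2 ^ (k - 1) := by rw [hzdef, inv_mul_cancel_right]
  have hz1 : z ≠ 1 := fun hz => by
    obtain ⟨a, ha, ha1⟩ := hr.exists_ne_one Φ
    exact ha1 (hnd.eq_one_of_orth horth.symm ha (by rwa [hz, pm_one]))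
  have hyQ : ∀ v ∈ Q, y v = v := fun v hv => by
    rcases hk' with hk' | hk'
    · rw [hydef, hk', MulAut.one_apply]
    · rcases root_planes hΓ' h2' (Γ'.mul_mem (hT' ht) hh) hh hk' hk with he | he
      · exfalso
        refine hz1 ?_
        rw [hzdef, hydef, Φ.eq_of_invG_eq (Φ.isom.pow_mem (hΓ' (Γ'.mul_mem (hT' ht) hh)) _)
          (Φ.isom.pow_mem hhi _) hk'.axis_sq hk.axis_sq he, mul_inv_cancel]
      · exact mem_fixG.1 (Φ.le_fixG_of_orth
          (Φ.isom.pow_mem (hΓ' (Γ'.mul_mem (hT' ht) hh)) _) hk'.axis_sq he hv)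
  have hzQ : ∀ v ∈ Q, z v = v⁻¹ := fun v hv => by
    have e := hyQ v hv
    rw [hyx, MulAut.mul_apply, mem_invG.1 hv, map_inv] at e
    exact inv_eq_iff_eq_inv.1 e
  have hQc : ∀ v ∈ Q, ∃ a ∈ invG x, ∃ r ∈ fixG x ⊓ pm z (fixG x), v = a * z a⁻¹ * r := by
    intro v hv
    obtain ⟨a, ha, b, hb, r, hr', rfl⟩ := H.exists_coord v
    have e := hzQ _ hv
    rw [map_mul, map_mul, H.zz, mul_inv, mul_inv, ← map_inv z, mul_comm (z a) b] at e
    have hb' := (H.coord_inj hb (inv_mem ha) ha (inv_mem hb) (H.rest_mem hr') (inv_mem hr') e).1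
    exact ⟨a, ha, r, hr', by rw [hb']⟩
  obtain ⟨v₀, hv₀, a, ha, r, hr₀, hv₀e, ha1⟩ : ∃ v ∈ Q, ∃ a ∈ invG x,
      ∃ r ∈ fixG x ⊓ pm z (fixG x), v = a * z a⁻¹ * r ∧ a ≠ 1 := by
    by_contra hc
    refine hne (mem_fixG.1 (Φ.mem_fixG_of_orth (Φ.isom.pow_mem hhi _) hk.axis_sq fun v hv => ?_))
    obtain ⟨a, ha, r, hr', rfl⟩ := hQc v hv
    have ha1 : a = 1 := by
      by_contra ha1
      exact hc ⟨_, hv, a, ha, r, hr', rfl, ha1⟩
    subst ha1
    rw [← mul_one (a₀ * z a₀⁻¹), H.B_coord (one_mem _) ha₀ (inv_mem (one_mem _)) (inv_mem ha₀)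
      hr' one', inv_one, Φ.B_one_left, Φ.B_one_left, map_one, one_mul, one_mul]
  have hgg : ∀ {b : W}, b ∈ invG x → g⁻¹ b = g b → b = 1 := fun {b} hb e => by
    refine hr.eq_one_of_sq_fix Φ hb ?_
    conv_lhs => rw [← e]
    exact MulAut.apply_inv_self W g b
  have hne1 : pm d Q ≠ Q := fun he => ha1 <| hgg ha <| by
    obtain ⟨a', ha', r', hr', e⟩ := hQc _ (map_of_pm_eq he hv₀)
    rw [hv₀e, hdval a a⁻¹ r ha (inv_mem ha) hr₀] at e
    obtain ⟨e1, e2, -⟩ := H.coord_inj (hgmap ha) ha' (hgimap (inv_mem ha)) (inv_mem ha') hr₀ hr' e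
    rw [map_inv, inv_inj] at e2
    rw [e1, e2]
  have hne2 : pm d Q ≠ pm σ Q := fun he => ha1 <| hgg ha <| by
    obtain ⟨u, hu, hue⟩ := exists_of_mem_pm (he ▸ apply_mem_pm.2 hv₀ : d v₀ ∈ pm σ Q)
    obtain ⟨a', ha', r', hr', rfl⟩ := hQc u hu
    rw [hσval a' a'⁻¹ r' ha' (inv_mem ha') hr', hv₀e, hdval a a⁻¹ r ha (inv_mem ha) hr₀] at hue
    obtain ⟨e1, e2, -⟩ :=
      H.coord_inj (inv_mem ha') (hgmap ha) (inv_mem (inv_mem ha')) (hgimap (inv_mem ha)) hr' hr₀
        hue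
    rw [inv_inv, map_inv] at e2
    rw [← e1, e2, inv_inv]
  have hfam : ∀ γ ∈ Γ', ∀ δ ∈ Γ', pm γ Q = pm δ Q ∨ Φ.Orth (pm γ Q) (pm δ Q) := by
    intro γ hγ δ hδ
    have := root_planes hΓ' h2' (Γ'.mul_mem (Γ'.mul_mem hγ hh) (Γ'.inv_mem hγ))
      (Γ'.mul_mem (Γ'.mul_mem hδ hh) (Γ'.inv_mem hδ)) (hk.conj γ) (hk.conj δ)
    rwa [conj_pow, conj_pow, invG_conj, invG_conj] at this
  have hQnd : Φ.NondegOn Q := hk.nondegOn hhi
  have hdQ : Φ.Orth (pm d Q) Q := by
    have := (hfam d (hT' hd) 1 Γ'.one_mem).resolve_left (by rwa [pm_one])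
    rwa [pm_one] at this
  have hdσQ : Φ.Orth (pm d Q) (pm σ Q) :=
    (hfam d (hT' hd) σ (hT' hσ)).resolve_left hne2
  rcases hfam σ (hT' hσ) 1 Γ'.one_mem with hσQ | hσQ <;> rw [pm_one] at hσQ
  swap
  · -- `σ Q` orthogonal to `Q`
    obtain ⟨e0, he0, he01⟩ := hk.exists_ne_one Φ
    refine he01 (hQnd e0 he0 fun w hw => ?_)
    obtain ⟨a, ha, r, hr₁, rfl⟩ := hQc e0 he0
    obtain ⟨b, hb, s, hs, rfl⟩ := hQc w hw
    have A1 := hdQ _ (apply_mem_pm.2 he0) _ hw
    have A2 := hdσQ _ (apply_mem_pm.2 he0) _ (apply_mem_pm.2 hw)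
    have A3 := hσQ _ (apply_mem_pm.2 he0) _ hw
    rw [hdval a a⁻¹ r ha (inv_mem ha) hr₁,
      H.B_coord (hgmap ha) hb (hgimap (inv_mem ha)) (inv_mem hb) hr₁ hs] at A1
    rw [hdval a a⁻¹ r ha (inv_mem ha) hr₁, hσval b b⁻¹ s hb (inv_mem hb) hs,
      H.B_coord (hgmap ha) (inv_mem hb) (hgimap (inv_mem ha)) (inv_mem (inv_mem hb)) hr₁ hs]
      at A2
    rw [hσval a a⁻¹ r ha (inv_mem ha) hr₁,
      H.B_coord (inv_mem ha) hb (inv_mem (inv_mem ha)) (inv_mem hb) hr₁ hs] at A3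
    rw [H.B_coord ha hb (inv_mem ha) (inv_mem hb) hr₁ hs]
    simp only [map_inv, inv_inv, MonoidHom.inv_apply] at A1 A2 A3 ⊢
    have hrs : Φ.B r s = 1 := by
      refine Φ.val_eq_one ?_
      have e := congrArg₂ (· * ·) A1 A2
      rw [mul_one] at e
      rw [← e, mul_mul_mul_comm (Φ.B (g a) b * _), mul_mul_mul_comm (Φ.B (g a) b)]
      simp only [mul_inv_cancel, one_mul]
    rw [hrs, mul_one] at A3 ⊢
    rw [← inv_inj, inv_one, mul_inv, A3]
  · -- `σ Q = Q`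
    have hσσ : ∀ v ∈ Q, σ (σ v) = v := fun v hv => by
      obtain ⟨a, ha, r, hr', rfl⟩ := hQc v hv
      rw [hσval a a⁻¹ r ha (inv_mem ha) hr',
        hσval a⁻¹ a⁻¹⁻¹ r (inv_mem ha) (inv_mem (inv_mem ha)) hr', inv_inv]
    rcases Φ.sq_fix_on_plane hk.prime hQnd hk.card_inv (hΓ' (hT' hσ))
      (fun v hv => map_of_pm_eq hσQ hv) hσσ with hs | hs
    · refine ha1 (Φ.eq_one_of_inv_eq ?_)
      have e := hs v₀ hv₀
      rw [hv₀e, hσval a a⁻¹ r ha (inv_mem ha) hr₀] at e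
      exact (H.coord_inj (inv_mem ha) ha (inv_mem (inv_mem ha)) (inv_mem ha) hr₀ hr₀ e).1
    let eh : W →* W := MonoidHom.mk' (fun a => a * z a⁻¹) fun a b => by
      rw [mul_inv, map_mul, mul_mul_mul_comm]
    have hem : ∀ a, eh a = a * z a⁻¹ := fun a => rfl
    have hQe : ∀ v ∈ Q, ∃ a ∈ invG x, eh a = v := fun v hv => by
      obtain ⟨a, ha, r, hr', rfl⟩ := hQc v hv
      have e := hs _ hv
      rw [hσval a a⁻¹ r ha (inv_mem ha) hr', mul_inv, mul_inv, ← map_inv z] at e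
      have hr1 : r = 1 := by
        refine Φ.eq_one_of_inv_eq ?_
        exact (mul_left_cancel e).symm
      exact ⟨a, ha, by rw [hr1, mul_one, hem]⟩
    have hcoord : ∀ b, eh b = b * z b⁻¹ * 1 := fun b => (mul_one _).symm
    have hinj : Function.Injective (eh.comp (invG x).subtype) := fun b c hbc => by
      have e : eh b.1 = eh c.1 := hbc
      rw [hcoord, hcoord] at e
      exact Subtype.ext (H.coord_inj b.2 c.2 (inv_mem b.2) (inv_mem c.2) one' one' e).1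
    have hle : Q ≤ (eh.comp (invG x).subtype).range := fun v hv => by
      obtain ⟨a, ha, e⟩ := hQe v hv
      exact ⟨⟨a, ha⟩, e⟩
    have hDcard : Nat.card (eh.comp (invG x).subtype).range = (2 ^ m - 1) ^ 2 := by
      rw [← Nat.card_congr (MonoidHom.ofInjective hinj).toEquiv, hr.card_inv]
    have hkm : k = m := by
      have hd' := Subgroup.card_dvd_of_le hle
      rw [hDcard, hk.card_inv] at hd'
      have e := (Nat.prime_dvd_prime_iff_eq hk.prime hr.prime).1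
        (hk.prime.dvd_of_dvd_pow ((dvd_pow_self _ two_ne_zero).trans hd'))
      have := Nat.one_le_two_pow (n := k)
      have := Nat.one_le_two_pow (n := m)
      exact Nat.pow_right_injective le_rfl (show 2 ^ k = 2 ^ m by omega)
    have hQeq : Q = (eh.comp (invG x).subtype).range :=
      Subgroup.eq_of_le_of_card_ge hle (by rw [hDcard, hk.card_inv, hkm])
    have hemem : ∀ b ∈ invG x, eh b ∈ Q := fun b hb => by rw [hQeq]; exact ⟨⟨b, hb⟩, rfl⟩
    have hgsq : ∀ b ∈ invG x, g (g b) = b⁻¹ := by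
      intro b hb
      have e : g b * g⁻¹ b = 1 := hnd _ (mul_mem (hgmap hb) (hgimap hb)) fun c hc => by
        have e := hdQ _ (apply_mem_pm.2 (hemem b hb)) _ (hemem c hc)
        rw [hcoord b, hcoord c, hdval b b⁻¹ 1 hb (inv_mem hb) one',
          H.B_coord (hgmap hb) hc (hgimap (inv_mem hb)) (inv_mem hc) one' one', Φ.B_one_left,
          mul_one, map_inv g⁻¹, Φ.B_inv_left, map_inv (Φ.B _), inv_inv] at e
        rw [Φ.B_mul_left]
        exact e
      have e' := congrArg g e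
      rw [map_mul, MulAut.apply_inv_self, map_one] at e'
      exact eq_inv_of_mul_eq_one_left e'
    have hm : m = 2 := by
      by_contra hne2
      obtain ⟨a, ha, ha1⟩ := hr.exists_ne_one Φ
      refine ha1 (Φ.eq_one_of_inv_eq ?_)
      rw [← mem_invG.1 ha, show 2 ^ (m - 1) = 4 * 2 ^ (m - 3) by
        rw [show (4 : ℕ) = 2 ^ 2 from rfl, ← pow_add]; congr 1; omega, pow_mul]
      refine pow_apply_of_fixed ?_ _
      rw [show g ^ 4 = g * g * (g * g) by simp only [pow_succ, pow_zero, one_mul, mul_assoc],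
        MulAut.mul_apply, MulAut.mul_apply,
        MulAut.mul_apply, hgsq a ha, map_inv, map_inv, hgsq a ha, inv_inv]
    subst hm
    subst hkm
    have hgi' : ∀ b ∈ invG x, g⁻¹ b = (g b)⁻¹ := fun b hb => by
      apply g.injective
      rw [MulAut.apply_inv_self, map_inv, hgsq b hb, inv_inv]
    let θ : W →* W := MonoidHom.mk' (fun v => v * z (v * (x v)⁻¹)) fun u v => by
      simp only [map_mul, mul_inv]; ac_rfl
    have hθe : ∀ b ∈ invG x, θ (eh b) = b * z b := fun b hb => by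
      show eh b * z (eh b * (x (eh b))⁻¹) = _
      rw [hem, map_mul x, mem_invG.1 hb, mem_fixG.1 (H.apply_mem (inv_mem hb)), mul_inv, inv_inv,
        mul_mul_mul_comm, mul_inv_cancel, mul_one, map_mul z, map_inv z, mul_assoc,
        inv_mul_cancel_left]
    have hde : ∀ b ∈ invG x, d (eh b) = g b * z (g b) := fun b hb => by
      rw [hcoord b, hdval b b⁻¹ 1 hb (inv_mem hb) one', mul_one, map_inv g⁻¹, hgi' b hb, inv_inv]
    have hdf : ∀ b ∈ invG x, d (b * z b) = eh (g b) := fun b hb => by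
      conv_lhs => rw [← mul_one (b * z b)]
      rw [hdval b b 1 hb hb one', mul_one, hgi' b hb, hem]
    refine swap_false (Φ := Φ) hΓ' h2' hT' hn' hh ht hd hk (Q := Q) rfl ?_ hdQ θ ?_ ?_ ?_ ?_ ?_
    · intro v hv
      obtain ⟨b, hb, rfl⟩ := hQe v hv
      rw [hde b hb, hdf _ (hgmap hb), hgsq b hb, map_inv]
    · intro v hv
      obtain ⟨b, hb, rfl⟩ := hQe v hv
      refine mem_pm.2 ?_
      have hc := hgimap hb
      have e : d (eh (g⁻¹ b)) = θ (eh b) := by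
        rw [hde _ hc, hθe b hb, MulAut.apply_inv_self]
      rw [← e, MulAut.inv_apply_self]
      exact hemem _ hc
    · intro u hu
      obtain ⟨b, hb, rfl⟩ := hQe u hu
      rw [hθe b hb, hdf b hb]
      exact ⟨hemem _ (hgmap hb), by rw [hθe _ (hgmap hb), hde b hb]⟩
    · intro u hu v hv
      obtain ⟨b, hb, rfl⟩ := hQe u hu
      obtain ⟨c, hc, rfl⟩ := hQe v hv
      rw [hθe b hb, hθe c hc, ← mul_one (b * z b), ← mul_one (c * z c),
        H.B_coord hb hc hb hc one' one', hcoord b, hcoord c,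
        H.B_coord hb hc (inv_mem hb) (inv_mem hc) one' one', Φ.B_inv_left, map_inv (Φ.B _),
        inv_inv]
    · intro v hv
      refine ⟨hyQ v hv, ?_⟩
      obtain ⟨b, hb, rfl⟩ := hQe v hv
      show y (d (eh b)) = _
      have hfix : (h ^ 2 ^ (2 - 1)) (d (eh b)) = d (eh b) :=
        mem_fixG.1 (Φ.le_fixG_of_orth (Φ.isom.pow_mem hhi _) hk.axis_sq hdQ.symm
          (apply_mem_pm.2 hv))
      rw [hyx, MulAut.mul_apply, hfix, hde b hb, map_mul, H.zz, mul_comm]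
    · intro τ hτ h1 h2τ
      have hτ' : ∀ b ∈ invG x, ∃ c ∈ invG x, ∃ c' ∈ invG x,
          τ (eh b) = eh c ∧ τ (b * z b) = c' * z c' := fun b hb => by
        obtain ⟨c, hc, hce⟩ := hQe _ (map_of_pm_eq h1 (hemem b hb))
        have hbmem : b * z b ∈ pm d Q := by
          have e : b * z b = d (eh (g⁻¹ b)) := by
            rw [hde _ (hgimap hb), MulAut.apply_inv_self]
          rw [e]
          exact apply_mem_pm.2 (hemem _ (hgimap hb))
        obtain ⟨u, hu, hue⟩ := exists_of_mem_pm (map_of_pm_eq h2τ hbmem)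
        obtain ⟨c', hc', rfl⟩ := hQe u hu
        exact ⟨c, hc, g c', hgmap hc', hce.symm, by rw [← hue, hde c' hc']⟩
      have hprod : ∀ {b c c' : W}, τ (eh b) = eh c → τ (b * z b) = c' * z c' →
          τ (b * b) = c * c' * z (c⁻¹ * c') * 1 := fun {b c c'} e1 e2 => by
        have e : b * b = eh b * (b * z b) := by
          rw [hem, mul_mul_mul_comm, ← map_mul, inv_mul_cancel, map_one, mul_one]
        rw [e, map_mul, e1, e2, hem, mul_one, mul_mul_mul_comm, ← map_mul]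
      have hpl := root_planes hΓ h2 (Γ.mul_mem (Γ.mul_mem (hT hτ) hg) (Γ.inv_mem (hT hτ))) hg
        (hr.conj τ) hr
      rw [conj_pow, invG_conj] at hpl
      rcases hpl with hp | hp
      · left
        intro v hv
        obtain ⟨b, hb, rfl⟩ := hQe v hv
        obtain ⟨c, hc, c', hc', e1, e2⟩ := hτ' b hb
        have hmem : τ (b * b) ∈ invG x := map_of_pm_eq hp (mul_mem hb hb)
        have e : τ (b * b) = τ (b * b) * z 1 * 1 := by rw [map_one, mul_one, mul_one]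
        have hcc := (H.coord_inj (mul_mem hc hc') hmem (mul_mem (inv_mem hc) hc') (one_mem _)
          one' one' ((hprod e1 e2).symm.trans e)).2.1
        rw [inv_mul_eq_one] at hcc
        rw [hθe b hb, e1, hθe c hc, e2, hcc]
      · right
        intro v hv
        obtain ⟨b, hb, rfl⟩ := hQe v hv
        obtain ⟨c, hc, c', hc', e1, e2⟩ := hτ' b hb
        have hcc : c * c' = 1 := hnd _ (mul_mem hc hc') fun w hw => by
          have e := hp _ (apply_mem_pm.2 (mul_mem hb hb)) _ hw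
          rw [hprod e1 e2, show w = w * z 1 * 1 by rw [map_one, mul_one, mul_one],
            H.B_coord (mul_mem hc hc') hw (mul_mem (inv_mem hc) hc') (one_mem _) one' one',
            map_one, map_one, mul_one, mul_one] at e
          exact e
        rw [hθe b hb, e1, hθe c hc, e2, eq_inv_of_mul_eq_one_right hcc, mul_inv, ← map_inv z]

/-- A norm of the second 2-group is an involution that fixes or inverts each root plane of the
first. -/
theorem norm_fixes {Φ : Form W A} {Γ Γ' T : Subgroup (MulAut W)} (hΓ : Γ ≤ Φ.isom)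
    (hΓ' : Γ' ≤ Φ.isom) (h2 : IsPGroup 2 Γ) (h2' : IsPGroup 2 Γ') (hT : T ≤ Γ) (hT' : T ≤ Γ')
    (hn : ∀ g ∈ Γ, ∀ t ∈ T, g * t * g⁻¹ ∈ T) (hn' : ∀ g ∈ Γ', ∀ t ∈ T, g * t * g⁻¹ ∈ T)
    {z : MulAut W} (hz : IsNorm Γ' T z) {g : MulAut W} {m : ℕ} (hg : g ∈ Γ) (hr : IsRoot g m) :
    z * z = 1 ∧ Commute z (g ^ 2 ^ (m - 1)) ∧
      ((∀ w ∈ invG (g ^ 2 ^ (m - 1)), z w = w) ∨ ∀ w ∈ invG (g ^ 2 ^ (m - 1)), z w = w⁻¹) := by
  have := Φ.finite
  obtain ⟨k, h, t, hh, ht, -, hk, hk', hzdef⟩ := hz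
  have hth : t * h ∈ Γ' := Γ'.mul_mem (hT' ht) hh
  have hzT : z ∈ T := hzdef ▸ norm_mem hn' hh ht _
  have hcomm : Commute ((t * h) ^ 2 ^ (k - 1)) (h ^ 2 ^ (k - 1)) :=
    rootLike_commute hΓ' h2' hth hh hk' hk
  have hxi : (h ^ 2 ^ (k - 1))⁻¹ = h ^ 2 ^ (k - 1) := by
    rw [inv_eq_iff_mul_eq_one, ← pow_two, hk.axis_sq]
  have hyi : ((t * h) ^ 2 ^ (k - 1))⁻¹ = (t * h) ^ 2 ^ (k - 1) := by
    rw [inv_eq_iff_mul_eq_one, ← pow_two, hk'.axis_sq]
  have hz2 : z * z = 1 := by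
    rw [hzdef, hxi, ← pow_two, hcomm.mul_pow, hk'.axis_sq, hk.axis_sq, one_mul]
  refine ⟨hz2, ?_⟩
  rcases root_planes hΓ h2 (Γ.mul_mem (Γ.mul_mem (hT hzT) hg) (Γ.inv_mem (hT hzT))) hg (hr.conj z)
    hr with hp | hp <;> rw [conj_pow, invG_conj] at hp
  · refine ⟨Φ.commute_of_map (Φ.isom.pow_mem (hΓ hg) _) (hΓ (hT hzT)) hr.axis_sq
      (fun a ha => map_of_pm_eq hp ha), ?_⟩
    exact Φ.sq_fix_on_plane hr.prime (hr.nondegOn (hΓ hg)) hr.card_inv (hΓ (hT hzT))
      (fun a ha => map_of_pm_eq hp ha)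
      (fun w _ => by rw [← MulAut.mul_apply, hz2, MulAut.one_apply])
  · exfalso
    obtain ⟨a, ha, ha1⟩ := hr.exists_ne_one Φ
    by_cases hfix : (h ^ 2 ^ (k - 1)) (a * z a⁻¹) = a * z a⁻¹
    swap
    · exact norm_false hΓ hΓ' h2 h2' hT hT' hn hn' hg hr hh ht
        (hk.resolve_left fun e => hfix (by rw [e, MulAut.one_apply])) hk' hzdef hz2 hp ha hfix
    by_cases hfix' : ((t * h) ^ 2 ^ (k - 1)) (a * z a⁻¹) = a * z a⁻¹
    · refine ha1 ((hr.nondegOn (hΓ hg)).eq_one_of_orth hp.symm ha ?_)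
      have ez : ∀ w, z w = ((t * h) ^ 2 ^ (k - 1)) ((h ^ 2 ^ (k - 1)) w) := fun w => by
        rw [hzdef, hxi, MulAut.mul_apply]
      have zz : ∀ w, z (z w) = w := fun w => by rw [← MulAut.mul_apply, hz2, MulAut.one_apply]
      have e : z (a * z a⁻¹) = a * z a⁻¹ := by
        rw [ez (a * z a⁻¹), hfix, hfix']
      have e' : z (a * z a⁻¹) = (a * z a⁻¹)⁻¹ := by
        rw [map_mul, zz, mul_inv, map_inv z a, inv_inv, mul_comm]
      have h0 : a * z a⁻¹ = 1 := Φ.eq_one_of_inv_eq (e'.symm.trans e)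
      rw [map_inv, mul_inv_eq_one] at h0
      rw [h0]
      exact apply_mem_pm.2 ha
    · refine norm_false hΓ hΓ' h2 h2' hT hT' hn hn' hg hr hth (t := t⁻¹) (T.inv_mem ht)
        (hk'.resolve_left fun e => hfix' (by rw [e, MulAut.one_apply]))
        (by rwa [inv_mul_cancel_left]) ?_ hz2 hp ha hfix'
      rw [inv_mul_cancel_left, hyi, hzdef, hxi]
      exact hcomm.eq

end CfsgLib.TwoLength
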