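import Cfsg.Agent.Lib.TwoLength.WeightExp
import Cfsg.Agent.Lib.TwoLength.NormFix
import Cfsg.Agent.Lib.TwoLength.Layer

/-!
# The norms at the weights: the exponent case

If every 2-element `g` satisfies `(g - 1) ^ (2 ^ (e + 2) - 1) = 0` then, with `Q = 2 ^ (e + 1)`, the
norms `(t g) ^ Q (g ^ Q)⁻¹` fix all weights, and those with `t` fixing all weights generate a
subgroup whose own norms are trivial.
-/

set_option autoImplicit false
set_option linter.style.haveILetI false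
set_option linter.unusedSectionVars false

namespace CfsgLib.TwoLength

open Module Cfsg

theorem pow_mul_inv_pow_mem {G : Type*} [Group G] {N : Subgroup G} {g t : G}
    (hn : ∀ x ∈ N, g * x * g⁻¹ ∈ N) (ht : t ∈ N) (n : ℕ) : (t * g) ^ n * (g ^ n)⁻¹ ∈ N := by
  induction n with
  | zero => simp
  | succ n ih =>
    rw [pow_succ', pow_succ', show t * g * (t * g) ^ n * (g * g ^ n)⁻¹ =
      t * (g * ((t * g) ^ n * (g ^ n)⁻¹) * g⁻¹) by group]
    exact N.mul_mem ht (hn _ ih)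

section CharTwo

variable {K : Type*} [Field K] [CharP K 2] {V : Type*} [AddCommGroup V] [Module K V]

theorem endAdd_self_eq_zero (f : End K V) : f + f = 0 := by
  rw [← two_smul K f, CharTwo.two_eq_zero, zero_smul]

theorem sub_one_pow_two_pow (f : End K V) (n : ℕ) : (f - 1) ^ 2 ^ n = f ^ 2 ^ n - 1 := by
  induction n with
  | zero => simp
  | succ n ih =>
    rw [pow_succ, pow_mul, pow_mul, ih, pow_two, pow_two]
    have h : ∀ y : End K V, (y - 1) * (y - 1) = y * y - 1 - (y + y) + (1 + 1) := fun y => by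
      noncomm_ring
    rw [h, endAdd_self_eq_zero, endAdd_self_eq_zero, sub_zero, add_zero]

theorem sub_one_pow_eq_sum (f : End K V) (n : ℕ) :
    (f - 1) ^ (2 ^ n - 1) = ∑ j ∈ Finset.range (2 ^ n), f ^ j := by
  induction n with
  | zero => simp
  | succ n ih =>
    have h1 := Nat.one_le_two_pow (n := n)
    rw [pow_succ 2 n, mul_two, Finset.sum_range_add, show 2 ^ n + 2 ^ n - 1 = 2 ^ n + (2 ^ n - 1) by
      omega, pow_add, ih, sub_one_pow_two_pow]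
    simp only [pow_add]
    rw [← Finset.mul_sum, sub_mul, one_mul, sub_eq_neg_add, neg_eq_of_add_eq_zero_left
      (endAdd_self_eq_zero (∑ j ∈ Finset.range (2 ^ n), f ^ j))]

end CharTwo

section Weights

variable {H : Type*} [Group H] [Finite H] {K : Type*} [Field K] [IsAlgClosed K] [CharP K 2]
  {V : Type*} [AddCommGroup V] [Module K V] [FiniteDimensional K V] {ρ : Representation K H V}
  {R : Subgroup H} [hR : Fact (IsOddClassTwo R)]

/-- The orbit of a weight under a 2-element `g` with `(g - 1) ^ (2 ^ (e + 2) - 1) = 0` has length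
`2 ^ i`, `i ≤ e + 1`, and the element is root-like on the symplectic space. -/
theorem wt_period (e : ℕ) {g : H} (hg : IsPGroup 2 (Subgroup.zpowers g))
    (h0 : (ρ g - 1 : End K V) ^ (2 ^ (e + 2) - 1) = 0) (ψ : Wt ρ R) :
    ∃ i ≤ e + 1, MulAction.period g ψ = 2 ^ i ∧
      ∀ h : g ^ 2 ^ i • ψ = ψ, IsRootLike (wAct ψ ⟨g ^ 2 ^ i, h⟩) (e + 2 - i) := by
  classical
  haveI : Fact (Nat.Prime 2) := ⟨Nat.prime_two⟩
  obtain ⟨k, hk⟩ : ∃ k, MulAction.period g ψ = 2 ^ k := by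
    obtain ⟨j, hj⟩ := IsPGroup.iff_card.1 hg
    rw [Nat.card_zpowers] at hj
    obtain ⟨k, -, hk⟩ := (Nat.dvd_prime_pow Nat.prime_two).1
      (hj ▸ MulAction.period_dvd_orderOf g ψ)
    exact ⟨k, hk⟩
  -- below the orbit length the weights differ
  have hinj : ∀ i ≤ k, Function.Injective fun a : Fin (2 ^ i) => g ^ (a : ℕ) • ψ := by
    intro i hi a b hab
    by_contra hne
    wlog hlt : (a : ℕ) < (b : ℕ) generalizing a b
    · exact this hab.symm (fun h => hne h.symm) (lt_of_le_of_ne (not_lt.1 hlt)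
        fun h => hne (Fin.ext h.symm))
    have h1 : g ^ ((b : ℕ) - (a : ℕ)) • ψ = ψ := by
      have h2 : g ^ (a : ℕ) • (g ^ ((b : ℕ) - (a : ℕ)) • ψ) = g ^ (a : ℕ) • ψ := by
        rw [← mul_smul, ← pow_add, Nat.add_sub_cancel' hlt.le]
        exact hab.symm
      exact smul_left_cancel _ h2
    have h3 := Nat.le_of_dvd (by omega) (MulAction.pow_smul_eq_iff_period_dvd.1 h1)
    have h4 : 2 ^ i ≤ 2 ^ k := Nat.pow_le_pow_right (by norm_num) hi
    have := b.isLt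
    omega
  -- so the partial sums vanish only trivially
  have hcomp : ∀ i ≤ k, ∀ w ∈ wtSpace ρ R ψ.1,
      ((ρ g - 1 : End K V) ^ (2 ^ i - 1)) w = 0 → w = 0 := by
    intro i hi w hw hw0
    rw [sub_one_pow_eq_sum, LinearMap.sum_apply, Finset.sum_range] at hw0
    have h5 := (iSupIndep_iff_finsetSum_eq_zero_imp_eq_zero _).1
      ((iSupIndep_wtSpace (ρ := ρ) hR.out).comp (hinj i hi)) Finset.univ
      (fun a : Fin (2 ^ i) => ((ρ g) ^ (a : ℕ)) w)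
      (fun a _ => by
        rw [← map_pow]
        show (ρ (g ^ (a : ℕ))) w ∈ wtSpace ρ R (g ^ (a : ℕ) • ψ).1
        rw [← Wt.map_space (g ^ (a : ℕ)) ψ]
        exact Submodule.mem_map_of_mem hw) hw0
      ⟨0, Nat.two_pow_pos i⟩ (Finset.mem_univ _)
    simpa using h5
  have hk1 : k ≤ e + 1 := by
    by_contra hlt
    refine ψ.2.ne_bot ((Submodule.eq_bot_iff _).2 fun v hv => hcomp (e + 2) (by omega) v hv ?_)
    rw [h0, LinearMap.zero_apply]
  refine ⟨k, hk1, hk, fun h => ?_⟩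
  refine wt_exp ψ h (hg.to_le (Subgroup.zpowers_le.2 (Subgroup.pow_mem _
    (Subgroup.mem_zpowers g) _))) _ (by omega) fun v hv => ?_
  have hmem : ∀ n, ((ρ (g ^ 2 ^ k) - 1 : End K V) ^ n) v ∈ wtSpace ρ R ψ.1 := by
    intro n
    induction n with
    | zero => exact hv
    | succ n ih =>
      rw [pow_succ', End.mul_apply]
      exact sub_mem (rho_mem_of_stab (MulAction.mem_stabilizer_iff.2 h) ih) ih
  refine hcomp k le_rfl _ (hmem _) ?_
  rw [← End.mul_apply, map_pow, ← sub_one_pow_two_pow, ← pow_mul, ← pow_add,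
    show 2 ^ k - 1 + 2 ^ k * (2 ^ (e + 2 - k) - 1) = 2 ^ (e + 2) - 1 by
      have e1 : 2 ^ k * 2 ^ (e + 2 - k) = 2 ^ (e + 2) := by
        rw [← pow_add]; congr 1; omega
      have := Nat.one_le_two_pow (n := k)
      have : 2 ^ k * 1 ≤ 2 ^ k * 2 ^ (e + 2 - k) :=
        Nat.mul_le_mul_left _ Nat.one_le_two_pow
      rw [Nat.mul_sub, mul_one, e1]; omega, h0, LinearMap.zero_apply]

theorem smul_pow_eq (e : ℕ) {g : H} (hg : IsPGroup 2 (Subgroup.zpowers g))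
    (h0 : (ρ g - 1 : End K V) ^ (2 ^ (e + 2) - 1) = 0) (ψ : Wt ρ R) :
    g ^ 2 ^ (e + 1) • ψ = ψ := by
  obtain ⟨i, hi, hp, -⟩ := wt_period e hg h0 ψ
  exact MulAction.pow_smul_eq_iff_period_dvd.2 (hp ▸ pow_dvd_pow 2 hi)

/-- An element fixing all weights does not change periods. -/
theorem period_mul_left {g t : H} (ht : t ∈ fixWts ρ) (ψ : Wt ρ R) :
    MulAction.period (t * g) ψ = MulAction.period g ψ := by
  have key : ∀ n : ℕ, (t * g) ^ n • ψ = g ^ n • ψ := fun n => by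
    have h : (t * g) ^ n * (g ^ n)⁻¹ ∈ fixWts ρ :=
      pow_mul_inv_pow_mem (fun x hx => (mem_fixWts.1 hx).conj g) ht n
    conv_lhs => rw [show (t * g) ^ n = (t * g) ^ n * (g ^ n)⁻¹ * g ^ n by group, mul_smul]
    exact mem_fixWts.1 h R hR _
  refine Nat.dvd_antisymm ?_ ?_ <;> rw [← MulAction.pow_smul_eq_iff_period_dvd]
  · rw [key, MulAction.pow_period_smul]
  · rw [← key, MulAction.pow_period_smul]

theorem wAct_congr {ψ : Wt ρ R} {a b : MulAction.stabilizer H ψ} (h : (a : H) = b) :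
    wAct ψ a = wAct ψ b :=
  congrArg _ (Subtype.ext h)

/-- The image of a subgroup in the isometries of the symplectic space of a weight. -/
noncomputable def wImage (ψ : Wt ρ R) (P : Subgroup H) : Subgroup (MulAut (WSpace ψ)) :=
  (P.subgroupOf (MulAction.stabilizer H ψ)).map (wAct ψ)

theorem mem_wImage {ψ : Wt ρ R} {P : Subgroup H} {a : MulAction.stabilizer H ψ}
    (ha : (a : H) ∈ P) : wAct ψ a ∈ wImage ψ P :=
  Subgroup.mem_map_of_mem _ ha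

theorem wImage_le_isom (ψ : Wt ρ R) (P : Subgroup H) : wImage ψ P ≤ (wForm ψ).isom := by
  rintro _ ⟨a, -, rfl⟩
  exact wAct_isom ψ a

theorem isPGroup_wImage {p : ℕ} (ψ : Wt ρ R) {P : Subgroup H} (hP : IsPGroup p P) :
    IsPGroup p (wImage ψ P) :=
  (hP.comap_of_injective _ (MulAction.stabilizer H ψ).subtype_injective).map _

theorem wImage_mono {ψ : Wt ρ R} {P P' : Subgroup H} (h : P ≤ P') : wImage ψ P ≤ wImage ψ P' :=
  Subgroup.map_mono fun _ ha => h ha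

theorem wImage_normalized {ψ : Wt ρ R} {P N : Subgroup H}
    (h : ∀ g ∈ P, ∀ t ∈ N, g * t * g⁻¹ ∈ N) :
    ∀ g ∈ wImage ψ P, ∀ t ∈ wImage ψ N, g * t * g⁻¹ ∈ wImage ψ N := by
  rintro _ ⟨a, ha, rfl⟩ _ ⟨b, hb, rfl⟩
  rw [← map_inv, ← map_mul, ← map_mul]
  exact mem_wImage (h _ ha _ hb)

end Weights

section Norms

universe u

variable {H : Type u} [Group H] [Finite H] {K : Type*} [Field K] [IsAlgClosed K] [CharP K 2]
  {V : Type*} [AddCommGroup V] [Module K V] [FiniteDimensional K V] {ρ : Representation K H V}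

/-- `w` is `1` or inversion on each plane of a `g ^ Q`, `g ∈ S`. -/
def PlaneSign (ρ : Representation K H V) (S : Subgroup H) (Q : ℕ) (w : H) : Prop :=
  ∀ g ∈ S, ∀ (R : Subgroup H) (_ : Fact (IsOddClassTwo R)) (ψ : Wt ρ R) (hw : w • ψ = ψ)
    (hx : g ^ Q • ψ = ψ),
    (∀ v ∈ invG (wAct ψ ⟨g ^ Q, hx⟩), wAct ψ ⟨w, hw⟩ v = v) ∨
      ∀ v ∈ invG (wAct ψ ⟨g ^ Q, hx⟩), wAct ψ ⟨w, hw⟩ v = v⁻¹

theorem tTwo_inf_fixWts_conj {S : Sylow 2 H} {l : H}
    (hl : l ∈ Subgroup.normalizer (tTwo S : Set H)) {t : H} (ht : t ∈ tTwo S ⊓ fixWts ρ) :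
    l * t * l⁻¹ ∈ tTwo S ⊓ fixWts ρ :=
  ⟨(Subgroup.mem_normalizer_iff.1 hl t).1 ht.1, (mem_fixWts.1 ht.2).conj l⟩

theorem sylow_le_normalizer_tTwo {S : Sylow 2 H} :
    (S : Subgroup H) ≤ Subgroup.normalizer (tTwo S : Set H) := by
  intro g hg
  refine Subgroup.mem_normalizer_iff.2 fun n => ⟨fun hn => conj_mem_tTwo hg hn, fun hn => ?_⟩
  have h := conj_mem_tTwo ((S : Subgroup H).inv_mem hg) hn
  simpa [mul_assoc] using h

variable (e : ℕ)
  (hyp : ∀ g : H, IsPGroup 2 (Subgroup.zpowers g) →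
    (ρ g - 1 : End K V) ^ (2 ^ (e + 2) - 1) = 0)
include hyp

theorem pow_mem_fixWts {g : H} (hg : IsPGroup 2 (Subgroup.zpowers g)) :
    g ^ 2 ^ (e + 1) ∈ fixWts ρ :=
  mem_fixWts.2 fun _ hR ψ => by haveI := hR; exact smul_pow_eq e hg (hyp g hg) ψ

/-- The norms of `T` fix all weights. -/
theorem norm_mem_fixWts (S : Sylow 2 H) {g t : H} (hg : g ∈ (S : Subgroup H))
    (ht : t ∈ tTwo S) :
    (t * g) ^ 2 ^ (e + 1) * (g ^ 2 ^ (e + 1))⁻¹ ∈ tTwo S ⊓ fixWts ρ := by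
  have hS : ∀ {x : H}, x ∈ (S : Subgroup H) → IsPGroup 2 (Subgroup.zpowers x) := fun hx =>
    S.2.to_le (Subgroup.zpowers_le.2 hx)
  refine ⟨pow_mul_inv_pow_mem (N := tTwo S) (fun x hx => conj_mem_tTwo hg hx) ht _, ?_⟩
  exact (fixWts ρ).mul_mem (pow_mem_fixWts e hyp (hS ((S : Subgroup H).mul_mem ht.1 hg)))
    ((fixWts ρ).inv_mem (pow_mem_fixWts e hyp (hS hg)))

/-- The conjugate of a norm is `1` or inversion on the planes of `S`. -/
theorem planeSign_norm (S : Sylow 2 H) {l g t : H}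
    (hl : l ∈ Subgroup.normalizer (tTwo S : Set H)) (hg : g ∈ (S : Subgroup H))
    (ht : t ∈ tTwo S ⊓ fixWts ρ) :
    PlaneSign ρ S (2 ^ (e + 1)) (l * ((t * g) ^ 2 ^ (e + 1) * (g ^ 2 ^ (e + 1))⁻¹) * l⁻¹) := by
  intro s hs R hR ψ hw hx
  set T₀ := tTwo S ⊓ fixWts ρ with hT₀
  set S' := (S : Subgroup H).map (MulAut.conj l).toMonoidHom with hS'
  set g' := l * g * l⁻¹ with hg'
  set t' := l * t * l⁻¹ with ht'
  have ht'T : t' ∈ T₀ := tTwo_inf_fixWts_conj hl ht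
  have hg'S : g' ∈ S' := ⟨g, hg, rfl⟩
  have hS'2 : IsPGroup 2 S' := S.2.map _
  have hS'N : S' ≤ Subgroup.normalizer (tTwo S : Set H) := by
    rintro _ ⟨x, hx', rfl⟩
    exact mul_mem (mul_mem hl (sylow_le_normalizer_tTwo hx')) (inv_mem hl)
  have hT₀S' : T₀ ≤ S' := fun x hx' =>
    ⟨l⁻¹ * x * l⁻¹⁻¹, (tTwo_inf_fixWts_conj (inv_mem hl) hx').1.1, by simp [mul_assoc]⟩
  have h2' : ∀ {x : H}, x ∈ S' → IsPGroup 2 (Subgroup.zpowers x) := fun hx' =>
    hS'2.to_le (Subgroup.zpowers_le.2 hx')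
  have htg' : t' * g' ∈ S' := S'.mul_mem (hT₀S' ht'T) hg'S
  obtain ⟨i, hi, hpi, hri⟩ := wt_period e (h2' hg'S) (hyp g' (h2' hg'S)) ψ
  obtain ⟨i', -, hpi', hri'⟩ := wt_period e (h2' htg') (hyp _ (h2' htg')) ψ
  rw [period_mul_left ht'T.2, hpi] at hpi'
  obtain rfl : i = i' := Nat.pow_right_injective le_rfl hpi'
  have hG : g' ^ 2 ^ i • ψ = ψ := MulAction.pow_smul_eq_iff_period_dvd.2 (hpi ▸ dvd_rfl)
  set c := (t' * g') ^ 2 ^ i * (g' ^ 2 ^ i)⁻¹ with hc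
  have hcT : c ∈ T₀ :=
    pow_mul_inv_pow_mem (fun x hx' => tTwo_inf_fixWts_conj (hS'N hg'S) hx') ht'T _
  have hcψ : c • ψ = ψ := mem_fixWts.1 hcT.2 R hR ψ
  have hcG : c * g' ^ 2 ^ i = (t' * g') ^ 2 ^ i := inv_mul_cancel_right _ _
  have hnorm : IsNorm (wImage ψ S') (wImage ψ T₀)
      (wAct ψ ⟨l * ((t * g) ^ 2 ^ (e + 1) * (g ^ 2 ^ (e + 1))⁻¹) * l⁻¹, hw⟩) := by
    refine ⟨e + 2 - i, wAct ψ ⟨g' ^ 2 ^ i, hG⟩, wAct ψ ⟨c, hcψ⟩, mem_wImage (S'.pow_mem hg'S _),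
      mem_wImage hcT, by omega, hri hG, ?_, ?_⟩
    · rw [← map_mul]
      have h' : (t' * g') ^ 2 ^ i • ψ = ψ := by rw [← hcG, mul_smul, hG, hcψ]
      rw [wAct_congr (b := ⟨(t' * g') ^ 2 ^ i, h'⟩) hcG]
      exact hri' h'
    · simp only [← map_mul, ← map_pow, ← map_inv]
      refine wAct_congr ?_
      simp only [Subgroup.coe_mul, SubmonoidClass.coe_pow, Subgroup.coe_inv]
      rw [hcG, ← pow_mul, ← pow_mul, ← pow_add, show i + (e + 2 - i - 1) = e + 1 by omega, hg',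
        ht']
      rw [show l * t * l⁻¹ * (l * g * l⁻¹) = l * (t * g) * l⁻¹ by group, conj_pow, conj_pow]
      group
  obtain ⟨i₀, hi₀, hp₀, hr₀⟩ := wt_period e (S.2.to_le (Subgroup.zpowers_le.2 hs))
    (hyp s (S.2.to_le (Subgroup.zpowers_le.2 hs))) ψ
  have hG₀ : s ^ 2 ^ i₀ • ψ = ψ := MulAction.pow_smul_eq_iff_period_dvd.2 (hp₀ ▸ dvd_rfl)
  have hax : wAct ψ ⟨s ^ 2 ^ (e + 1), hx⟩ = (wAct ψ ⟨s ^ 2 ^ i₀, hG₀⟩) ^ 2 ^ (e + 2 - i₀ - 1) := by
    rw [← map_pow]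
    refine wAct_congr ?_
    simp only [SubmonoidClass.coe_pow, ← pow_mul, ← pow_add]
    congr 2; omega
  rcases hr₀ hG₀ with h1 | hroot
  · left
    intro v hv
    rw [hax, h1] at hv
    rw [(wForm ψ).eq_one_of_inv_eq (show v⁻¹ = v by rw [← mem_invG.1 hv]; rfl), map_one]
  · rw [hax]
    exact (norm_fixes (wImage_le_isom ψ (S : Subgroup H)) (wImage_le_isom ψ S')
      (isPGroup_wImage ψ S.2) (isPGroup_wImage ψ hS'2)
      (wImage_mono (inf_le_left.trans inf_le_left)) (wImage_mono hT₀S')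
      (wImage_normalized fun x hx' y hy => tTwo_inf_fixWts_conj (sylow_le_normalizer_tTwo hx') hy)
      (wImage_normalized fun x hx' y hy => tTwo_inf_fixWts_conj (hS'N hx') hy)
      hnorm (mem_wImage ((S : Subgroup H).pow_mem hs _)) hroot).2.2

/-- The planes of `g ^ Q` lie in those of `(a g) ^ Q`. -/
theorem invG_le_of_planeSign (S : Sylow 2 H) {A : Subgroup H} (hAT : A ≤ tTwo S ⊓ fixWts ρ)
    (hAinv : ∀ l ∈ Subgroup.normalizer (tTwo S : Set H), ∀ a ∈ A, l * a * l⁻¹ ∈ A)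
    (hsign : ∀ a ∈ A, PlaneSign ρ S (2 ^ (e + 1)) a)
    {g a : H} (hg : g ∈ (S : Subgroup H)) (ha : a ∈ A) {R : Subgroup H}
    [hR : Fact (IsOddClassTwo R)] (ψ : Wt ρ R) (hx : g ^ 2 ^ (e + 1) • ψ = ψ)
    (hy : (a * g) ^ 2 ^ (e + 1) • ψ = ψ) :
    invG (wAct ψ ⟨g ^ 2 ^ (e + 1), hx⟩) ≤ invG (wAct ψ ⟨(a * g) ^ 2 ^ (e + 1), hy⟩) := by
  obtain ⟨i, hi, hp, hr⟩ := wt_period e (S.2.to_le (Subgroup.zpowers_le.2 hg))
    (hyp g (S.2.to_le (Subgroup.zpowers_le.2 hg))) ψ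
  have hG : g ^ 2 ^ i • ψ = ψ := MulAction.pow_smul_eq_iff_period_dvd.2 (hp ▸ dvd_rfl)
  set b := (a * g) ^ 2 ^ i * (g ^ 2 ^ i)⁻¹ with hb
  have hbA : b ∈ A :=
    pow_mul_inv_pow_mem (fun x hx' => hAinv g (sylow_le_normalizer_tTwo hg) x hx') ha _
  have hbψ : b • ψ = ψ := mem_fixWts.1 (hAT hbA).2 R hR ψ
  have hax : wAct ψ ⟨g ^ 2 ^ (e + 1), hx⟩ = (wAct ψ ⟨g ^ 2 ^ i, hG⟩) ^ 2 ^ (e + 2 - i - 1) := by
    rw [← map_pow]
    refine wAct_congr ?_
    simp only [SubmonoidClass.coe_pow, ← pow_mul, ← pow_add]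
    congr 2; omega
  have hay : wAct ψ ⟨(a * g) ^ 2 ^ (e + 1), hy⟩ =
      (wAct ψ ⟨b, hbψ⟩ * wAct ψ ⟨g ^ 2 ^ i, hG⟩) ^ 2 ^ (e + 2 - i - 1) := by
    rw [← map_mul, ← map_pow]
    refine wAct_congr ?_
    simp only [SubmonoidClass.coe_pow, Subgroup.coe_mul, hb, inv_mul_cancel_right, ← pow_mul,
      ← pow_add]
    congr 2; omega
  intro v hv
  rcases hr hG with h1 | hroot
  · rw [hax, h1] at hv
    rw [(wForm ψ).eq_one_of_inv_eq (show v⁻¹ = v by rw [← mem_invG.1 hv]; rfl)]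
    exact one_mem _
  rw [mem_invG, hay, ← mem_invG.1 hv]
  have hs := hsign b hbA g hg R hR ψ hbψ hx
  rw [hax] at hv hs ⊢
  set B := wAct ψ ⟨b, hbψ⟩
  set G := wAct ψ ⟨g ^ 2 ^ i, hG⟩
  have hsq : ∀ v ∈ invG (G ^ 2 ^ (e + 2 - i - 1)), ((B * G) ^ 2) v = (G ^ 2) v := by
    intro v hv
    have hGv := hroot.map_plane hv
    rw [pow_two, pow_two]
    simp only [MulAut.mul_apply]
    rcases hs with hs | hs
    · rw [hs _ hGv, hs _ (hroot.map_plane hGv)]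
    · rw [hs _ hGv, map_inv G, map_inv B, hs _ (hroot.map_plane hGv), inv_inv]
  have hpow : ∀ n, ∀ v ∈ invG (G ^ 2 ^ (e + 2 - i - 1)),
      (((B * G) ^ 2) ^ n) v = ((G ^ 2) ^ n) v := by
    intro n
    induction n with
    | zero => intro v _; rfl
    | succ n ih =>
      intro v hv
      rw [pow_succ ((B * G) ^ 2) n, pow_succ (G ^ 2) n, MulAut.mul_apply, MulAut.mul_apply, hsq v hv,
        ih _ (pow_mem_of_map (fun w hw => hroot.map_plane hw) 2 v hv)]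
  have hM : 2 ^ (e + 2 - i - 1) = 2 * 2 ^ (e + 2 - i - 2) := by
    have := hroot.two_le
    rw [← pow_succ']; congr 1; omega
  have h := hpow (2 ^ (e + 2 - i - 2)) v hv
  rwa [← pow_mul, ← pow_mul, ← hM] at h

/-- The subgroup between. -/
theorem exists_norm_subgroup (hsol : IsPSolvable 2 H) (hO : pCore 2 H = ⊥)
    (hρ : Function.Injective ρ) (S : Sylow 2 H) :
    ∃ A : Subgroup H, A ≤ tTwo S ⊓ fixWts ρ ∧
      (∀ l ∈ Subgroup.normalizer (tTwo S : Set H), ∀ a ∈ A, l * a * l⁻¹ ∈ A) ∧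
      (∀ g ∈ (S : Subgroup H), ∀ t ∈ tTwo S ⊓ fixWts ρ,
        (t * g) ^ 2 ^ (e + 1) * (g ^ 2 ^ (e + 1))⁻¹ ∈ A) ∧
      ∀ g ∈ (S : Subgroup H), ∀ a ∈ A, (a * g) ^ 2 ^ (e + 1) * (g ^ 2 ^ (e + 1))⁻¹ = 1 := by
  set T₀ := tTwo S ⊓ fixWts ρ with hT₀
  set A := Subgroup.closure {w : H | ∃ l ∈ Subgroup.normalizer (tTwo S : Set H),
    ∃ g ∈ (S : Subgroup H), ∃ t ∈ T₀,
      w = l * ((t * g) ^ 2 ^ (e + 1) * (g ^ 2 ^ (e + 1))⁻¹) * l⁻¹} with hA
  have hAT : A ≤ T₀ := by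
    rw [hA, Subgroup.closure_le]
    rintro _ ⟨l, hl, g, hg, t, ht, rfl⟩
    exact tTwo_inf_fixWts_conj hl (norm_mem_fixWts e hyp S hg ht.1)
  have hAinv : ∀ l ∈ Subgroup.normalizer (tTwo S : Set H), ∀ a ∈ A, l * a * l⁻¹ ∈ A := by
    intro l' hl' a ha
    have key : A ≤ A.comap (MulAut.conj l').toMonoidHom := by
      conv_lhs => rw [hA]
      rw [Subgroup.closure_le]
      rintro _ ⟨l, hl, g, hg, t, ht, rfl⟩
      refine Subgroup.subset_closure ⟨l' * l, mul_mem hl' hl, g, hg, t, ht, ?_⟩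
      show l' * (l * _ * l⁻¹) * l'⁻¹ = _
      group
    exact key ha
  have hsign : ∀ a ∈ A, PlaneSign ρ S (2 ^ (e + 1)) a := by
    intro a ha
    rw [hA] at ha
    induction ha using Subgroup.closure_induction with
    | mem w hw =>
      obtain ⟨l, hl, g, hg, t, ht, rfl⟩ := hw
      exact planeSign_norm e hyp S hl hg ht
    | one =>
      intro g _ R hR ψ hw hx
      exact Or.inl fun v _ => by
        rw [show (⟨1, hw⟩ : MulAction.stabilizer H ψ) = 1 from rfl, map_one, MulAut.one_apply]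
    | mul w w' hw' hw'' ih ih' =>
      intro g hg R hR ψ hww hx
      have h1 : w • ψ = ψ := mem_fixWts.1 (hAT hw').2 R hR ψ
      have h2 : w' • ψ = ψ := mem_fixWts.1 (hAT hw'').2 R hR ψ
      have heq : wAct ψ ⟨w * w', hww⟩ = wAct ψ ⟨w, h1⟩ * wAct ψ ⟨w', h2⟩ := by
        rw [← map_mul]; rfl
      rw [heq]
      rcases ih g hg R hR ψ h1 hx with a1 | a1 <;> rcases ih' g hg R hR ψ h2 hx with a2 | a2
      · exact Or.inl fun v hv => by rw [MulAut.mul_apply, a2 v hv, a1 v hv]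
      · exact Or.inr fun v hv => by rw [MulAut.mul_apply, a2 v hv, map_inv, a1 v hv]
      · exact Or.inr fun v hv => by rw [MulAut.mul_apply, a2 v hv, a1 v hv]
      · exact Or.inl fun v hv => by rw [MulAut.mul_apply, a2 v hv, map_inv, a1 v hv, inv_inv]
    | inv w hw' ih =>
      intro g hg R hR ψ hww hx
      have h1 : w • ψ = ψ := mem_fixWts.1 (hAT hw').2 R hR ψ
      have heq : wAct ψ ⟨w⁻¹, hww⟩ = (wAct ψ ⟨w, h1⟩)⁻¹ := by
        rw [← map_inv]; rfl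
      rw [heq]
      rcases ih g hg R hR ψ h1 hx with a1 | a1
      · exact Or.inl fun v hv => by
          conv_lhs => rw [← a1 v hv]
          exact MulAut.inv_apply_self _ _ v
      · exact Or.inr fun v hv => by
          have h3 : wAct ψ ⟨w, h1⟩ v⁻¹ = v := by rw [map_inv, a1 v hv, inv_inv]
          conv_lhs => rw [← h3]
          exact MulAut.inv_apply_self _ _ _
  refine ⟨A, hAT, hAinv, fun g hg t ht => Subgroup.subset_closure
    ⟨1, one_mem _, g, hg, t, ht, by rw [one_mul, inv_one, mul_one]⟩, fun g hg a ha => ?_⟩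
  set z := (a * g) ^ 2 ^ (e + 1) * (g ^ 2 ^ (e + 1))⁻¹ with hz
  have hzT : z ∈ T₀ := norm_mem_fixWts e hyp S hg (hAT ha).1
  obtain ⟨k, hk⟩ := S.2 ⟨z, hzT.1.1⟩
  refine eq_one_of_wAct hsol hO hρ (congrArg Subtype.val hk : z ^ 2 ^ k = 1)
    (mem_fixWts.1 hzT.2) fun R hR ψ => ?_
  have hag : a * g ∈ (S : Subgroup H) := mul_mem (hAT ha).1.1 hg
  have hS : ∀ {x : H}, x ∈ (S : Subgroup H) → IsPGroup 2 (Subgroup.zpowers x) := fun hx =>
    S.2.to_le (Subgroup.zpowers_le.2 hx)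
  have hx : g ^ 2 ^ (e + 1) • ψ = ψ := smul_pow_eq e (hS hg) (hyp g (hS hg)) ψ
  have hy : (a * g) ^ 2 ^ (e + 1) • ψ = ψ := smul_pow_eq e (hS hag) (hyp _ (hS hag)) ψ
  have h12 := invG_le_of_planeSign e hyp S hAT hAinv hsign hg ha ψ hx hy
  have h21 := invG_le_of_planeSign e hyp S hAT hAinv hsign hag (A.inv_mem ha) ψ hy
    (by rwa [inv_mul_cancel_left])
  simp only [inv_mul_cancel_left] at h21
  have hsq : ∀ {x : H} (hx' : x ^ 2 ^ (e + 1) • ψ = ψ), x ∈ (S : Subgroup H) →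
      (wAct ψ ⟨x ^ 2 ^ (e + 1), hx'⟩) ^ 2 = 1 := by
    intro x hx' hxS
    obtain ⟨i, hi, hp, hr⟩ := wt_period e (hS hxS) (hyp x (hS hxS)) ψ
    have hG : x ^ 2 ^ i • ψ = ψ := MulAction.pow_smul_eq_iff_period_dvd.2 (hp ▸ dvd_rfl)
    have e1 : wAct ψ ⟨x ^ 2 ^ (e + 1), hx'⟩ =
        (wAct ψ ⟨x ^ 2 ^ i, hG⟩) ^ 2 ^ (e + 2 - i - 1) := by
      rw [← map_pow]
      refine wAct_congr ?_
      simp only [SubmonoidClass.coe_pow, ← pow_mul, ← pow_add]
      congr 2; omega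
    rw [e1]
    exact (hr hG).axis_sq
  have heq := (wForm ψ).eq_of_invG_eq (wAct_isom ψ _) (wAct_isom ψ _) (hsq hx hg) (hsq hy hag)
    (le_antisymm h12 h21)
  rw [show (⟨z, mem_fixWts.1 hzT.2 R hR ψ⟩ : MulAction.stabilizer H ψ) =
    ⟨(a * g) ^ 2 ^ (e + 1), hy⟩ * ⟨g ^ 2 ^ (e + 1), hx⟩⁻¹ from Subtype.ext rfl, map_mul, map_inv,
    heq, mul_inv_cancel]

end Norms

end CfsgLib.TwoLength
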