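import Cfsg.Agent.Lib.TwoLength.Defs
import Cfsg.Agent.Lib.FgsC.HallHigman

/-!
# Irreducible modules for groups of class two

The images of coset representatives of the scalars form a basis of the endomorphisms; a compatible
automorphism is an isometry, and a compatible `2`-element of characteristic two is determined by its
action on the symplectic space.
-/

set_option autoImplicit false

namespace CfsgLib.TwoLength

open Module

namespace Heis

section Basic

variable {F U W : Type*} [Field F] [AddCommGroup U] [Module F U] [CommGroup W] (h : Heis F U W)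
include h

theorem exists_inv_mul (w : W) : ∃ c : F, c ≠ 0 ∧ h.π w⁻¹ * h.π w = c • (1 : End F U) := by
  obtain ⟨c, hc, e⟩ := h.π_mul w⁻¹ w
  exact ⟨c, hc, by rw [e, inv_mul_cancel, h.π_one]⟩

theorem π_ne_zero [Nontrivial U] (w : W) : h.π w ≠ 0 := by
  intro h0
  obtain ⟨c, hc, e⟩ := h.exists_inv_mul w
  rw [h0, mul_zero] at e
  exact smul_ne_zero hc one_ne_zero e.symm

theorem π_injective (w : W) : Function.Injective (h.π w) := by
  obtain ⟨c, hc, e⟩ := h.exists_inv_mul w
  intro u v huv
  have h1 := congrArg (h.π w⁻¹) huv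
  simp only [← End.mul_apply, e, LinearMap.smul_apply, End.one_apply] at h1
  exact smul_right_injective U hc h1

/-- A subspace invariant under `π W` is everything or zero; so a commuting map is a scalar. -/
theorem exists_scalar_of_commute [IsAlgClosed F] [FiniteDimensional F U] [Nontrivial U]
    {f : End F U} (hf : ∀ w, h.π w * f = f * h.π w) : ∃ c : F, f = c • (1 : End F U) := by
  obtain ⟨c, hc⟩ := End.exists_eigenvalue f
  refine ⟨c, ?_⟩
  rcases h.irred (End.eigenspace f c) (fun w u hu => by
    rw [End.mem_eigenspace_iff] at hu ⊢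
    rw [← End.mul_apply, ← hf, End.mul_apply, hu, map_smul]) with h0 | h0
  · exact absurd h0 hc
  · refine LinearMap.ext fun u => ?_
    rw [LinearMap.smul_apply, End.one_apply]
    exact End.mem_eigenspace_iff.mp (h0 ▸ Submodule.mem_top)

/-- The images of `W` are linearly independent. -/
theorem linearIndependent [Nontrivial U] : LinearIndependent F h.π := by
  refine CfsgLib.FgsC.HallHigman.linearIndependent_of_weights
    (A := W) (fun t => LinearMap.mulLeft F (h.π t⁻¹) ∘ₗ LinearMap.mulRight F (h.π t))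
    (fun w t => (h.exists_inv_mul t).choose * ((h.form.B w t : Fˣ) : F)) ?_ h.π h.π_ne_zero ?_
  · intro v w hvw
    refine eq_of_div_eq_one (h.form.nondeg _ fun t => ?_)
    have h1 := congrFun hvw t
    simp only [mul_eq_mul_left_iff, (h.exists_inv_mul t).choose_spec.1, or_false, Units.val_inj] at h1
    rw [map_div, MonoidHom.div_apply, h1, div_self']
  · intro w t
    obtain ⟨hc, e⟩ := (h.exists_inv_mul t).choose_spec
    generalize (h.exists_inv_mul t).choose = c at e ⊢
    show h.π t⁻¹ * (h.π w * h.π t) = _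
    rw [h.π_comm w t, mul_smul_comm, ← mul_assoc, e, smul_mul_assoc, one_mul, smul_smul, mul_comm]

/-- The images of `W` span the endomorphisms. -/
theorem span_eq_top [IsAlgClosed F] [FiniteDimensional F U] [Nontrivial U] :
    Submodule.span F (Set.range h.π) = ⊤ := by
  classical
  set Sp := Submodule.span F (Set.range h.π) with hSp
  have hone : (1 : End F U) ∈ Sp := h.π_one ▸ Submodule.subset_span ⟨1, rfl⟩
  have hmul : ∀ a ∈ Sp, ∀ b ∈ Sp, a * b ∈ Sp := by
    intro a ha b hb
    have h1 := Submodule.mul_mem_mul ha hb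
    rw [hSp, Submodule.span_mul_span] at h1
    refine Submodule.span_le.mpr ?_ h1
    rintro _ ⟨_, ⟨v, rfl⟩, _, ⟨w, rfl⟩, rfl⟩
    obtain ⟨c, -, e⟩ := h.π_mul v w
    show h.π v * h.π w ∈ Sp
    rw [e]
    exact Submodule.smul_mem _ _ (Submodule.subset_span ⟨_, rfl⟩)
  let R : Subalgebra F (End F U) := Sp.toSubalgebra hone (fun a b ha hb => hmul a ha b hb)
  have hmemR : ∀ w, h.π w ∈ R := fun w => Submodule.subset_span ⟨w, rfl⟩
  have hsimple : IsSimpleModule R U := by
    refine isSimpleModule_iff_toSpanSingleton_surjective.mpr ⟨inferInstance, fun u hu => ?_⟩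
    rcases h.irred ((LinearMap.range (LinearMap.toSpanSingleton R U u)).restrictScalars F)
      (fun w x hx => by
        obtain ⟨r, rfl⟩ := hx
        exact ⟨⟨h.π w, hmemR w⟩ * r, by
          simp only [LinearMap.toSpanSingleton_apply, mul_smul]; rfl⟩) with h0 | h0
    · refine absurd ?_ hu
      have : u ∈ (LinearMap.range (LinearMap.toSpanSingleton R U u)).restrictScalars F :=
        ⟨1, one_smul R u⟩
      rwa [h0, Submodule.mem_bot] at this
    · intro x
      exact (h0.symm ▸ Submodule.mem_top :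
        x ∈ (LinearMap.range (LinearMap.toSpanSingleton R U u)).restrictScalars F)
  refine eq_top_iff.mpr fun f _ => ?_
  have hschur : ∀ ψ : Module.End R U, ∃ a : F, ∀ x, ψ x = a • x := by
    intro ψ
    obtain ⟨a, ha⟩ := h.exists_scalar_of_commute (f := (ψ.restrictScalars F : End F U))
      (fun w => LinearMap.ext fun x => (ψ.map_smul ⟨h.π w, hmemR w⟩ x).symm)
    exact ⟨a, fun x => LinearMap.congr_fun ha x⟩
  let f' : Module.End (Module.End R U) U :=
    { toFun := f
      map_add' := map_add f
      map_smul' := fun ψ x => by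
        obtain ⟨a, ha⟩ := hschur ψ
        show f (ψ x) = ψ (f x)
        rw [ha, ha, map_smul] }
  let bU := Module.finBasis F U
  obtain ⟨r, hr⟩ := jacobson_density f' (Finset.univ.image bU)
  have hfr : f = (r : End F U) :=
    bU.ext fun i => hr _ (Finset.mem_image_of_mem _ (Finset.mem_univ i))
  rw [hfr]
  exact r.2

/-- The basis `π` of the endomorphisms. -/
noncomputable def basis [IsAlgClosed F] [FiniteDimensional F U] [Nontrivial U] :
    Basis W F (End F U) :=
  Basis.mk h.linearIndependent h.span_eq_top.ge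

theorem basis_apply [IsAlgClosed F] [FiniteDimensional F U] [Nontrivial U] (w : W) :
    h.basis w = h.π w := Basis.mk_apply _ _ w

theorem card_eq [IsAlgClosed F] [FiniteDimensional F U] [Nontrivial U] [Finite W] :
    Nat.card W = finrank F U * finrank F U := by
  have := Fintype.ofFinite W
  rw [Nat.card_eq_fintype_card, ← finrank_eq_card_basis h.basis, finrank_linearMap]

theorem odd_finrank [IsAlgClosed F] [FiniteDimensional F U] [Nontrivial U] [Finite W] :
    Odd (finrank F U) := by
  have := h.form.odd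
  rw [h.card_eq] at this
  exact (Nat.odd_mul.mp this).1

end Basic

section Compat

variable {F U W Γ : Type*} [Field F] [AddCommGroup U] [Module F U] [CommGroup W] [Group Γ]
  {h : Heis F U W} {ρ : Representation F Γ U} {φ : Γ →* MulAut W}

theorem isUnit_rho (ρ : Representation F Γ U) (g : Γ) : IsUnit (ρ g) :=
  ⟨⟨ρ g, ρ g⁻¹, by rw [← map_mul, mul_inv_cancel, map_one],
    by rw [← map_mul, inv_mul_cancel, map_one]⟩, rfl⟩

theorem compat_isom [Nontrivial U] (hc : h.IsCompat ρ φ) (g : Γ) : φ g ∈ h.form.isom := by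
  intro v w
  obtain ⟨a, ha, ea⟩ := hc g v
  obtain ⟨b, hb, eb⟩ := hc g w
  have key : ∀ {a b : F} {v w : W}, ρ g * h.π v = a • (h.π (φ g v) * ρ g) →
      ρ g * h.π w = b • (h.π (φ g w) * ρ g) →
      ρ g * (h.π v * h.π w) = (a * b) • (h.π (φ g v) * h.π (φ g w) * ρ g) := by
    intro a b v w ea eb
    rw [← mul_assoc, ea, smul_mul_assoc, mul_assoc, eb, mul_smul_comm, smul_smul, ← mul_assoc]
  have h2 : ρ g * (h.π v * h.π w) =
      (h.form.B v w : F) • (ρ g * (h.π w * h.π v)) := by
    rw [h.π_comm v w, mul_smul_comm]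
  rw [key ea eb, key eb ea, h.π_comm (φ g v) (φ g w), smul_mul_assoc, smul_smul, smul_smul,
    mul_comm b a] at h2
  have hne : h.π (φ g w) * h.π (φ g v) * ρ g ≠ 0 := by
    intro h0
    rw [(isUnit_rho ρ g).mul_left_eq_zero] at h0
    refine h.π_ne_zero (φ g v) (LinearMap.ext fun u => h.π_injective (φ g w) ?_)
    rw [LinearMap.zero_apply, map_zero]
    exact LinearMap.congr_fun h0 u
  have h3 := smul_left_injective F hne h2
  rw [mul_comm (h.form.B v w : F)] at h3
  exact Units.ext (mul_left_cancel₀ (mul_ne_zero ha hb) h3)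

theorem eq_one_of_rho [Nontrivial U] (hc : h.IsCompat ρ φ) {g : Γ}
    (hg : ∃ c : F, ρ g = c • (1 : End F U)) : φ g = 1 := by
  classical
  obtain ⟨c, hg⟩ := hg
  have hc0 : c ≠ 0 := fun h0 => by
    rw [h0, zero_smul] at hg
    exact (isUnit_rho ρ g).ne_zero hg
  refine MulEquiv.ext fun w => ?_
  obtain ⟨a, ha, e⟩ := hc g w
  rw [hg, smul_mul_assoc, one_mul, mul_smul_comm, mul_one, smul_smul] at e
  by_contra hne
  have hne' : φ g w ≠ w := hne
  have h1 := (linearIndependent_iff'.mp h.linearIndependent {w, φ g w}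
    (fun x => if x = w then c else -(a * c)) (by
      rw [Finset.sum_pair hne'.symm, if_pos rfl, if_neg hne', e, neg_smul, add_neg_cancel]))
    w (Finset.mem_insert_self _ _)
  rw [if_pos rfl] at h1
  exact hc0 h1

theorem pow_conj {c : F} {f g : End F U} (e : g * f = c • (f * g)) (n : ℕ) :
    g ^ n * f = c ^ n • (f * g ^ n) := by
  induction n with
  | zero => simp
  | succ n ih =>
    rw [pow_succ', mul_assoc, ih, mul_smul_comm, ← mul_assoc, e, smul_mul_assoc, smul_smul,
      mul_assoc, pow_succ]

/-- A `2`-element fixing the line of `π w` fixes `π w` in characteristic two. -/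
theorem conj_eq_of_fixed [Nontrivial U] [CharP F 2] (hc : h.IsCompat ρ φ) {g : Γ}
    (hs : IsPGroup 2 (Subgroup.zpowers g)) {w : W} (hw : φ g w = w) :
    ρ g * h.π w = h.π w * ρ g := by
  obtain ⟨k, hk⟩ := hs ⟨g, Subgroup.mem_zpowers g⟩
  have hk' : g ^ 2 ^ k = 1 := congrArg Subtype.val hk
  obtain ⟨c, -, e⟩ := hc g w
  rw [hw] at e
  have h1 := pow_conj e (2 ^ k)
  rw [← map_pow, hk', map_one, one_mul, mul_one] at h1
  have h2 : c ^ 2 ^ k = 1 := smul_left_injective F (h.π_ne_zero w) (by simpa using h1.symm)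
  have h3 : (c - 1) ^ 2 ^ k = 0 := by
    rw [sub_pow_char_pow (R := F) (p := 2), h2, one_pow, sub_self]
  rw [e, sub_eq_zero.mp (pow_eq_zero_iff (by positivity) |>.mp h3), one_smul]

theorem rho_eq_one_of_phi [Nontrivial U] [CharP F 2] [IsAlgClosed F] [FiniteDimensional F U]
    (hc : h.IsCompat ρ φ) {g : Γ} (hs : IsPGroup 2 (Subgroup.zpowers g)) (hg : φ g = 1) :
    ρ g = 1 := by
  obtain ⟨c, e⟩ := h.exists_scalar_of_commute (f := ρ g) fun w =>
    (conj_eq_of_fixed hc hs (by rw [hg]; rfl)).symm
  obtain ⟨k, hk⟩ := hs ⟨g, Subgroup.mem_zpowers g⟩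
  have hk' : g ^ 2 ^ k = 1 := congrArg Subtype.val hk
  have h1 : (1 : End F U) = c ^ 2 ^ k • (1 : End F U) := by
    calc (1 : End F U) = ρ (g ^ 2 ^ k) := by rw [hk', map_one]
      _ = _ := by rw [map_pow, e, smul_pow, one_pow]
  have h2 : c ^ 2 ^ k = 1 := smul_left_injective F one_ne_zero (by simpa using h1.symm)
  have h3 : (c - 1) ^ 2 ^ k = 0 := by
    rw [sub_pow_char_pow (R := F) (p := 2), h2, one_pow, sub_self]
  rw [e, sub_eq_zero.mp (pow_eq_zero_iff (by positivity) |>.mp h3), one_smul]

end Compat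

end Heis

end CfsgLib.TwoLength
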