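import Cfsg.Agent.Lib.TwoLength.WeightSpaces
import Cfsg.Agent.Lib.FT.OddOrderTheorem
import Cfsg.Agent.Lib.PLocal.PSolvable
import Cfsg.Agent.Lib.Base.HallConverse
import Cfsg.Agent.Lib.Base.MinimalNormal
import Cfsg.Agent.Lib.Base.Fitting
import Cfsg.Agent.Lib.PGroups.Critical
import Cfsg.Agent.Lib.PGroups.InvariantCritical

/-!
# Detecting 2-elements on class two normal subgroups of odd order

In a 2-soluble group with no normal 2-subgroup a 2-element which centralises every normal subgroup
of odd order and class two is trivial.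
-/

set_option autoImplicit false
set_option linter.style.haveILetI false

namespace CfsgLib.TwoLength

open Cfsg
open scoped commutatorElement

universe u

/-- A finite 2-soluble group is soluble (by the odd order theorem). -/
theorem isSolvable_of_isPSolvable_two : ∀ (n : ℕ) (G : Type u) [Group G] [Finite G],
    Nat.card G = n → IsPSolvable 2 G → Group.IsSolvable G := by
  intro n
  induction n using Nat.strong_induction_on with
  | _ n ih =>
    intro G _ _ hn hG
    haveI : Fact (Nat.Prime 2) := ⟨Nat.prime_two⟩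
    cases subsingleton_or_nontrivial G
    · infer_instance
    have key : ∀ N : Subgroup G, N.Normal → N ≠ ⊥ → Group.IsSolvable N → Group.IsSolvable G := by
      intro N hN hne hs
      haveI := hN
      refine CfsgLib.Base.isSolvable_of_normal N hs (ih _ ?_ (G ⧸ N) rfl
        (CfsgLib.PLocal.isPSolvable_quotient hG N))
      subst hn
      rw [← Subgroup.index_eq_card]
      have h1 : 1 < Nat.card N := (Subgroup.one_lt_card_iff_ne_bot N).2 hne
      have h2 := N.card_mul_index
      have h3 : 0 < N.index := Nat.pos_of_ne_zero N.index_ne_zero_of_finite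
      nlinarith
    rcases CfsgLib.PLocal.pCore_ne_bot_or_pPrimeCore_ne_bot hG with h | h
    · refine key _ inferInstance h ?_
      haveI := (CfsgLib.Base.isPGroup_pCore 2 G).isNilpotent
      infer_instance
    · exact key _ inferInstance h
        (CfsgLib.FT.isSolvable_of_odd (CfsgLib.Base.pPrimeCore_coprime 2 G).odd_of_right)

variable {H : Type u} [Group H] [Finite H]

/-- A 2-element centralising all normal class two subgroups of odd order is trivial. -/
theorem eq_one_of_centralizes (hsol : IsPSolvable 2 H) (hO : pCore 2 H = ⊥) {z : H} {k : ℕ}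
    (hz : z ^ 2 ^ k = 1)
    (hc : ∀ R : Subgroup H, IsOddClassTwo R → ∀ a ∈ R, Commute z a) : z = 1 := by
  classical
  haveI : Fact (Nat.Prime 2) := ⟨Nat.prime_two⟩
  haveI : Group.IsSolvable H := isSolvable_of_isPSolvable_two _ H rfl hsol
  have hcore : ∀ q : Nat.Primes, ∀ a ∈ pCore (q : ℕ) H, Commute z a := by
    intro q a ha
    haveI := Fact.mk q.2
    by_cases hq : (q : ℕ) = 2
    · rw [hq, hO, Subgroup.mem_bot] at ha
      rw [ha]; exact Commute.one_right z
    set P := pCore (q : ℕ) H with hPdef
    haveI : P.Normal := inferInstance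
    have hP : IsPGroup (q : ℕ) P := CfsgLib.Base.isPGroup_pCore _ H
    obtain ⟨C, hCc, -, hC2, hC3⟩ := CfsgLib.PGroups.exists_critical hP
    haveI := hCc
    have hodd : Odd (q : ℕ) := q.2.odd_of_ne_two hq
    have hR : IsOddClassTwo (C.map P.subtype) := by
      refine ⟨inferInstance, ?_, ?_⟩
      · obtain ⟨j, hj⟩ := IsPGroup.iff_card.1 ((hP.to_subgroup C).map P.subtype)
        rw [hj]; exact hodd.pow
      · rintro _ ⟨x, hx, rfl⟩ _ ⟨y, hy, rfl⟩ _ ⟨w, hw, rfl⟩
        rw [← map_commutatorElement]
        refine Commute.map (f := P.subtype) ?_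
        exact ((hC2 (Subgroup.commutator_mem_commutator hx (Subgroup.mem_top y))).2 w hw).symm
    have hfix : ∀ c ∈ C, (MulAut.conjNormal z : MulAut P) c = c := fun c hc' => Subtype.ext (by
      have h5 : z * (c : H) = (c : H) * z := (hc _ hR _ (Subgroup.mem_map_of_mem P.subtype hc')).eq
      rw [MulAut.conjNormal_apply, h5, mul_inv_cancel_right])
    set α : MulAut P := MulAut.conjNormal z with hα
    have hcop : (orderOf α).Coprime (q : ℕ) := by
      have h1 : orderOf α ∣ 2 ^ k := orderOf_dvd_of_pow_eq_one (by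
        rw [hα, ← map_pow, hz, map_one])
      refine Nat.Coprime.coprime_dvd_left h1 (Nat.Coprime.pow_left k ?_)
      exact (Nat.coprime_primes Nat.prime_two q.2).2 fun h => hq h.symm
    have hall : ∀ x : P, α x = x := fun x => CfsgLib.PGroups.InvariantCritical.eq_of_fixed_div hP
      hcop (hfix _ (hC3 (Subgroup.mem_centralizer_iff.2 fun c hc' => by
        have h3 := hfix _ ((inferInstance : C.Normal).conj_mem c hc' x)
        rw [map_mul, map_mul, map_inv, hfix c hc'] at h3
        calc c * (x⁻¹ * α x) = x⁻¹ * (x * c * x⁻¹) * α x := by group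
          _ = x⁻¹ * (α x * c * (α x)⁻¹) * α x := by rw [h3]
          _ = _ := by group)))
    have h4 := congrArg Subtype.val (hall ⟨a, ha⟩)
    rw [hα, MulAut.conjNormal_apply] at h4
    exact mul_inv_eq_iff_eq_mul.1 h4
  set Fi := fittingSubgroup H with hFi
  have hFc : z ∈ Subgroup.centralizer (Fi : Set H) := by
    have h1 : Fi ≤ Subgroup.centralizer ({z} : Set H) := by
      rw [hFi, CfsgLib.Base.fittingSubgroup_eq_iSup_pCore]
      exact iSup_le fun q a ha => Subgroup.mem_centralizer_singleton_iff.2 (hcore q a ha).symm.eq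
    exact Subgroup.mem_centralizer_iff.2 fun a ha => Subgroup.mem_centralizer_singleton_iff.1 (h1 ha)
  have hzF : z ∈ Fi := CfsgLib.Base.centralizer_fittingSubgroup_le hFc
  haveI : Fi.Normal := CfsgLib.Base.fittingSubgroup_normal' H
  haveI := CfsgLib.Base.isNilpotent_fittingSubgroup H
  obtain ⟨P⟩ : Nonempty (Sylow 2 Fi) := inferInstance
  haveI : (P : Subgroup Fi).Normal := inferInstance
  have hzP : (⟨z, hzF⟩ : Fi) ∈ (P : Subgroup Fi) := by
    have hzp : IsPGroup 2 (Subgroup.zpowers (⟨z, hzF⟩ : Fi)) :=
      IsPGroup.of_card (n := (Nat.log 2 (orderOf (⟨z, hzF⟩ : Fi)))) (by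
        rw [Nat.card_zpowers]
        obtain ⟨j, -, hj⟩ := (Nat.dvd_prime_pow Nat.prime_two).1
          (orderOf_dvd_of_pow_eq_one (x := (⟨z, hzF⟩ : Fi)) (n := 2 ^ k) (Subtype.ext hz))
        rw [hj, Nat.log_pow one_lt_two])
    obtain ⟨P', hP'⟩ := hzp.exists_le_sylow
    haveI : Unique (Sylow 2 Fi) := Sylow.unique_of_normal P inferInstance
    rw [Subsingleton.elim P P']
    exact hP' (Subgroup.mem_zpowers _)
  have hle : (P : Subgroup Fi).map Fi.subtype ≤ pCore 2 H :=
    (Subgroup.map_mono (CfsgLib.Base.le_pCore P.isPGroup')).trans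
      (CfsgLib.Base.map_pCore_eq_inf Fi).le |>.trans inf_le_left
  have h2 := hle ⟨_, hzP, rfl⟩
  rw [hO, Subgroup.mem_bot] at h2
  exact h2

end CfsgLib.TwoLength
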