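import Cfsg.Agent.Lib.TwoLength.Sympl

/-!
# Planes of roots

In a 2-group of isometries the planes of two roots are equal or orthogonal.
-/

set_option autoImplicit false

namespace CfsgLib.TwoLength

variable {W A : Type*} [CommGroup W] [CommGroup A]

/-- The image of a subgroup under an automorphism. -/
def pm (γ : MulAut W) (P : Subgroup W) : Subgroup W := P.comap γ⁻¹.toMonoidHom

theorem mem_pm {γ : MulAut W} {P : Subgroup W} {w : W} : w ∈ pm γ P ↔ γ⁻¹ w ∈ P := Iff.rfl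

theorem apply_mem_pm {γ : MulAut W} {P : Subgroup W} {w : W} : γ w ∈ pm γ P ↔ w ∈ P := by
  rw [mem_pm, MulAut.inv_apply_self]

theorem exists_of_mem_pm {γ : MulAut W} {P : Subgroup W} {w : W} (h : w ∈ pm γ P) :
    ∃ v ∈ P, γ v = w :=
  ⟨γ⁻¹ w, h, MulAut.apply_inv_self W γ w⟩

theorem pm_one (P : Subgroup W) : pm 1 P = P := by
  ext w
  rw [mem_pm, inv_one, MulAut.one_apply]

theorem pm_mul (a b : MulAut W) (P : Subgroup W) : pm (a * b) P = pm a (pm b P) := by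
  ext w
  rw [mem_pm, mem_pm, mem_pm, mul_inv_rev, MulAut.mul_apply]

theorem pm_inv_pm (a : MulAut W) (P : Subgroup W) : pm a⁻¹ (pm a P) = P := by
  rw [← pm_mul, inv_mul_cancel, pm_one]

theorem pm_pm_inv (a : MulAut W) (P : Subgroup W) : pm a (pm a⁻¹ P) = P := by
  rw [← pm_mul, mul_inv_cancel, pm_one]

theorem pm_injective (a : MulAut W) : Function.Injective (pm a : Subgroup W → Subgroup W) :=
  Function.LeftInverse.injective (g := pm a⁻¹) (pm_inv_pm a)

theorem card_pm (a : MulAut W) (P : Subgroup W) : Nat.card ↥(pm a P) = Nat.card ↥P :=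
  Nat.card_congr (a⁻¹.toEquiv.subtypeEquiv (q := fun w => w ∈ P) fun _ => Iff.rfl)

theorem pm_eq_of_map [Finite W] {f : MulAut W} {P : Subgroup W} (h : ∀ w ∈ P, f w ∈ P) :
    pm f P = P := by
  refine (Subgroup.eq_of_le_of_card_ge (fun w hw => ?_) (by rw [card_pm])).symm.symm
  obtain ⟨v, hv, rfl⟩ := exists_of_mem_pm hw
  exact h v hv

theorem map_of_pm_eq {f : MulAut W} {P : Subgroup W} (h : pm f P = P) {w : W} (hw : w ∈ P) :
    f w ∈ P := by
  have h' : f w ∈ pm f P := apply_mem_pm.2 hw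
  rwa [h] at h'

theorem invG_conj (γ f : MulAut W) : invG (γ * f * γ⁻¹) = pm γ (invG f) := by
  ext w
  rw [mem_pm, mem_invG, mem_invG, MulAut.mul_apply, MulAut.mul_apply, ← map_inv γ⁻¹,
    ← γ⁻¹.apply_eq_iff_eq]
  simp only [MulAut.inv_apply_self]

theorem fixG_conj (γ f : MulAut W) : fixG (γ * f * γ⁻¹) = pm γ (fixG f) := by
  ext w
  rw [mem_pm, mem_fixG, mem_fixG, MulAut.mul_apply, MulAut.mul_apply, ← γ⁻¹.apply_eq_iff_eq]
  simp only [MulAut.inv_apply_self]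

theorem pow_apply_of_fixed {f : MulAut W} {w : W} (h : f w = w) (n : ℕ) : (f ^ n) w = w := by
  induction n with
  | zero => rw [pow_zero, MulAut.one_apply]
  | succ n ih => rw [pow_succ, MulAut.mul_apply, h, ih]

theorem pow_mem_of_map {f : MulAut W} {P : Subgroup W} (h : ∀ w ∈ P, f w ∈ P) (n : ℕ) :
    ∀ w ∈ P, (f ^ n) w ∈ P := by
  induction n with
  | zero => intro w hw; rwa [pow_zero, MulAut.one_apply]
  | succ n ih => intro w hw; rw [pow_succ, MulAut.mul_apply]; exact ih _ (h w hw)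

theorem isometry_orth {Φ : Form W A} {γ : MulAut W} (hγ : γ ∈ Φ.isom) {P Q : Subgroup W}
    (h : Φ.Orth P Q) : Φ.Orth (pm γ P) (pm γ Q) := by
  intro v hv w hw
  obtain ⟨v, hv₀, rfl⟩ := exists_of_mem_pm hv
  obtain ⟨w, hw₀, rfl⟩ := exists_of_mem_pm hw
  rw [Form.isom_apply hγ]
  exact h v hv₀ w hw₀

theorem isometry_nondegOn {Φ : Form W A} {γ : MulAut W} (hγ : γ ∈ Φ.isom) {P : Subgroup W}
    (h : Φ.NondegOn P) : Φ.NondegOn (pm γ P) := by
  intro v hv hv'
  obtain ⟨u, hu, rfl⟩ := exists_of_mem_pm hv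
  rw [h u hu fun w hw => by rw [← Form.isom_apply hγ u w]; exact hv' _ (apply_mem_pm.2 hw),
    map_one]

theorem Form.NondegOn.eq_one_of_orth {Φ : Form W A} {P Q : Subgroup W} (hP : Φ.NondegOn P)
    (h : Φ.Orth P Q) {v : W} (hv : v ∈ P) (hv' : v ∈ Q) : v = 1 :=
  hP v hv fun w hw => Φ.B_comm_one (h w hw v hv')

namespace IsRoot

variable {f : MulAut W} {m : ℕ}

theorem axis_sq (h : IsRoot f m) : (f ^ 2 ^ (m - 1)) ^ 2 = 1 := by
  rw [← pow_mul, ← pow_succ, Nat.sub_add_cancel (by linarith [h.two_le]), h.pow_eq]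

theorem map_plane (h : IsRoot f m) {w : W} (hw : w ∈ invG (f ^ 2 ^ (m - 1))) :
    f w ∈ invG (f ^ 2 ^ (m - 1)) := by
  have := h.two_le
  rw [mem_invG, ← MulAut.mul_apply, (Commute.pow_self f _).eq, MulAut.mul_apply, mem_invG.1 hw,
    map_inv]

theorem conj (h : IsRoot f m) (γ : MulAut W) : IsRoot (γ * f * γ⁻¹) m where
  two_le := h.two_le
  prime := h.prime
  pow_eq := by rw [conj_pow, h.pow_eq, mul_one, mul_inv_cancel]
  card_inv := by rw [conj_pow, invG_conj, card_pm, h.card_inv]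
  fix := by
    intro w hw
    rw [conj_pow, fixG_conj] at hw
    rw [MulAut.mul_apply, MulAut.mul_apply, h.fix (γ⁻¹ w) hw, MulAut.apply_inv_self]

theorem axis_isom {Φ : Form W A} (hf : f ∈ Φ.isom) : f ^ 2 ^ (m - 1) ∈ Φ.isom :=
  Φ.isom.pow_mem hf _

theorem nondegOn {Φ : Form W A} (h : IsRoot f m) (hf : f ∈ Φ.isom) :
    Φ.NondegOn (invG (f ^ 2 ^ (m - 1))) :=
  Φ.nondegOn_invG (Φ.isom.pow_mem hf _) h.axis_sq

/-- Only `1` of the plane is fixed by the square of the root. -/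
theorem eq_one_of_sq_fix (Φ : Form W A) (h : IsRoot f m) {w : W}
    (hw : w ∈ invG (f ^ 2 ^ (m - 1))) (hff : f (f w) = w) : w = 1 := by
  have := h.two_le
  refine Φ.eq_one_of_inv_eq ?_
  rw [← mem_invG.1 hw, show 2 ^ (m - 1) = 2 * 2 ^ (m - 2) by
    rw [← pow_succ']; congr 1; omega, pow_mul]
  exact pow_apply_of_fixed (by rw [pow_two, MulAut.mul_apply, hff]) _

theorem eq_one_of_apply_eq_inv (Φ : Form W A) (h : IsRoot f m) {w : W}
    (hw : w ∈ invG (f ^ 2 ^ (m - 1))) (hf : f w = w⁻¹) : w = 1 :=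
  h.eq_one_of_sq_fix Φ hw (by rw [hf, map_inv, hf, inv_inv])

theorem eq_one_of_apply_eq (Φ : Form W A) (h : IsRoot f m) {w : W}
    (hw : w ∈ invG (f ^ 2 ^ (m - 1))) (hf : f w = w) : w = 1 :=
  h.eq_one_of_sq_fix Φ hw (by rw [hf, hf])

theorem fix_of_orth {Φ : Form W A} (h : IsRoot f m) (hf : f ∈ Φ.isom) {P : Subgroup W}
    (hP : Φ.Orth (invG (f ^ 2 ^ (m - 1))) P) {w : W} (hw : w ∈ P) : f w = w :=
  h.fix w (Φ.le_fixG_of_orth (Φ.isom.pow_mem hf _) h.axis_sq hP hw)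

theorem move_mem {Φ : Form W A} (h : IsRoot f m) (w : W) :
    f w * w⁻¹ ∈ invG (f ^ 2 ^ (m - 1)) := by
  obtain ⟨a, ha, b, hb, rfl⟩ := Φ.exists_decomp_top h.axis_sq w
  rw [map_mul, h.fix b hb, mul_inv, mul_mul_mul_comm, mul_inv_cancel, mul_one]
  exact mul_mem (h.map_plane ha) (inv_mem ha)

theorem exists_ne_one (Φ : Form W A) (h : IsRoot f m) :
    ∃ a ∈ invG (f ^ 2 ^ (m - 1)), a ≠ 1 := by
  have := Φ.finite
  by_contra hc
  push Not at hc
  have h1 : invG (f ^ 2 ^ (m - 1)) = ⊥ := (Subgroup.eq_bot_iff_forall _).2 hc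
  have h2 := h.card_inv
  rw [h1, Subgroup.card_bot] at h2
  have := Nat.pow_lt_pow_left h.prime.one_lt (two_ne_zero)
  omega

theorem card_eq_of_le {q : ℕ} (Φ : Form W A) (h : IsRoot f m) (hq : q.Prime) {P : Subgroup W}
    (hle : P ≤ invG (f ^ 2 ^ (m - 1))) (hP : Nat.card P = q ^ 2) :
    q = 2 ^ m - 1 ∧ P = invG (f ^ 2 ^ (m - 1)) := by
  have := Φ.finite
  have hd := Subgroup.card_dvd_of_le hle
  rw [hP, h.card_inv] at hd
  have hqr : q = 2 ^ m - 1 :=
    (Nat.prime_dvd_prime_iff_eq hq h.prime).1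
      (hq.dvd_of_dvd_pow ((dvd_pow_self q two_ne_zero).trans hd))
  exact ⟨hqr, Subgroup.eq_of_le_of_card_ge hle (by rw [hP, h.card_inv, hqr])⟩

/-- A plane kept by a root is its plane or orthogonal to it. -/
theorem eq_or_orth_of_map {Φ : Form W A} (h : IsRoot f m) (hf : f ∈ Φ.isom) {q : ℕ}
    (hq : q.Prime) {P : Subgroup W} (hnd : Φ.NondegOn P) (hcard : Nat.card P = q ^ 2)
    (hP : ∀ w ∈ P, f w ∈ P) :
    invG (f ^ 2 ^ (m - 1)) = P ∨ Φ.Orth (invG (f ^ 2 ^ (m - 1))) P := by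
  rcases Φ.involution_on_plane hq hnd hcard (Φ.isom.pow_mem hf _) h.axis_sq
    (pow_mem_of_map hP _) with h1 | h1
  · exact Or.inr fun v hv w hw =>
      Φ.invG_orth_fixG (Φ.isom.pow_mem hf _) v hv w (mem_fixG.2 (h1 w hw))
  · exact Or.inl (h.card_eq_of_le Φ hq (fun w hw => mem_invG.2 (h1 w hw)) hcard).2.symm

/-- A root fixes every member of an orthogonal family of planes which it permutes. -/
theorem pm_eq_of_permuted {Φ : Form W A} (h : IsRoot f m) (hf : f ∈ Φ.isom) {q : ℕ}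
    (hq : q.Prime) {P : Subgroup W} (hnd : Φ.NondegOn P) (hcard : Nat.card P = q ^ 2)
    (h1 : pm f P = P ∨ Φ.Orth (pm f P) P)
    (h2 : pm f (pm f P) = P ∨ Φ.Orth (pm f (pm f P)) P) :
    pm f P = P := by
  have := Φ.finite
  have := h.two_le
  rcases h1 with h1 | h1
  · exact h1
  exfalso
  have hdis : ∀ v ∈ P, v ∈ pm f P → v = 1 := fun v hv hv' => hnd.eq_one_of_orth h1.symm hv hv'
  let φ : ↥P →* ↥(invG (f ^ 2 ^ (m - 1))) :=
    MonoidHom.mk' (fun v => ⟨f v.1 * v.1⁻¹, h.move_mem (Φ := Φ) v.1⟩) fun a b => Subtype.ext <| by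
      simp only [Subgroup.coe_mul, map_mul, mul_inv]
      rw [mul_mul_mul_comm]
  have hinj : Function.Injective φ := by
    refine (injective_iff_map_eq_one φ).2 fun v hv => Subtype.ext ?_
    have hv' : f v.1 = v.1 := mul_inv_eq_one.1 (congrArg Subtype.val hv)
    exact hdis v.1 v.2 (hv' ▸ apply_mem_pm.2 v.2)
  have hqr : q = 2 ^ m - 1 := by
    have hd := Subgroup.card_dvd_of_injective φ hinj
    rw [hcard, h.card_inv] at hd
    exact (Nat.prime_dvd_prime_iff_eq hq h.prime).1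
      (hq.dvd_of_dvd_pow ((dvd_pow_self q two_ne_zero).trans hd))
  have hsurj : Function.Surjective φ :=
    (hinj.bijective_of_nat_card_le (by rw [hcard, h.card_inv, hqr])).2
  -- the square of `f` on `P`
  have key : ∀ v ∈ P, ∃ u ∈ P, f (f v) * (f v)⁻¹ = f u * u⁻¹ := fun v hv => by
    obtain ⟨u, hu⟩ := hsurj ⟨f (f v * v⁻¹), h.map_plane (h.move_mem (Φ := Φ) v)⟩
    refine ⟨u.1, u.2, ?_⟩
    have hu' : f u.1 * u.1⁻¹ = f (f v * v⁻¹) := congrArg Subtype.val hu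
    rw [map_mul, map_inv] at hu'
    exact hu'.symm
  rcases h2 with h2 | h2
  · have hsq : ∀ v ∈ P, f (f v) = v := fun v hv => by
      obtain ⟨u, hu, huv⟩ := key v hv
      have hmem : f (f v) ∈ P := h2 ▸ apply_mem_pm.2 (apply_mem_pm.2 hv)
      have he : f (f v) * u = f (v * u) := by
        rw [map_mul, ← inv_mul_cancel_right (f (f v)) (f v), huv]
        rw [mul_right_comm (f u) u⁻¹, mul_assoc, inv_mul_cancel, mul_one, mul_comm]
      have h0 : f (v * u) = 1 :=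
        hdis _ (he ▸ P.mul_mem hmem hu) (apply_mem_pm.2 (P.mul_mem hv hu))
      rw [EmbeddingLike.map_eq_one_iff] at h0
      rwa [h0, map_one, ← eq_inv_iff_mul_eq_one, ← eq_inv_of_mul_eq_one_left h0] at he
    obtain ⟨a, ha, ha1⟩ := h.exists_ne_one Φ
    refine ha1 (h.eq_one_of_sq_fix Φ ha ?_)
    obtain ⟨u, hu⟩ := hsurj ⟨a, ha⟩
    have hu' : f u.1 * u.1⁻¹ = a := congrArg Subtype.val hu
    rw [← hu', map_mul, map_mul, map_inv, map_inv, hsq u.1 u.2]
  · have h21 : Φ.Orth (pm f (pm f P)) (pm f P) := isometry_orth hf h1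
    have hbot : ∀ v ∈ P, v = 1 := fun v hv => by
      obtain ⟨u, hu, huv⟩ := key v hv
      refine hnd v hv fun w hw => ?_
      rw [← Form.isom_apply hf v w, ← Form.isom_apply hf (f v) (f w),
        ← inv_mul_cancel_right (f (f v)) (f v), huv, Φ.B_mul_left, Φ.B_mul_left, Φ.B_inv_left]
      have hw2 : f (f w) ∈ pm f (pm f P) := apply_mem_pm.2 (apply_mem_pm.2 hw)
      rw [h21.symm _ (apply_mem_pm.2 hu) _ hw2, h21.symm _ (apply_mem_pm.2 hv) _ hw2,
        h2.symm u hu _ hw2, inv_one, one_mul, one_mul]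
    rw [(Subgroup.eq_bot_iff_forall _).2 hbot, Subgroup.card_bot] at hcard
    have := Nat.pow_lt_pow_left hq.one_lt (two_ne_zero)
    omega

end IsRoot

/-- The planes of two roots in a 2-group of isometries are equal or orthogonal. -/
theorem root_planes {Φ : Form W A} {Γ : Subgroup (MulAut W)} (hΓ : Γ ≤ Φ.isom)
    (h2 : IsPGroup 2 Γ) {f g : MulAut W} {m n : ℕ} (hf : f ∈ Γ) (hg : g ∈ Γ) (hfr : IsRoot f m)
    (hgr : IsRoot g n) :
    invG (f ^ 2 ^ (m - 1)) = invG (g ^ 2 ^ (n - 1)) ∨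
      Φ.Orth (invG (f ^ 2 ^ (m - 1))) (invG (g ^ 2 ^ (n - 1))) := by
  classical
  have := Φ.finite
  have : Finite (MulAut W) := Finite.of_injective _ MulEquiv.toEquiv_injective
  let Fam : Set (Set (Subgroup W)) := {F | (∀ P ∈ F, ∃ h ∈ Γ, ∃ k, IsRoot h k ∧
    invG (h ^ 2 ^ (k - 1)) = P) ∧ ∀ P ∈ F, ∀ Q ∈ F, P = Q ∨ Φ.Orth P Q}
  obtain ⟨D, hD⟩ := (Set.toFinite Fam).exists_maximal
    ⟨∅, fun P hP => absurd hP (Set.notMem_empty P), fun P hP => absurd hP (Set.notMem_empty P)⟩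
  obtain ⟨hDroot, hDorth⟩ := hD.prop
  let N : Subgroup ↥Γ :=
    { carrier := {γ | pm γ.1 '' D = D}
      one_mem' := by
        show pm (1 : MulAut W) '' D = D
        rw [funext pm_one, Set.image_id']
      mul_mem' := by
        intro a b (ha : pm a.1 '' D = D) (hb : pm b.1 '' D = D)
        show pm (a.1 * b.1) '' D = D
        rw [show pm (a.1 * b.1) = pm a.1 ∘ pm b.1 from funext (pm_mul _ _), Set.image_comp, hb, ha]
      inv_mem' := by
        intro a (ha : pm a.1 '' D = D)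
        show pm a.1⁻¹ '' D = D
        conv_lhs => rw [← ha]
        rw [← Set.image_comp, show pm a.1⁻¹ ∘ pm a.1 = id from funext (pm_inv_pm _),
          Set.image_id] }
  -- a root stabilising the family has its plane there
  have hin : ∀ (h : ↥Γ) (k : ℕ), IsRoot h.1 k → h ∈ N → invG (h.1 ^ 2 ^ (k - 1)) ∈ D := by
    intro h k hk (hN : pm h.1 '' D = D)
    by_contra hnot
    have hor : ∀ Q ∈ D, Φ.Orth (invG (h.1 ^ 2 ^ (k - 1))) Q := fun Q hQ => by
      obtain ⟨h', hh', k', hk', rfl⟩ := hDroot Q hQ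
      have hq := hk'.prime
      have hnd := hk'.nondegOn (hΓ hh')
      have hm1 : pm h.1 (invG (h' ^ 2 ^ (k' - 1))) ∈ D := by
        rw [← hN]; exact ⟨_, hQ, rfl⟩
      have hm2 : pm h.1 (pm h.1 (invG (h' ^ 2 ^ (k' - 1)))) ∈ D := by
        rw [← hN]; exact ⟨_, hm1, rfl⟩
      have hfix := hk.pm_eq_of_permuted (hΓ h.2) hq hnd hk'.card_inv (hDorth _ hm1 _ hQ)
        (hDorth _ hm2 _ hQ)
      exact (hk.eq_or_orth_of_map (hΓ h.2) hq hnd hk'.card_inv
        fun w hw => map_of_pm_eq hfix hw).resolve_left fun he => hnot (he ▸ hQ)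
    refine hnot (hD.2 (y := insert (invG (h.1 ^ 2 ^ (k - 1))) D) ⟨?_, ?_⟩
      (Set.subset_insert _ _) (Set.mem_insert _ _))
    · rintro P (rfl | hP)
      exacts [⟨h.1, h.2, k, hk, rfl⟩, hDroot P hP]
    · rintro P (rfl | hP) Q (rfl | hQ)
      exacts [Or.inl rfl, Or.inr (hor Q hQ), Or.inr (hor P hP).symm, hDorth P hP Q hQ]
  -- the roots of the family fix its members
  have hmemN : ∀ (h : ↥Γ) (k : ℕ), IsRoot h.1 k → invG (h.1 ^ 2 ^ (k - 1)) ∈ D → h ∈ N := by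
    intro h k hk hmem
    show pm h.1 '' D = D
    have hfix : ∀ Q ∈ D, pm h.1 Q = Q := fun Q hQ => by
      refine pm_eq_of_map fun w hw => ?_
      rcases hDorth _ hmem Q hQ with he | he
      · subst he; exact hk.map_plane hw
      · rwa [hk.fix_of_orth (hΓ h.2) he hw]
    ext Q
    constructor
    · rintro ⟨P, hP, rfl⟩; rwa [hfix P hP]
    · exact fun hQ => ⟨Q, hQ, hfix Q hQ⟩
  have htop : N = ⊤ := by
    by_contra hne
    have : Fact (Nat.Prime 2) := ⟨Nat.prime_two⟩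
    have : Group.IsNilpotent ↥Γ := h2.isNilpotent
    obtain ⟨γ, hγ, hγN⟩ :=
      SetLike.exists_of_lt (Group.normalizerCondition_of_isNilpotent N (lt_top_iff_ne_top.2 hne))
    refine hγN (Set.eq_of_subset_of_ncard_le ?_ ?_ (Set.toFinite D))
    · rintro _ ⟨P, hP, rfl⟩
      obtain ⟨h, hh, k, hk, rfl⟩ := hDroot P hP
      have hN : γ * ⟨h, hh⟩ * γ⁻¹ ∈ N :=
        (Subgroup.mem_normalizer_iff.1 hγ _).1 (hmemN ⟨h, hh⟩ k hk hP)
      have hc := hin _ k (by exact hk.conj γ.1) hN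
      rwa [show ((γ * ⟨h, hh⟩ * γ⁻¹ : ↥Γ) : MulAut W) = γ.1 * h * γ.1⁻¹ from rfl, conj_pow,
        invG_conj] at hc
    · rw [Set.ncard_image_of_injective D (pm_injective γ.1)]
  exact hDorth _ (hin ⟨f, hf⟩ m hfr (htop ▸ Subgroup.mem_top _)) _
    (hin ⟨g, hg⟩ n hgr (htop ▸ Subgroup.mem_top _))

end CfsgLib.TwoLength
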