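import Cfsg.Agent.Lib.TwoLength.WeightModules
import Cfsg.Agent.Lib.TwoLength.DerLocal

/-!
# The derived series of a 2-group on a weight space it fixes
-/

set_option autoImplicit false
set_option linter.style.haveILetI false
set_option linter.unusedSectionVars false

namespace CfsgLib.TwoLength

open Module

variable {H : Type*} [Group H] [Finite H] {K : Type*} [Field K] [IsAlgClosed K] [CharP K 2]
  {V : Type*} [AddCommGroup V] [Module K V] [FiniteDimensional K V] {ρ : Representation K H V}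
  {R : Subgroup H} [hR : Fact (IsOddClassTwo R)]

/-- A 2-group fixing the weight with a vanishing chain on the weight space. -/
theorem wt_der (ψ : Wt ρ R) (P : Subgroup H) (hP : IsPGroup 2 P)
    (hPs : P ≤ MulAction.stabilizer H ψ) (k : ℕ) (hk : 1 ≤ k)
    (hann : chain ρ (dS P) k (wtSpace ρ R ψ.1) = ⊥) {x : H} (hx : x ∈ dS P k) (hxs : x • ψ = ψ)
    (hx1 : wAct ψ ⟨x, hxs⟩ ≠ 1) :
    wAct ψ ⟨x, hxs⟩ ^ 2 = 1 ∧ Nat.card ↥(invG (wAct ψ ⟨x, hxs⟩)) = 9 ∧
      ∀ y, ∀ (_ : y ∈ dS P k) (hys : y • ψ = ψ),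
        wAct ψ ⟨y, hys⟩ = 1 ∨ wAct ψ ⟨y, hys⟩ = wAct ψ ⟨x, hxs⟩ := by
  obtain ⟨X, hX, h, hle, hnt, -, hc⟩ := exists_heis ψ P hP hPs
  haveI := hnt
  have hmap : ∀ i, (dS (⊤ : Subgroup P) i).map P.subtype = dS P i := fun i => by
    rw [map_dS, ← MonoidHom.range_eq_map, Subgroup.range_subtype]
  have hann' : chain (repOn ρ P X hX) (dS (⊤ : Subgroup P)) k ⊤ = ⊥ := by
    have h1 := map_chain (ρ := repOn ρ P X hX) (τ := ρ) X.subtype P.subtype (fun g v => rfl) k
      (dS (⊤ : Subgroup P)) ⊤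
    rw [funext hmap, Submodule.map_top, Submodule.range_subtype] at h1
    have h2 : (chain (repOn ρ P X hX) (dS (⊤ : Subgroup P)) k ⊤).map X.subtype = ⊥ :=
      le_bot_iff.1 (h1.le.trans ((chain_mono ρ k _ hle).trans hann.le))
    exact Submodule.map_injective_of_injective X.injective_subtype
      (h2.trans (Submodule.map_bot _).symm)
  rw [← hmap] at hx
  obtain ⟨x', hx', rfl⟩ := hx
  obtain ⟨h2, h9, hy⟩ := der_local_top hc hP hk hann' hx' hx1
  refine ⟨h2, h9, fun y hy' hys => ?_⟩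
  rw [← hmap] at hy'
  obtain ⟨y', hy', rfl⟩ := hy'
  exact hy y' hy'

end CfsgLib.TwoLength
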