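import Cfsg.Agent.Lib.TwoLength.WeightModules
import Cfsg.Agent.Lib.TwoLength.ExpLocal

/-!
# A 2-element on a weight space it fixes
-/

set_option autoImplicit false
set_option linter.style.haveILetI false
set_option linter.unusedSectionVars false

namespace CfsgLib.TwoLength

open Module

variable {H : Type*} [Group H] [Finite H] {K : Type*} [Field K] [IsAlgClosed K] [CharP K 2]
  {V : Type*} [AddCommGroup V] [Module K V] [FiniteDimensional K V] {ρ : Representation K H V}
  {R : Subgroup H} [hR : Fact (IsOddClassTwo R)]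

/-- A 2-element `s` fixing the weight with `(s - 1) ^ (2 ^ m - 1) = 0` on the weight space is
root-like of order `2 ^ m` on the symplectic space. -/
theorem wt_exp (ψ : Wt ρ R) {s : H} (hs : s • ψ = ψ) (hs2 : IsPGroup 2 (Subgroup.zpowers s))
    (m : ℕ) (hm : 1 ≤ m)
    (h0 : ∀ v ∈ wtSpace ρ R ψ.1, ((ρ s - 1 : End K V) ^ (2 ^ m - 1)) v = 0) :
    IsRootLike (wAct ψ ⟨s, hs⟩) m := by
  obtain ⟨X, hX, h, hle, hnt, -, hc⟩ := exists_heis ψ (Subgroup.zpowers s) hs2
    (Subgroup.zpowers_le.2 (MulAction.mem_stabilizer_iff.2 hs))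
  haveI := hnt
  set g : Subgroup.zpowers s := ⟨s, Subgroup.mem_zpowers s⟩
  have h1 : (repOn ρ (Subgroup.zpowers s) X hX g - 1) ^ (2 ^ m - 1) = 0 := by
    have key : ∀ (n : ℕ) (x : X), (((repOn ρ (Subgroup.zpowers s) X hX g - 1) ^ n) x : V) =
        ((ρ s - 1 : End K V) ^ n) (x : V) := by
      intro n
      induction n with
      | zero => intro x; rfl
      | succ n ih => intro x; rw [pow_succ, pow_succ, End.mul_apply, End.mul_apply, ih]; rfl
    exact LinearMap.ext fun x => Subtype.ext ((key _ x).trans (h0 _ (hle x.2)))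
  exact exp_local h hc g m hm h1

end CfsgLib.TwoLength
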