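import Cfsg.Agent.Lib.TwoLength.Weights
import Cfsg.Agent.Lib.TwoLength.OddTwo
import Cfsg.Agent.Lib.TwoLength.HeisSub
import Cfsg.Agent.Lib.TwoLength.ModChain

/-!
# Irreducible modules in weight spaces; faithfulness on the symplectic spaces
-/

set_option autoImplicit false
set_option linter.style.haveILetI false
set_option linter.unusedSectionVars false

namespace CfsgLib.TwoLength

open Module CfsgLib.FgsC.HallHigman Cfsg
open scoped commutatorElement

section Modules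

variable {H : Type*} [Group H] [Finite H] {K : Type*} [Field K] {V : Type*} [AddCommGroup V]
  [Module K V] {ρ : Representation K H V} {R : Subgroup H} [hR : Fact (IsOddClassTwo R)]

/-- An element acting trivially on a weight space acts trivially on the symplectic space. -/
theorem wAct_eq_one_of_trivial (ψ : Wt ρ R) (g : MulAction.stabilizer H ψ)
    (hg : ∀ v ∈ wtSpace ρ R ψ.1, ρ (g : H) v = v) : wAct ψ g = 1 := by
  refine MulEquiv.ext fun w => ?_
  obtain ⟨a, rfl⟩ := QuotientGroup.mk_surjective w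
  rw [wAct_mk, MulAut.one_apply]
  refine (QuotientGroup.eq).2 ((mem_radWt hR.out ψ.2.ne_bot).2 ⟨?_, fun b hb => ?_⟩)
  · exact (((MulAut.conjNormal (g : H) a)⁻¹ * a : R)).2
  obtain ⟨v, hv, hv0⟩ := Submodule.exists_mem_ne_zero_of_ne_bot ψ.2.ne_bot
  have hne := ψ.2.ne_bot
  set c : H := (((MulAut.conjNormal (g : H) a)⁻¹ * a : R) : H) with hc
  have hcR : c ∈ R := (((MulAut.conjNormal (g : H) a)⁻¹ * a : R)).2
  have hctriv : ∀ u ∈ wtSpace ρ R ψ.1, ρ c u = u := by
    intro u hu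
    have hgi : ∀ u ∈ wtSpace ρ R ψ.1, ρ (g : H)⁻¹ u = u := fun u hu => by
      conv_lhs => rw [← hg u hu]
      rw [rho_apply_inv]
    have ha : ρ (a : H) u ∈ wtSpace ρ R ψ.1 := rho_mem_wtSpace hR.out hne a.2 hu
    rw [hc, Subgroup.coe_mul, Subgroup.coe_inv, MulAut.conjNormal_apply,
      show ((g : H) * (a : H) * (g : H)⁻¹)⁻¹ * (a : H) =
        (g : H) * ((a : H)⁻¹ * ((g : H)⁻¹ * (a : H))) by group,
      ← rho_mul_apply, ← rho_mul_apply, ← rho_mul_apply, hgi _ ha, rho_apply_inv, hg u hu]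
  have hcb := comm_mem_radWt hR.out hne hcR hb
  refine smul_left_injective K hv0 ?_
  show ψ.1 ⁅c, b⁆ • v = (1 : K) • v
  rw [one_smul, ← hv _ hcb, commutatorElement_def, ← rho_mul_apply, ← rho_mul_apply,
    ← rho_mul_apply]
  have hb' : ρ b⁻¹ v ∈ wtSpace ρ R ψ.1 := rho_mem_wtSpace hR.out hne (R.inv_mem hb) hv
  have hci : ρ c⁻¹ (ρ b⁻¹ v) = ρ b⁻¹ v := by
    conv_lhs => rw [← hctriv _ hb']
    rw [rho_apply_inv]
  rw [hci, rho_inv_apply, hctriv v hv]

/-- The representation of a subgroup of the stabiliser. -/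
def wRep (ψ : Wt ρ R) (P : Subgroup H) (hP : P ≤ MulAction.stabilizer H ψ) :
    Representation K P (wtSpace ρ R ψ.1) :=
  repOn ρ P _ fun _ hg _ hv => rho_mem_of_stab (hP hg) hv

/-- An irreducible module in a weight space, invariant under a 2-group fixing the weight. -/
theorem exists_heis [IsAlgClosed K] [CharP K 2] [FiniteDimensional K V] (ψ : Wt ρ R)
    (P : Subgroup H) (hP : IsPGroup 2 P) (hPs : P ≤ MulAction.stabilizer H ψ) :
    ∃ (X : Submodule K V) (hX : ∀ g ∈ P, ∀ v ∈ X, ρ g v ∈ X) (h : Heis K X (WSpace ψ)),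
      X ≤ wtSpace ρ R ψ.1 ∧ Nontrivial X ∧ h.form = wForm ψ ∧
      h.IsCompat (repOn ρ P X hX) ((wAct ψ).comp (Subgroup.inclusion hPs)) := by
  set M := wtSpace ρ R ψ.1 with hM
  haveI : Nontrivial M := Submodule.nontrivial_iff_ne_bot.2 ψ.2.ne_bot
  let π : WSpace ψ → End K M := fun w => (wOp ψ w).restrict fun _ hv => wOp_mem ψ w hv
  have h1 : π 1 = 1 := LinearMap.ext fun v => Subtype.ext (by
    show wOp ψ 1 (v : V) = v
    rw [wOp, if_pos rfl]; rfl)
  have hmul : ∀ v w, ∃ c : K, c ≠ 0 ∧ π v * π w = c • π (v * w) := fun x y => by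
    obtain ⟨c, hc, e⟩ := wOp_mul ψ x y
    exact ⟨c, hc, LinearMap.ext fun v => Subtype.ext (e v v.2)⟩
  have hcomm : ∀ v w, π v * π w = ((wForm ψ).B v w : K) • (π w * π v) := fun x y =>
    LinearMap.ext fun v => Subtype.ext (wOp_comm ψ x y v.2)
  have hc : ∀ (g : P) (w : WSpace ψ), ∃ c : K, c ≠ 0 ∧
      wRep ψ P hPs g * π w = c • (π (wAct ψ (Subgroup.inclusion hPs g) w) * wRep ψ P hPs g) := by
    intro g w
    obtain ⟨c, hc, e⟩ := rho_wOp ψ (Subgroup.inclusion hPs g) w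
    exact ⟨c, hc, LinearMap.ext fun v => Subtype.ext (e v v.2)⟩
  obtain ⟨X0, hX0, hXW, hXP, hXm⟩ := exists_irred π (wRep ψ P hPs)
    ((wAct ψ).comp (Subgroup.inclusion hPs)) (wForm ψ) h1 hmul hcomm hc ⊤ (hP.to_subgroup ⊤)
  haveI : Nontrivial X0 := Submodule.nontrivial_iff_ne_bot.2 hX0
  set X := X0.map M.subtype with hXdef
  let e : X0 ≃ₗ[K] X := Submodule.equivMapOfInjective _ M.injective_subtype X0
  have he : ∀ x : X0, ((e x : X) : V) = ((x : M) : V) := fun x => rfl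
  let h0 := heisOfMinimal π (wForm ψ) h1 hmul hcomm X0 hXW hXm
  have hX : ∀ g ∈ P, ∀ v ∈ X, ρ g v ∈ X := by
    rintro g hg _ ⟨v, hv, rfl⟩
    exact ⟨_, hXP ⟨g, hg⟩ (Subgroup.mem_top _) v hv, rfl⟩
  let h : Heis K X (WSpace ψ) :=
    { π := fun w => e.conj (h0.π w)
      form := wForm ψ
      π_one := by
        show e.conj (h0.π 1) = 1
        rw [h0.π_one]
        exact LinearEquiv.conj_id e
      π_mul := fun v w => by
        obtain ⟨c, hc, e'⟩ := h0.π_mul v w
        refine ⟨c, hc, ?_⟩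
        show e.conj (h0.π v) * e.conj (h0.π w) = c • e.conj (h0.π (v * w))
        rw [← map_smul, ← e', Module.End.mul_eq_comp, Module.End.mul_eq_comp, LinearEquiv.conj_comp]
      π_comm := fun v w => by
        show e.conj (h0.π v) * e.conj (h0.π w) = _ • (e.conj (h0.π w) * e.conj (h0.π v))
        rw [Module.End.mul_eq_comp, Module.End.mul_eq_comp, ← LinearEquiv.conj_comp,
          ← LinearEquiv.conj_comp, ← map_smul]
        exact congrArg e.conj (h0.π_comm v w)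
      irred := fun Y hY => by
        rcases h0.irred (Y.comap (e : X0 →ₗ[K] X)) (fun w u hu => by
          show e (h0.π w u) ∈ Y
          have := hY w (e u) hu
          rwa [LinearEquiv.conj_apply_apply, LinearEquiv.symm_apply_apply] at this) with h' | h'
        · refine Or.inl ((Submodule.eq_bot_iff _).2 fun y hy => ?_)
          obtain ⟨u, rfl⟩ := e.surjective y
          rw [(Submodule.eq_bot_iff _).1 h' u hy, map_zero]
        · refine Or.inr (eq_top_iff.2 fun y _ => ?_)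
          obtain ⟨u, rfl⟩ := e.surjective y
          exact (h'.symm ▸ Submodule.mem_top : u ∈ Y.comap (e : X0 →ₗ[K] X)) }
  refine ⟨X, hX, h, Submodule.map_subtype_le M X0, e.symm.toEquiv.nontrivial, rfl, fun g w => ?_⟩
  obtain ⟨c, hc0, e'⟩ := hc g w
  refine ⟨c, hc0, LinearMap.ext fun x => Subtype.ext ?_⟩
  obtain ⟨u, rfl⟩ := e.surjective x
  have e'' := congrArg Subtype.val (LinearMap.congr_fun e' (u : M))
  show ρ (g : H) ((e (h0.π w (e.symm (e u))) : X) : V) = c • _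
  rw [LinearEquiv.symm_apply_apply, he]
  refine e''.trans ?_
  have h5 : repOn ρ P X hX g (e u) = e ⟨wRep ψ P hPs g (u : M), hXP g (Subgroup.mem_top g) _ u.2⟩ :=
    Subtype.ext rfl
  rw [Module.End.mul_apply, h5]
  show c • _ = c • ((e (h0.π _ (e.symm (e ⟨wRep ψ P hPs g (u : M), _⟩))) : X) : V)
  rw [LinearEquiv.symm_apply_apply, he]
  rfl

end Modules

section Faithful

universe u

variable {H : Type u} [Group H] [Finite H] {K : Type*} [Field K] [IsAlgClosed K] [CharP K 2]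
  {V : Type*} [AddCommGroup V] [Module K V] [FiniteDimensional K V] {ρ : Representation K H V}

/-- `g` fixes all weights. -/
def FixesWts (ρ : Representation K H V) (g : H) : Prop :=
  ∀ (R : Subgroup H) (_ : Fact (IsOddClassTwo R)) (ψ : Wt ρ R), g • ψ = ψ

theorem FixesWts.conj {g : H} (hg : FixesWts ρ g) (h : H) : FixesWts ρ (h * g * h⁻¹) := by
  intro R hR ψ
  rw [mul_smul, mul_smul, hg R hR, smul_inv_smul]

variable (ρ) in
/-- The elements fixing all weights. -/
def fixWts : Subgroup H where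
  carrier := {g | FixesWts ρ g}
  one_mem' := fun R hR ψ => one_smul H ψ
  mul_mem' := fun {a b} ha hb R hR ψ => by rw [mul_smul, hb R hR, ha R hR]
  inv_mem' := fun {a} ha R hR ψ => by rw [inv_smul_eq_iff, ha R hR]

theorem mem_fixWts {g : H} : g ∈ fixWts ρ ↔ FixesWts ρ g := Iff.rfl

/-- A 2-element fixing all weights and acting trivially on all symplectic spaces is trivial. -/
theorem eq_one_of_wAct (hsol : IsPSolvable 2 H) (hO : pCore 2 H = ⊥)
    (hρ : Function.Injective ρ) {z : H} {k : ℕ} (hz : z ^ 2 ^ k = 1) (hfix : FixesWts ρ z)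
    (h : ∀ (R : Subgroup H) (hR : Fact (IsOddClassTwo R)) (ψ : Wt ρ R),
      wAct ψ ⟨z, hfix R hR ψ⟩ = 1) : z = 1 := by
  refine eq_one_of_centralizes hsol hO hz fun R hR a ha => ?_
  haveI hRf : Fact (IsOddClassTwo R) := ⟨hR⟩
  have hzc : z * a * z⁻¹ ∈ R := hR.normal.conj_mem a ha z
  set c := (z * a * z⁻¹)⁻¹ * a with hc
  have hcR : c ∈ R := R.mul_mem (R.inv_mem hzc) ha
  have hcrad : ∀ ψ : Wt ρ R, c ∈ radWt R ψ.1 := by
    intro ψ
    have h1 : (QuotientGroup.mk (MulAut.conjNormal z (⟨a, ha⟩ : R)) : WSpace ψ) =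
        QuotientGroup.mk ⟨a, ha⟩ := by
      have h2 := DFunLike.congr_fun (h R hRf ψ) (QuotientGroup.mk ⟨a, ha⟩)
      rwa [wAct_mk] at h2
    have h0 : ((MulAut.conjNormal z (⟨a, ha⟩ : R))⁻¹ * ⟨a, ha⟩ : R) ∈ radSub ψ :=
      (QuotientGroup.eq).1 h1
    have h3 : (((MulAut.conjNormal z (⟨a, ha⟩ : R))⁻¹ * ⟨a, ha⟩ : R) : H) ∈ radWt R ψ.1 := h0
    rw [Subgroup.coe_mul, Subgroup.coe_inv, MulAut.conjNormal_apply] at h3
    exact h3
  have hext : ∀ x y : H, (∀ ψ : Wt ρ R, ∀ v ∈ wtSpace ρ R ψ.1, ρ x v = ρ y v) → x = y := by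
    intro x y hxy
    refine hρ (LinearMap.ext fun v => ?_)
    have hv : v ∈ ⨆ ψ : Wt ρ R, wtSpace ρ R ψ.1 := by
      rw [iSup_wtSpace hR]; exact Submodule.mem_top
    refine Submodule.iSup_induction _ (motive := fun v => ρ x v = ρ y v) hv (fun ψ w hw => hxy ψ w hw)
      (by simp) fun u w hu hw => by rw [map_add, map_add, hu, hw]
  have hcent : ∀ b ∈ R, Commute c b := fun b hb => by
    refine commutatorElement_eq_one_iff_commute.1 (hext _ _ fun ψ v hv => ?_)
    rw [hv _ (comm_mem_radWt hR ψ.2.ne_bot hcR hb), ((mem_radWt hR ψ.2.ne_bot).1 (hcrad ψ)).2 b hb,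
      one_smul, map_one, End.one_apply]
  have hzcc : Commute z c := by
    refine (commutatorElement_eq_one_iff_commute.1 (hext _ _ fun ψ v hv => ?_))
    have hcz : z * c * z⁻¹ ∈ radWt R ψ.1 := conj_mem_radSub (hfix R hRf ψ) (hcrad ψ)
    have hψ : ψ.1 (z * c * z⁻¹) = ψ.1 c := by
      have h3 := congrFun (conjFun_eq_of_smul_eq (hfix R hRf ψ)) (z * c * z⁻¹)
      rw [← h3]
      show ψ.1 (z⁻¹ * (z * c * z⁻¹) * z) = ψ.1 c
      congr 1; group
    rw [map_one, End.one_apply, commutatorElement_def, ← rho_mul_apply,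
      hv _ ((radWt R ψ.1).inv_mem (hcrad ψ)), map_smul, hv _ hcz, smul_smul, hψ,
      map_inv_of_ne_bot ψ.2.ne_bot (hcrad ψ),
      inv_mul_cancel₀ (map_ne_zero_of_ne_bot ψ.2.ne_bot (hcrad ψ)), one_smul]
  -- `z a = a c⁻¹ z`
  have e1 : z * a * z⁻¹ = a * c⁻¹ := by rw [hc]; group
  have hpow : ∀ n : ℕ, z ^ n * a * (z ^ n)⁻¹ = a * (c⁻¹) ^ n := by
    intro n
    induction n with
    | zero => simp
    | succ n ih =>
      have e2 : z ^ n * c⁻¹ * (z ^ n)⁻¹ = c⁻¹ := by
        rw [((hzcc.inv_right).pow_left n).eq, mul_inv_cancel_right]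
      calc z ^ (n + 1) * a * (z ^ (n + 1))⁻¹ = z ^ n * (z * a * z⁻¹) * (z ^ n)⁻¹ := by
            rw [pow_succ]; group
        _ = (z ^ n * a * (z ^ n)⁻¹) * (z ^ n * c⁻¹ * (z ^ n)⁻¹) := by rw [e1]; group
        _ = _ := by rw [ih, e2, mul_assoc, ← pow_succ]
  have h2 := hpow (2 ^ k)
  rw [hz, one_mul, inv_one, mul_one, left_eq_mul] at h2
  have hc1 : c⁻¹ = 1 := by
    have h4 : (⟨c⁻¹, R.inv_mem hcR⟩ : R) ^ Nat.card R = 1 := pow_card_eq_one'
    have h5 : (c⁻¹) ^ Nat.card R = 1 := congrArg Subtype.val h4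
    exact orderOf_eq_one_iff.1 (Nat.eq_one_of_dvd_coprimes
      ((Nat.coprime_two_left.2 hR.odd).pow_left k)
      (orderOf_dvd_of_pow_eq_one h2) (orderOf_dvd_of_pow_eq_one h5))
  rw [hc1, mul_one] at e1
  exact mul_inv_eq_iff_eq_mul.1 e1

end Faithful

end CfsgLib.TwoLength
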