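import Cfsg.Agent.Lib.TwoLength.Defs
import Cfsg.Agent.Lib.FgsC.HallHigman

/-!
# Weights of a class two normal subgroup of odd order

For a normal subgroup `R` of odd order and class two, a weight is a function `ψ` on the group which
is a weight of its radical `{a ∈ R | ∀ b ∈ R, ψ ⁅a, b⁆ = 1}` and vanishes outside this radical. The
weight spaces decompose the module and are permuted by the group.
-/

set_option autoImplicit false
set_option linter.style.haveILetI false
set_option linter.unusedSectionVars false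

namespace CfsgLib.TwoLength

open Module CfsgLib.FgsC.HallHigman
open scoped commutatorElement

section General

variable {A : Type*} [Group A] {K : Type*} [Field K] [IsAlgClosed K] {V : Type*} [AddCommGroup V]
  [Module K V] [FiniteDimensional K V]

/-- A finite commuting group of operators of order prime to the characteristic is diagonalisable. -/
theorem iSup_weight_eq_top (T : A → End K V) (hc : ∀ a b, Commute (T a) (T b)) (n : ℕ)
    (hn : (n : K) ≠ 0) (hpow : ∀ a, T a ^ n = 1) :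
    ⨆ χ : A → K, ⨅ a, (T a).eigenspace (χ a) = ⊤ := by
  have hss : ∀ a, (T a).IsFinitelySemisimple := fun a =>
    Module.End.isFinitelySemisimple_iff_isSemisimple.mpr
      (Module.End.isSemisimple_of_squarefree_aeval_eq_zero
        (Polynomial.separable_X_pow_sub_C (1 : K) hn one_ne_zero).squarefree
        (by simp [hpow a]))
  have h := Module.End.iSup_iInf_maxGenEigenspace_eq_top_of_iSup_maxGenEigenspace_eq_top_of_commute
    T (fun a b _ => hc a b) (fun a => Module.End.iSup_maxGenEigenspace_eq_top (T a))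
  refine le_antisymm le_top (h ▸ iSup_mono fun χ => iInf_mono fun a => ?_)
  rw [(hss a).maxGenEigenspace_eq_eigenspace]

end General

variable {H : Type*} [Group H]

/-- A normal subgroup of odd order and class at most two. -/
structure IsOddClassTwo (R : Subgroup H) : Prop where
  normal : R.Normal
  odd : Odd (Nat.card R)
  two : ∀ a ∈ R, ∀ b ∈ R, ∀ c ∈ R, Commute ⁅a, b⁆ c

variable {R : Subgroup H} {K : Type*} [Field K]

/-- The radical of `ψ`. -/
def radWt (R : Subgroup H) (ψ : H → K) : Subgroup H :=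
  Subgroup.closure {a | a ∈ R ∧ ∀ b ∈ R, ψ ⁅a, b⁆ = 1}

theorem radWt_le (R : Subgroup H) (ψ : H → K) : radWt R ψ ≤ R :=
  (Subgroup.closure_le R).2 fun _ ha => ha.1

variable {V : Type*} [AddCommGroup V] [Module K V]

/-- The space of the weight `ψ`. -/
def wtSpace (ρ : Representation K H V) (R : Subgroup H) (ψ : H → K) : Submodule K V :=
  wspace ρ (radWt R ψ) ψ

/-- A weight of `R`. -/
structure IsWt (ρ : Representation K H V) (R : Subgroup H) (ψ : H → K) : Prop where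
  ne_bot : wtSpace ρ R ψ ≠ ⊥
  zero : ∀ a, a ∉ radWt R ψ → ψ a = 0

variable {ρ : Representation K H V} {ψ : H → K}

theorem map_mul_of_ne_bot {A : Subgroup H} {χ : H → K} (h : wspace ρ A χ ≠ ⊥) {a b : H}
    (ha : a ∈ A) (hb : b ∈ A) : χ (a * b) = χ a * χ b := by
  obtain ⟨v, hv, hv0⟩ := Submodule.exists_mem_ne_zero_of_ne_bot h
  have h1 := hv _ (A.mul_mem ha hb)
  rw [map_mul, End.mul_apply, hv b hb, map_smul, hv a ha, smul_smul, mul_comm] at h1
  exact smul_left_injective K hv0 h1.symm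

theorem map_one_of_ne_bot {A : Subgroup H} {χ : H → K} (h : wspace ρ A χ ≠ ⊥) : χ 1 = 1 := by
  obtain ⟨v, hv, hv0⟩ := Submodule.exists_mem_ne_zero_of_ne_bot h
  have h1 := hv 1 A.one_mem
  rw [map_one, End.one_apply] at h1
  exact (smul_left_injective K hv0 (h1.symm.trans (one_smul K v).symm))

theorem map_inv_of_ne_bot {A : Subgroup H} {χ : H → K} (h : wspace ρ A χ ≠ ⊥) {a : H}
    (ha : a ∈ A) : χ a⁻¹ = (χ a)⁻¹ := by
  have h1 := map_mul_of_ne_bot h (A.inv_mem ha) ha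
  rw [inv_mul_cancel, map_one_of_ne_bot h] at h1
  exact eq_inv_of_mul_eq_one_left h1.symm

theorem map_ne_zero_of_ne_bot {A : Subgroup H} {χ : H → K} (h : wspace ρ A χ ≠ ⊥) {a : H}
    (ha : a ∈ A) : χ a ≠ 0 := fun h0 => by
  have h1 := map_mul_of_ne_bot h ha (A.inv_mem ha)
  rw [mul_inv_cancel, h0, zero_mul, map_one_of_ne_bot h] at h1
  exact one_ne_zero h1

section ClassTwo

variable (hR : IsOddClassTwo R)
include hR

omit hR in
theorem comm_mem {a b : H} (ha : a ∈ R) (hb : b ∈ R) : ⁅a, b⁆ ∈ R := by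
  rw [commutatorElement_def]
  exact R.mul_mem (R.mul_mem (R.mul_mem ha hb) (R.inv_mem ha)) (R.inv_mem hb)

theorem comm_mul_left {a a' b : H} (ha0 : a ∈ R) (ha' : a' ∈ R) (hb : b ∈ R) :
    ⁅a * a', b⁆ = ⁅a', b⁆ * ⁅a, b⁆ := by
  rw [commutatorElement_mul_left_eq_conj_mul, (hR.two a' ha' b hb a ha0).symm.eq]
  group

theorem comm_mul_right {a b b' : H} (ha : a ∈ R) (hb : b ∈ R) (hb' : b' ∈ R) :
    ⁅a, b * b'⁆ = ⁅a, b⁆ * ⁅a, b'⁆ := by
  rw [commutatorElement_mul_right_eq_mul_conj, mul_assoc _ b, (hR.two a ha b' hb' b hb).symm.eq]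
  group

theorem comm_inv_left {a b : H} (ha : a ∈ R) (hb : b ∈ R) : ⁅a⁻¹, b⁆ = ⁅a, b⁆⁻¹ := by
  have h := comm_mul_left hR (R.inv_mem ha) ha hb
  rw [inv_mul_cancel, commutatorElement_one_left] at h
  exact eq_inv_of_mul_eq_one_right h.symm

theorem gen_of_comm (h1 : ψ 1 = 1) {a b : H} (ha : a ∈ R) (hb : b ∈ R) :
    ⁅a, b⁆ ∈ radWt R ψ :=
  Subgroup.subset_closure ⟨comm_mem ha hb, fun c hc => by
    rw [commutatorElement_eq_one_iff_commute.2 (hR.two a ha b hb c hc), h1]⟩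

variable (h : wtSpace ρ R ψ ≠ ⊥)
include h

theorem comm_mem_radWt {a b : H} (ha : a ∈ R) (hb : b ∈ R) : ⁅a, b⁆ ∈ radWt R ψ :=
  gen_of_comm hR (map_one_of_ne_bot h) ha hb

theorem mem_radWt {a : H} : a ∈ radWt R ψ ↔ a ∈ R ∧ ∀ b ∈ R, ψ ⁅a, b⁆ = 1 := by
  refine ⟨fun ha => ?_, fun ha => Subgroup.subset_closure ha⟩
  induction ha using Subgroup.closure_induction with
  | mem x hx => exact hx
  | one => exact ⟨R.one_mem, fun b _ => by rw [commutatorElement_one_left, map_one_of_ne_bot h]⟩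
  | mul x y _ _ hx hy =>
    exact ⟨R.mul_mem hx.1 hy.1, fun b hb => by
      rw [comm_mul_left hR hx.1 hy.1 hb, map_mul_of_ne_bot h (comm_mem_radWt hR h hy.1 hb)
        (comm_mem_radWt hR h hx.1 hb), hx.2 b hb, hy.2 b hb, one_mul]⟩
  | inv x _ hx =>
    exact ⟨R.inv_mem hx.1, fun b hb => by
      rw [comm_inv_left hR hx.1 hb, map_inv_of_ne_bot h (comm_mem_radWt hR h hx.1 hb), hx.2 b hb,
        inv_one]⟩

theorem conj_mem_radWt {a b : H} (ha : a ∈ radWt R ψ) (hb : b ∈ R) : b * a * b⁻¹ ∈ radWt R ψ := by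
  rw [show b * a * b⁻¹ = ⁅b, a⁆ * a by rw [commutatorElement_def]; group]
  exact (radWt R ψ).mul_mem (comm_mem_radWt hR h hb (radWt_le R ψ ha)) ha

theorem map_conj {a b : H} (ha : a ∈ radWt R ψ) (hb : b ∈ R) : ψ (b * a * b⁻¹) = ψ a := by
  have hba := comm_mem_radWt hR h hb (radWt_le R ψ ha)
  rw [show b * a * b⁻¹ = ⁅b, a⁆ * a by rw [commutatorElement_def]; group,
    map_mul_of_ne_bot h hba ha, ← commutatorElement_inv,
    map_inv_of_ne_bot h (comm_mem_radWt hR h (radWt_le R ψ ha) hb),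
    ((mem_radWt hR h).1 ha).2 b hb, inv_one, one_mul]

theorem rho_mem_wtSpace {b : H} (hb : b ∈ R) {v : V} (hv : v ∈ wtSpace ρ R ψ) :
    ρ b v ∈ wtSpace ρ R ψ := by
  intro a ha
  have ha' : b⁻¹ * a * b ∈ radWt R ψ := by
    simpa using conj_mem_radWt hR h ha (R.inv_mem hb)
  have e := map_conj hR h ha (R.inv_mem hb)
  rw [inv_inv] at e
  rw [rho_mul_apply, show a * b = b * (b⁻¹ * a * b) by group, ← rho_mul_apply, hv _ ha', map_smul, e]

end ClassTwo

variable [Finite H]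

/-- The class sum of `a` under `R`. -/
noncomputable def classOp (ρ : Representation K H V) (R : Subgroup H) (a : H) : End K V :=
  haveI := Fintype.ofFinite R
  ∑ b : R, ρ ((b : H) * a * (b : H)⁻¹)

theorem classOp_apply [CharP K 2] (hR : IsOddClassTwo R) (h : IsWt ρ R ψ) {a : H} (ha : a ∈ R)
    {v : V} (hv : v ∈ wtSpace ρ R ψ) : classOp ρ R a v = ψ a • v := by
  let := Fintype.ofFinite R
  have hodd : ((Fintype.card R : ℕ) : K) = 1 := by
    rw [← Nat.card_eq_fintype_card]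
    obtain ⟨k, hk⟩ := hR.odd
    rw [hk]; simp [CharTwo.two_eq_zero]
  unfold classOp
  rw [LinearMap.sum_apply]
  by_cases har : a ∈ radWt R ψ
  · rw [Finset.sum_congr rfl fun (b : R) _ => (hv _ (conj_mem_radWt hR h.ne_bot har b.2)).trans
      (by rw [map_conj hR h.ne_bot har b.2]), Finset.sum_const, Finset.card_univ,
      ← Nat.cast_smul_eq_nsmul K, smul_smul, hodd, one_mul]
  · rw [h.zero a har, zero_smul]
    let f : R →* K :=
      { toFun := fun b => ψ ⁅(b : H), a⁆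
        map_one' := by simp [map_one_of_ne_bot h.ne_bot]
        map_mul' := fun b c => by
          rw [Subgroup.coe_mul, comm_mul_left hR b.2 c.2 ha,
            map_mul_of_ne_bot h.ne_bot (comm_mem_radWt hR h.ne_bot c.2 ha)
              (comm_mem_radWt hR h.ne_bot b.2 ha), mul_comm] }
    have hf : f ≠ 1 := fun hf => har ((mem_radWt hR h.ne_bot).2 ⟨ha, fun b hb => by
      have h1 : f ⟨b, hb⟩ = 1 := by rw [hf]; rfl
      change ψ ⁅b, a⁆ = 1 at h1
      rw [← commutatorElement_inv, map_inv_of_ne_bot h.ne_bot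
        (comm_mem_radWt hR h.ne_bot hb ha), h1, inv_one]⟩)
    have hterm : ∀ b : R, ρ ((b : H) * a * (b : H)⁻¹) v = f b • ρ a v := fun b => by
      show _ = ψ ⁅(b : H), a⁆ • ρ a v
      rw [show (b : H) * a * (b : H)⁻¹ = ⁅(b : H), a⁆ * a by rw [commutatorElement_def]; group,
        ← rho_mul_apply, rho_mem_wtSpace hR h.ne_bot ha hv _ (comm_mem_radWt hR h.ne_bot b.2 ha)]
    rw [Finset.sum_congr rfl fun b _ => hterm b, ← Finset.sum_smul]
    erw [sum_hom_units_eq_zero f hf]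
    rw [zero_smul]

theorem wt_eq_zero_of_notMem {ψ : H → K} (h : IsWt ρ R ψ) {a : H} (ha : a ∉ R) : ψ a = 0 :=
  h.zero a fun h' => ha (radWt_le R ψ h')

theorem iSupIndep_wtSpace [CharP K 2] [FiniteDimensional K V] (hR : IsOddClassTwo R) :
    iSupIndep fun ψ : {ψ : H → K // IsWt ρ R ψ} => wtSpace ρ R ψ.1 := by
  classical
  rw [iSupIndep_iff_finsetSum_eq_zero_imp_eq_zero]
  intro s v hv hsum i hi
  by_contra hi0
  set t := s.filter fun j => v j ≠ 0 with ht
  have hli := linearIndependent_of_weights (fun a : R => classOp ρ R (a : H))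
    (fun (j : t) (a : R) => (j : {ψ : H → K // IsWt ρ R ψ}).1 a)
    (fun j k hjk => Subtype.ext (Subtype.ext (funext fun a => by
      by_cases ha : a ∈ R
      · exact congrFun hjk ⟨a, ha⟩
      · rw [wt_eq_zero_of_notMem j.1.2 ha, wt_eq_zero_of_notMem k.1.2 ha])))
    (fun j : t => v j) (fun j => (Finset.mem_filter.1 j.2).2)
    (fun j a => classOp_apply hR j.1.2 a.2 (hv _ (Finset.mem_filter.1 j.2).1))
  rw [Fintype.linearIndependent_iff] at hli
  have h0 : ∑ j : t, (1 : K) • v j = 0 := by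
    simp only [one_smul]
    rw [Finset.sum_coe_sort t v, ht, Finset.sum_filter_ne_zero, hsum]
  exact one_ne_zero (hli (fun _ => 1) h0 ⟨i, Finset.mem_filter.2 ⟨hi, hi0⟩⟩)

theorem finite_wt [CharP K 2] [FiniteDimensional K V] (hR : IsOddClassTwo R) :
    Finite {ψ : H → K // IsWt ρ R ψ} :=
  Set.finite_univ_iff.1 ((WellFoundedGT.finite_ne_bot_of_iSupIndep (iSupIndep_wtSpace hR)).subset
    fun ψ _ => ψ.2.ne_bot)

theorem iSup_wtSpace [CharP K 2] [IsAlgClosed K] [FiniteDimensional K V] (hR : IsOddClassTwo R) :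
    ⨆ ψ : {ψ : H → K // IsWt ρ R ψ}, wtSpace ρ R ψ.1 = ⊤ := by
  classical
  set Z := R ⊓ Subgroup.centralizer (R : Set H) with hZ
  have hn : ((Nat.card R : ℕ) : K) ≠ 0 := by
    obtain ⟨k, hk⟩ := hR.odd
    rw [hk]; simp [CharTwo.two_eq_zero]
  have hpow : ∀ a ∈ R, (ρ a) ^ Nat.card R = 1 := fun a ha => by
    rw [← map_pow, show a ^ Nat.card R = 1 from congrArg Subtype.val (pow_card_eq_one' (x := (⟨a, ha⟩ : R))),
      map_one]
  have hZc : ∀ a b : Z, Commute (ρ (a : H)) (ρ (b : H)) := fun a b => by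
    show ρ _ * ρ _ = ρ _ * ρ _
    rw [← map_mul, ← map_mul, Subgroup.mem_centralizer_iff.1 b.2.2 _ a.2.1]
  refine le_antisymm le_top ?_
  rw [← iSup_weight_eq_top (fun a : Z => ρ (a : H)) hZc _ hn fun a => hpow _ a.2.1]
  refine iSup_le fun χ₀ => ?_
  set χ : H → K := fun a => if ha : a ∈ Z then χ₀ ⟨a, ha⟩ else 0 with hχ
  set Y := ⨅ a : Z, Module.End.eigenspace (ρ (a : H)) (χ₀ a) with hY
  have hYeq : Y = wspace ρ Z χ := by
    ext v
    rw [hY, Submodule.mem_iInf, mem_wspace]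
    constructor
    · intro hv a ha
      rw [hχ]; dsimp only; rw [dif_pos ha]
      exact End.mem_eigenspace_iff.1 (hv ⟨a, ha⟩)
    · intro hv a
      refine End.mem_eigenspace_iff.2 ?_
      rw [hv _ a.2, hχ]; dsimp only; rw [dif_pos a.2]
  rw [hYeq]
  by_cases hbot : wspace ρ Z χ = ⊥
  · rw [hbot]; exact bot_le
  have hRY : ∀ a ∈ R, ∀ v ∈ wspace ρ Z χ, ρ a v ∈ wspace ρ Z χ := fun a ha v hv z hz => by
    rw [rho_mul_apply, (Subgroup.mem_centralizer_iff.1 hz.2 a ha).symm, ← rho_mul_apply,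
      hv z hz, map_smul]
  have hcz : ∀ a ∈ R, ∀ b ∈ R, ⁅a, b⁆ ∈ Z := fun a ha b hb =>
    ⟨comm_mem ha hb, Subgroup.mem_centralizer_iff.2 fun c hc => (hR.two a ha b hb c hc).symm⟩
  set D := radWt R χ with hD
  have hDset : ∀ a ∈ D, ∀ b ∈ R, ∀ v ∈ wspace ρ Z χ, ρ ⁅a, b⁆ v = v := by
    intro a ha
    induction ha using Subgroup.closure_induction with
    | mem x hx => intro b hb v hv; rw [hv _ (hcz x hx.1 b hb), hx.2 b hb, one_smul]
    | one => intro b _ v _; rw [commutatorElement_one_left, map_one, End.one_apply]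
    | mul x y hx hy ihx ihy =>
      intro b hb v hv
      have hxR := (Subgroup.closure_le R).2 (fun _ h => h.1) hx
      have hyR := (Subgroup.closure_le R).2 (fun _ h => h.1) hy
      rw [comm_mul_left hR hxR hyR hb, ← rho_mul_apply, ihx b hb v hv, ihy b hb v hv]
    | inv x hx ih =>
      intro b hb v hv
      have hxR := (Subgroup.closure_le R).2 (fun _ h => h.1) hx
      rw [comm_inv_left hR hxR hb]
      conv_lhs => rw [← ih b hb v hv]
      rw [rho_apply_inv]
  let T : D → End K (wspace ρ Z χ) := fun a => (ρ (a : H)).restrict (hRY _ (radWt_le R χ a.2))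
  have hTc : ∀ a b, Commute (T a) (T b) := fun a b => LinearMap.ext fun v => Subtype.ext (by
    show ρ (a : H) (ρ (b : H) v) = ρ (b : H) (ρ (a : H) v)
    have e : ρ (a : H) (ρ (b : H) v) = ρ ⁅(a : H), (b : H)⁆ (ρ (b : H) (ρ (a : H) v)) := by
      rw [rho_mul_apply, rho_mul_apply, rho_mul_apply, commutatorElement_def]; congr 2; group
    rw [e]
    exact hDset a a.2 b (radWt_le R χ b.2) _ (hRY _ (radWt_le R χ b.2) _
      (hRY _ (radWt_le R χ a.2) _ v.2)))
  have hTpow : ∀ a, T a ^ Nat.card R = 1 := fun a => LinearMap.ext fun v => Subtype.ext (by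
    rw [Module.End.pow_restrict _ (hRY _ (radWt_le R χ a.2))]
    show ((ρ (a : H)) ^ Nat.card R) v = v
    rw [hpow _ (radWt_le R χ a.2)]; rfl)
  intro v hv
  have htop := iSup_weight_eq_top T hTc _ hn hTpow
  have hmem : (⟨v, hv⟩ : wspace ρ Z χ) ∈ ⨆ ψ₀ : D → K, ⨅ a, Module.End.eigenspace (T a) (ψ₀ a) := by
    rw [htop]; trivial
  refine Submodule.iSup_induction _ (motive := fun w : wspace ρ Z χ =>
    (w : V) ∈ ⨆ ψ : {ψ : H → K // IsWt ρ R ψ}, wtSpace ρ R ψ.1) hmem ?_ (by simp) ?_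
  · intro ψ₀ w hw
    by_cases hw0 : w = 0
    · rw [hw0]; simp
    set ψ : H → K := fun a => if ha : a ∈ D then ψ₀ ⟨a, ha⟩ else 0 with hψ
    have hwD : ∀ a (ha : a ∈ D), ρ a (w : V) = ψ₀ ⟨a, ha⟩ • (w : V) := fun a ha =>
      congrArg Subtype.val (End.mem_eigenspace_iff.1 ((Submodule.mem_iInf _).1 hw ⟨a, ha⟩))
    have hw0' : (w : V) ≠ 0 := fun h => hw0 (Subtype.ext h)
    have hagree : ∀ a ∈ R, ∀ b ∈ R, ψ ⁅a, b⁆ = χ ⁅a, b⁆ := by
      intro a ha b hb
      have hm : ⁅a, b⁆ ∈ D := gen_of_comm hR (map_one_of_ne_bot hbot) ha hb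
      refine smul_left_injective K hw0' ?_
      show ψ ⁅a, b⁆ • (w : V) = χ ⁅a, b⁆ • (w : V)
      rw [hψ]; dsimp only; rw [dif_pos hm, ← hwD _ hm]
      exact w.2 _ (hcz a ha b hb)
    have hrad : radWt R ψ = D := by
      rw [hD]
      unfold radWt
      refine congrArg Subgroup.closure (Set.ext fun a => ?_)
      constructor <;> rintro ⟨ha, h⟩ <;> refine ⟨ha, fun b hb => ?_⟩
      · rw [← hagree a ha b hb]; exact h b hb
      · rw [hagree a ha b hb]; exact h b hb
    have hmemψ : (w : V) ∈ wtSpace ρ R ψ := by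
      intro a ha
      rw [hrad] at ha
      rw [hwD a ha, hψ]; dsimp only; rw [dif_pos ha]
    refine Submodule.mem_iSup_of_mem ⟨ψ, ⟨fun h => hw0' ?_, fun a ha => ?_⟩⟩ hmemψ
    · rwa [h, Submodule.mem_bot] at hmemψ
    · rw [hrad] at ha
      rw [hψ]; dsimp only; rw [dif_neg ha]
  · intro a b ha hb
    rw [Submodule.coe_add]; exact add_mem ha hb

/-- The conjugate of a function. -/
def conjFun (g : H) (ψ : H → K) : H → K := fun a => ψ (g⁻¹ * a * g)

omit [Finite H] in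
theorem radWt_conjFun (hN : R.Normal) (g : H) (ψ : H → K) {a : H} :
    a ∈ radWt R (conjFun g ψ) ↔ g⁻¹ * a * g ∈ radWt R ψ := by
  have key : ∀ (g : H) (ψ : H → K), radWt R ψ ≤
      (radWt R (conjFun g ψ)).comap (MulAut.conj g).toMonoidHom := by
    intro g ψ
    refine (Subgroup.closure_le _).2 fun a ha => Subgroup.subset_closure
      ⟨hN.conj_mem a ha.1 g, fun b hb => ?_⟩
    have hb' : g⁻¹ * b * g ∈ R := by simpa using hN.conj_mem b hb g⁻¹
    show ψ (g⁻¹ * ⁅g * a * g⁻¹, b⁆ * g) = 1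
    rw [show g⁻¹ * ⁅g * a * g⁻¹, b⁆ * g = ⁅a, g⁻¹ * b * g⁆ by
      simp [commutatorElement_def, mul_assoc]]
    exact ha.2 _ hb'
  have hinv : conjFun g⁻¹ (conjFun g ψ) = ψ := funext fun x => by
    show ψ (g⁻¹ * (g⁻¹⁻¹ * x * g⁻¹) * g) = ψ x
    congr 1; group
  constructor
  · intro ha
    have h := key g⁻¹ (conjFun g ψ) ha
    rw [hinv] at h
    simpa using h
  · intro ha
    have h := key g ψ ha
    simpa [mul_assoc] using h

omit [Finite H] in
theorem map_wtSpace_le (hN : R.Normal) (g : H) (ψ : H → K) :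
    (wtSpace ρ R ψ).map (ρ g) ≤ wtSpace ρ R (conjFun g ψ) := by
  rintro _ ⟨v, hv, rfl⟩ a ha
  rw [rho_mul_apply, show a * g = g * (g⁻¹ * a * g) by group, ← rho_mul_apply,
    hv _ ((radWt_conjFun hN g ψ).1 ha), map_smul]
  rfl

omit [Finite H] in
theorem map_wtSpace (hN : R.Normal) (g : H) (ψ : H → K) :
    (wtSpace ρ R ψ).map (ρ g) = wtSpace ρ R (conjFun g ψ) := by
  refine le_antisymm (map_wtSpace_le hN g ψ) fun v hv => ⟨ρ g⁻¹ v, ?_, rho_inv_apply g v⟩
  have h := map_wtSpace_le hN g⁻¹ (conjFun g ψ) ⟨v, hv, rfl⟩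
  rwa [show conjFun g⁻¹ (conjFun g ψ) = ψ from funext fun x => by
    show ψ (g⁻¹ * (g⁻¹⁻¹ * x * g⁻¹) * g) = ψ x
    congr 1; group] at h

/-- The weights of `R`. -/
abbrev Wt (ρ : Representation K H V) (R : Subgroup H) : Type _ := {ψ : H → K // IsWt ρ R ψ}

instance [hN : R.Normal] : MulAction H (Wt ρ R) where
  smul g ψ := ⟨conjFun g ψ.1, fun h => ψ.2.ne_bot (by
      rw [← map_wtSpace hN g ψ.1] at h
      refine le_bot_iff.1 fun v hv => ?_
      have h1 : ρ g v ∈ (⊥ : Submodule K V) := h ▸ Submodule.mem_map_of_mem hv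
      rw [Submodule.mem_bot] at h1 ⊢
      rw [← rho_apply_inv g (ρ := ρ) v, h1, map_zero]),
    fun a ha => ψ.2.zero _ fun h => ha ((radWt_conjFun hN g ψ.1).2 h)⟩
  one_smul ψ := Subtype.ext (funext fun a => show ψ.1 (1⁻¹ * a * 1) = ψ.1 a by simp)
  mul_smul g h ψ := Subtype.ext (funext fun a => by
    show ψ.1 ((g * h)⁻¹ * a * (g * h)) = ψ.1 (h⁻¹ * (g⁻¹ * a * g) * h)
    congr 1; group)

omit [Finite H] in
theorem Wt.map_space [hN : R.Normal] (g : H) (ψ : Wt ρ R) :
    (wtSpace ρ R ψ.1).map (ρ g) = wtSpace ρ R (g • ψ).1 :=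
  map_wtSpace hN g ψ.1

end CfsgLib.TwoLength
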