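import Cfsg.Agent.Lib.TwoLength.WeightSpaces

/-!
# The symplectic space of a weight

For a weight `ψ` of a normal subgroup `R` of odd order and class two, the group `R / radWt R ψ` with
the pairing `ψ ⁅a, b⁆`, the action of the stabiliser of `ψ`, and the irreducible modules inside the
weight space.
-/

set_option autoImplicit false
set_option linter.style.haveILetI false

namespace CfsgLib.TwoLength

open Module CfsgLib.FgsC.HallHigman
open scoped commutatorElement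

set_option linter.unusedSectionVars false

variable {H : Type*} [Group H] [Finite H] {K : Type*} [Field K] {V : Type*} [AddCommGroup V]
  [Module K V] {ρ : Representation K H V} {R : Subgroup H} [hR : Fact (IsOddClassTwo R)]

instance : R.Normal := hR.out.normal

/-- The radical of a weight, inside `R`. -/
def radSub (ψ : Wt ρ R) : Subgroup R := (radWt R ψ.1).subgroupOf R

theorem mem_radSub {ψ : Wt ρ R} {a : R} : a ∈ radSub ψ ↔ (a : H) ∈ radWt R ψ.1 := Iff.rfl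

instance (ψ : Wt ρ R) : (radSub ψ).Normal :=
  ⟨fun _ ha b => conj_mem_radWt hR.out ψ.2.ne_bot ha b.2⟩

/-- The symplectic space of a weight. -/
abbrev WSpace (ψ : Wt ρ R) : Type _ := R ⧸ radSub ψ

instance (ψ : Wt ρ R) : CommGroup (WSpace ψ) :=
  { (inferInstance : Group (WSpace ψ)) with
    mul_comm := fun a b => by
      obtain ⟨a, rfl⟩ := QuotientGroup.mk_surjective a
      obtain ⟨b, rfl⟩ := QuotientGroup.mk_surjective b
      rw [← QuotientGroup.mk_mul, ← QuotientGroup.mk_mul, QuotientGroup.eq]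
      show ((((a * b)⁻¹ * (b * a) : R)) : H) ∈ radWt R ψ.1
      rw [Subgroup.coe_mul, Subgroup.coe_inv, Subgroup.coe_mul, Subgroup.coe_mul, show ((a : H) * b)⁻¹ * (b * a) = ⁅(b : H)⁻¹, (a : H)⁻¹⁆ by
        rw [commutatorElement_def]; group]
      exact comm_mem_radWt hR.out ψ.2.ne_bot (R.inv_mem b.2) (R.inv_mem a.2) }

/-- The value of a weight on a commutator, as a unit. -/
noncomputable def commUnit (ψ : Wt ρ R) (a b : R) : Kˣ :=
  Units.mk0 (ψ.1 ⁅(a : H), (b : H)⁆)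
    (map_ne_zero_of_ne_bot ψ.2.ne_bot (comm_mem_radWt hR.out ψ.2.ne_bot a.2 b.2))

theorem coe_commUnit (ψ : Wt ρ R) (a b : R) :
    (commUnit ψ a b : K) = ψ.1 ⁅(a : H), (b : H)⁆ := rfl

theorem commUnit_mul_right (ψ : Wt ρ R) (a b c : R) :
    commUnit ψ a (b * c) = commUnit ψ a b * commUnit ψ a c :=
  Units.ext (by
    rw [Units.val_mul, coe_commUnit, coe_commUnit, coe_commUnit, Subgroup.coe_mul,
      comm_mul_right hR.out a.2 b.2 c.2]
    exact map_mul_of_ne_bot ψ.2.ne_bot (comm_mem_radWt hR.out ψ.2.ne_bot a.2 b.2)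
      (comm_mem_radWt hR.out ψ.2.ne_bot a.2 c.2))

theorem commUnit_mul_left (ψ : Wt ρ R) (a b c : R) :
    commUnit ψ (a * b) c = commUnit ψ a c * commUnit ψ b c :=
  Units.ext (by
    rw [Units.val_mul, coe_commUnit, coe_commUnit, coe_commUnit, Subgroup.coe_mul,
      comm_mul_left hR.out a.2 b.2 c.2, mul_comm (ψ.1 ⁅(a : H), (c : H)⁆)]
    exact map_mul_of_ne_bot ψ.2.ne_bot (comm_mem_radWt hR.out ψ.2.ne_bot b.2 c.2)
      (comm_mem_radWt hR.out ψ.2.ne_bot a.2 c.2))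

/-- The pairing against an element of `R`. -/
noncomputable def pairRight (ψ : Wt ρ R) (a : R) : WSpace ψ →* Kˣ :=
  QuotientGroup.lift (radSub ψ)
    (MonoidHom.mk' (commUnit ψ a) (commUnit_mul_right ψ a))
    fun b hb => Units.ext (by
      have hb' : (b : H) ∈ radWt R ψ.1 := hb
      show ψ.1 ⁅(a : H), (b : H)⁆ = 1
      rw [← commutatorElement_inv,
        map_inv_of_ne_bot ψ.2.ne_bot (comm_mem_radWt hR.out ψ.2.ne_bot b.2 a.2),
        ((mem_radWt hR.out ψ.2.ne_bot).1 hb').2 a a.2, inv_one])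

theorem pairRight_mk (ψ : Wt ρ R) (a b : R) :
    pairRight ψ a (QuotientGroup.mk b) = commUnit ψ a b := rfl

/-- The pairing of a weight. -/
noncomputable def wForm (ψ : Wt ρ R) : Form (WSpace ψ) Kˣ where
  B := QuotientGroup.lift (radSub ψ)
    (MonoidHom.mk' (pairRight ψ) fun a b => QuotientGroup.monoidHom_ext _ (MonoidHom.ext fun c =>
      commUnit_mul_left ψ a b c))
    fun a ha => QuotientGroup.monoidHom_ext _ (MonoidHom.ext fun b => Units.ext (by
      exact ((mem_radWt hR.out ψ.2.ne_bot).1 ha).2 b b.2))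
  alt w := by
    obtain ⟨a, rfl⟩ := QuotientGroup.mk_surjective w
    refine Units.ext ?_
    show ψ.1 ⁅(a : H), (a : H)⁆ = 1
    rw [commutatorElement_self, map_one_of_ne_bot ψ.2.ne_bot]
  nondeg v hv := by
    obtain ⟨a, rfl⟩ := QuotientGroup.mk_surjective v
    refine (QuotientGroup.eq_one_iff a).2 ((mem_radWt hR.out ψ.2.ne_bot).2 ⟨a.2, fun b hb => ?_⟩)
    exact congrArg Units.val (hv (QuotientGroup.mk ⟨b, hb⟩))
  odd := hR.out.odd.of_dvd_nat (Subgroup.card_quotient_dvd_card _)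

theorem wForm_mk (ψ : Wt ρ R) (a b : R) :
    (wForm ψ).B (QuotientGroup.mk a) (QuotientGroup.mk b) = commUnit ψ a b := rfl

omit [Finite H] in
theorem conjFun_eq_of_smul_eq {ψ : Wt ρ R} {g : H} (hg : g • ψ = ψ) : conjFun g ψ.1 = ψ.1 :=
  congrArg Subtype.val hg

omit [Finite H] in
theorem conj_mem_radSub {ψ : Wt ρ R} {g : H} (hg : g • ψ = ψ) {a : H} (ha : a ∈ radWt R ψ.1) :
    g * a * g⁻¹ ∈ radWt R ψ.1 := by
  rw [← conjFun_eq_of_smul_eq hg, radWt_conjFun hR.out.normal, show g⁻¹ * (g * a * g⁻¹) * g = a by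
    group]
  exact ha

theorem map_radSub {ψ : Wt ρ R} (g : MulAction.stabilizer H ψ) :
    (radSub ψ).map (MulAut.conjNormal (g : H) : MulAut R).toMonoidHom = radSub ψ := by
  ext a
  constructor
  · rintro ⟨b, hb, rfl⟩
    rw [mem_radSub, MulEquiv.coe_toMonoidHom, MulAut.conjNormal_apply]
    exact conj_mem_radSub g.2 hb
  · intro ha
    refine ⟨(MulAut.conjNormal (g : H) : MulAut R).symm a, ?_, MulEquiv.apply_symm_apply _ a⟩
    show (((MulAut.conjNormal (g : H) : MulAut R).symm a : R) : H) ∈ radWt R ψ.1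
    rw [MulAut.conjNormal_symm_apply]
    have h := conj_mem_radSub (g⁻¹).2 ha
    simpa using h

/-- The action of the stabiliser on the symplectic space. -/
noncomputable def wAct (ψ : Wt ρ R) : MulAction.stabilizer H ψ →* MulAut (WSpace ψ) :=
  MonoidHom.mk' (fun g => QuotientGroup.congr _ _ (MulAut.conjNormal (g : H)) (map_radSub g))
    fun g h => MulEquiv.ext fun a => by
      obtain ⟨a, rfl⟩ := QuotientGroup.mk_surjective a
      show ((MulAut.conjNormal ((g * h : MulAction.stabilizer H ψ) : H) a : R) : WSpace ψ) =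
        ((MulAut.conjNormal (g : H) (MulAut.conjNormal (h : H) a : R) : R) : WSpace ψ)
      rw [Subgroup.coe_mul, map_mul, MulAut.mul_apply]

theorem wAct_mk (ψ : Wt ρ R) (g : MulAction.stabilizer H ψ) (a : R) :
    wAct ψ g (QuotientGroup.mk a) = QuotientGroup.mk (MulAut.conjNormal (g : H) a) := rfl

theorem wAct_isom (ψ : Wt ρ R) (g : MulAction.stabilizer H ψ) :
    wAct ψ g ∈ (wForm ψ).isom := by
  intro v w
  obtain ⟨a, rfl⟩ := QuotientGroup.mk_surjective v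
  obtain ⟨b, rfl⟩ := QuotientGroup.mk_surjective w
  rw [wAct_mk, wAct_mk, wForm_mk, wForm_mk]
  refine Units.ext ?_
  rw [coe_commUnit, coe_commUnit, MulAut.conjNormal_apply, MulAut.conjNormal_apply,
    show ⁅(g : H) * a * (g : H)⁻¹, (g : H) * b * (g : H)⁻¹⁆ =
      ((g : H)⁻¹)⁻¹ * ⁅(a : H), (b : H)⁆ * (g : H)⁻¹ by simp [commutatorElement_def, mul_assoc]]
  exact congrFun (conjFun_eq_of_smul_eq (g⁻¹).2) _

open Classical in
/-- Representatives of the symplectic space as operators. -/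
noncomputable def wOp (ψ : Wt ρ R) (w : WSpace ψ) : End K V :=
  if w = 1 then 1 else ρ ((Quotient.out w : R) : H)

theorem wOp_mk (ψ : Wt ρ R) (a : R) :
    ∃ c : K, c ≠ 0 ∧ ∀ v ∈ wtSpace ρ R ψ.1, wOp ψ (QuotientGroup.mk a) v = c • ρ (a : H) v := by
  classical
  have hne := ψ.2.ne_bot
  by_cases h1 : (QuotientGroup.mk a : WSpace ψ) = 1
  · have ha : (a : H) ∈ radWt R ψ.1 := (QuotientGroup.eq_one_iff a).1 h1
    refine ⟨(ψ.1 a)⁻¹, inv_ne_zero (map_ne_zero_of_ne_bot hne ha), fun v hv => ?_⟩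
    rw [wOp, if_pos h1, hv _ ha, smul_smul, inv_mul_cancel₀ (map_ne_zero_of_ne_bot hne ha),
      one_smul, End.one_apply]
  · obtain ⟨z, hz⟩ := QuotientGroup.mk_out_eq_mul (radSub ψ) a
    have hz' : ((z : R) : H) ∈ radWt R ψ.1 := z.2
    refine ⟨ψ.1 ((z : R) : H), map_ne_zero_of_ne_bot hne hz', fun v hv => ?_⟩
    rw [wOp, if_neg h1, hz, Subgroup.coe_mul, ← rho_mul_apply, hv _ hz', map_smul]

theorem wOp_mem (ψ : Wt ρ R) (w : WSpace ψ) {v : V} (hv : v ∈ wtSpace ρ R ψ.1) :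
    wOp ψ w v ∈ wtSpace ρ R ψ.1 := by
  obtain ⟨a, rfl⟩ := QuotientGroup.mk_surjective w
  obtain ⟨c, _, hc⟩ := wOp_mk ψ a
  rw [hc v hv]
  exact Submodule.smul_mem _ _ (rho_mem_wtSpace hR.out ψ.2.ne_bot a.2 hv)

theorem wOp_mul (ψ : Wt ρ R) (x y : WSpace ψ) :
    ∃ c : K, c ≠ 0 ∧ ∀ v ∈ wtSpace ρ R ψ.1, wOp ψ x (wOp ψ y v) = c • wOp ψ (x * y) v := by
  obtain ⟨a, rfl⟩ := QuotientGroup.mk_surjective x
  obtain ⟨b, rfl⟩ := QuotientGroup.mk_surjective y
  obtain ⟨ca, hca0, hca⟩ := wOp_mk ψ a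
  obtain ⟨cb, hcb0, hcb⟩ := wOp_mk ψ b
  obtain ⟨cab, hcab0, hcab⟩ := wOp_mk ψ (a * b)
  refine ⟨ca * cb * cab⁻¹, mul_ne_zero (mul_ne_zero hca0 hcb0) (inv_ne_zero hcab0), fun v hv => ?_⟩
  rw [← QuotientGroup.mk_mul, hcab v hv, hcb v hv, map_smul,
    hca _ (rho_mem_wtSpace hR.out ψ.2.ne_bot b.2 hv), rho_mul_apply, Subgroup.coe_mul, smul_smul,
    smul_smul]
  congr 1
  rw [mul_assoc _ cab⁻¹, inv_mul_cancel₀ hcab0, mul_one, mul_comm]

theorem wOp_comm (ψ : Wt ρ R) (x y : WSpace ψ) {v : V} (hv : v ∈ wtSpace ρ R ψ.1) :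
    wOp ψ x (wOp ψ y v) = ((wForm ψ).B x y : K) • wOp ψ y (wOp ψ x v) := by
  obtain ⟨a, rfl⟩ := QuotientGroup.mk_surjective x
  obtain ⟨b, rfl⟩ := QuotientGroup.mk_surjective y
  obtain ⟨ca, _, hca⟩ := wOp_mk ψ a
  obtain ⟨cb, _, hcb⟩ := wOp_mk ψ b
  have hm := fun {c : H} (hc : c ∈ R) => rho_mem_wtSpace hR.out ψ.2.ne_bot hc hv
  rw [hcb v hv, map_smul, hca _ (hm b.2), hca v hv, map_smul, hcb _ (hm a.2), wForm_mk,
    coe_commUnit, smul_smul, smul_smul, smul_smul]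
  have e : ρ (a : H) (ρ (b : H) v) = ψ.1 ⁅(a : H), (b : H)⁆ • ρ (b : H) (ρ (a : H) v) := by
    rw [← rho_mem_wtSpace hR.out ψ.2.ne_bot b.2 (hm a.2) _
      (comm_mem_radWt hR.out ψ.2.ne_bot a.2 b.2), rho_mul_apply, rho_mul_apply, rho_mul_apply,
      commutatorElement_def]
    congr 2; group
  rw [e, smul_smul]
  congr 1; ring

omit [Finite H] in
theorem rho_mem_of_stab {ψ : Wt ρ R} {g : H} (hg : g ∈ MulAction.stabilizer H ψ) {v : V}
    (hv : v ∈ wtSpace ρ R ψ.1) : ρ g v ∈ wtSpace ρ R ψ.1 := by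
  have h : ρ g v ∈ wtSpace ρ R (g • ψ).1 := Wt.map_space g ψ ▸ Submodule.mem_map_of_mem hv
  rwa [MulAction.mem_stabilizer_iff.1 hg] at h

theorem rho_wOp (ψ : Wt ρ R) (g : MulAction.stabilizer H ψ) (w : WSpace ψ) :
    ∃ c : K, c ≠ 0 ∧ ∀ v ∈ wtSpace ρ R ψ.1,
      ρ (g : H) (wOp ψ w v) = c • wOp ψ (wAct ψ g w) (ρ (g : H) v) := by
  obtain ⟨a, rfl⟩ := QuotientGroup.mk_surjective w
  obtain ⟨ca, hca0, hca⟩ := wOp_mk ψ a
  obtain ⟨cb, hcb0, hcb⟩ := wOp_mk ψ (MulAut.conjNormal (g : H) a)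
  refine ⟨ca * cb⁻¹, mul_ne_zero hca0 (inv_ne_zero hcb0), fun v hv => ?_⟩
  rw [wAct_mk, hca v hv, hcb _ (rho_mem_of_stab g.2 hv), map_smul, smul_smul, mul_assoc,
    inv_mul_cancel₀ hcb0, mul_one, rho_mul_apply, rho_mul_apply, MulAut.conjNormal_apply,
    inv_mul_cancel_right]

end CfsgLib.TwoLength
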